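import Cfsg.Agent.Lib.Sporadic.FiTransfer.Outer.Coord
import Cfsg.Agent.Lib.Sporadic.FiTransfer.TwoCentral.Group
import Cfsg.Agent.Lib.Sporadic.FiTransfer.TwoCentral.Counting

/-!
The whole centraliser of a product of two commuting transpositions permutes the forty sets, with the
normal 2-subgroup as kernel.
-/

set_option autoImplicit false
set_option maxRecDepth 100000

open Cfsg.Spor Subgroup

namespace CfsgLib.Sporadic.FiTransfer.Outer

open CosetCert CosetCert.FiP CosetCert.FiP.OutFi22 TwoCentral
open CosetCert.FiData (table)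
open CfsgLib.Classical.PSpThree (perms exists_psp)

attribute [local irreducible] PTab.img symAt

/-- The centraliser of the involution. -/
noncomputable abbrev CjT : Subgroup (MulAut Fi22) :=
  centralizer ((Singleton.singleton jT : Set (MulAut Fi22)))

/-- A permutation given by a row. -/
def IsRow (σ : Equiv.Perm (Fin 40)) (r : List ℕ) : Prop := ∀ i : Fin 40, (σ i : ℕ) = r.getD i 40

theorem five_cases (i : Fin 5) : ∃ e ∈ allE, moveK e (fiveR.getD i []) = true ∧
    ∃ σ, IsRow σ (fiveR.getD i []) := by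
  have hk := act_ok
  simp only [actK, Bool.and_eq_true] at hk
  have hrow : ∀ r ∈ cRows, ∃ σ, IsRow σ r := fun r hr => exists_row (List.all_eq_true.1 rows_perm r hr)
  have hc : ∀ v, v < 40 → cRows.getD v [] ∈ cRows := fun v hv => by
    have : v < cRows.length := lt_of_lt_of_eq hv (by decide +kernel)
    rw [List.getD_eq_getElem _ _ this]
    exact List.getElem_mem _
  have hw : ∀ k : Fin 4, ∀ v, wIx.getD k 40 = v → fiveR.getD i [] = cRows.getD v [] → v < 40 →
      ∃ e ∈ allE, moveK e (fiveR.getD i []) = true ∧ ∃ σ, IsRow σ (fiveR.getD i []) := by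
    intro k v hv e hlt
    have h := List.all_eq_true.1 hk.1.2 k.1 (List.mem_range.2 k.2)
    rw [hv] at h
    refine ⟨wsE.getD k (false, []), ?_, e.symm ▸ h, e.symm ▸ hrow _ (hc v hlt)⟩
    rw [List.getD_eq_getElem _ _ (show k.1 < wsE.length from k.2)]
    exact List.mem_append_left _ (List.mem_append_right _ (List.getElem_mem _))
  fin_cases i
  · exact hw 0 11 rfl rfl (by norm_num)
  · exact hw 1 15 rfl rfl (by norm_num)
  · exact hw 2 6 rfl rfl (by norm_num)
  · exact hw 3 8 rfl rfl (by norm_num)
  · exact ⟨outE, List.mem_append_right _ List.mem_cons_self, hk.2, exists_row outRow_spec⟩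

/-- The properties of the action. -/
theorem structureC : CjT ≤ stab40 ∧ Nat.card CjT = 106168320 ∧
    ∀ h : CjT ≤ stab40, (act40.comp (inclusion h)).ker = (span jT bx bY).subgroupOf CjT := by
  classical
  have := finite_aut
  obtain ⟨φ, -, hcard, c, hc, hrange⟩ := exists_psp
  set L0 : Subgroup (Equiv.Perm (Fin 40)) := closure (Set.range c) with hL0
  have hL0card : Nat.card L0 = 25920 := by rw [← hcard, hrange]
  set H : Subgroup (MulAut Fi22) := closure (ev '' {e | e ∈ allE}) with hH
  have hev : ∀ e, e ∈ allE → ev e ∈ H := fun e he => subset_closure ⟨e, he, rfl⟩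
  have hHC : H ≤ CjT := (closure_le _).2 (by rintro _ ⟨e, he, rfl⟩; exact ev_mem_cent he)
  have hHS : H ≤ stab40 := (closure_le _).2 (by
    rintro _ ⟨e, he, rfl⟩
    rcases List.mem_append.1 (he : e ∈ allE) with he | he
    · rcases List.mem_append.1 he with he | he
      · exact (mem_act he).1
      · obtain ⟨i, hi, rfl⟩ := List.mem_iff_getElem.1 he
        have hk := act_ok
        simp only [actK, Bool.and_eq_true] at hk
        have h := List.all_eq_true.1 hk.1.2 i (List.mem_range.2 hi)
        rw [List.getD_eq_getElem _ _ hi] at h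
        have hr : ∀ k : Fin 4, (Nat.beq (cRows.getD (wIx.getD k 40) []).length 40 &&
            decide (cRows.getD (wIx.getD k 40) []).Nodup &&
            (cRows.getD (wIx.getD k 40) []).all fun i => Nat.blt i 40) = true := by decide +kernel
        obtain ⟨σ, hσ⟩ := exists_row (hr ⟨i, hi⟩)
        exact (move_spec (ok_all (List.mem_append_left _ (List.mem_append_right _ (List.getElem_mem _)))) h σ hσ).1
    · rw [List.mem_singleton.1 he]
      exact out_act.1)
  let ψ : H →* Equiv.Perm (Fin 40) := act40.comp (inclusion hHS)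
  have hcin : ∀ v, c v ∈ ψ.range := all_mem hc fun v hv => by
    obtain ⟨i, hi, hiv⟩ := List.mem_iff_getElem.1 hv
    have hk := act_ok
    simp only [actK, Bool.and_eq_true] at hk
    have h := List.all_eq_true.1 hk.1.2 i (List.mem_range.2 hi)
    have hiw : i < wsE.length := hi
    rw [List.getD_eq_getElem _ _ hi, hiv, List.getD_eq_getElem _ _ hiw] at h
    have hmem : wsE[i] ∈ allE := List.mem_append_left _ (List.mem_append_right _ (List.getElem_mem _))
    obtain ⟨hm, he⟩ := move_spec (ok_all hmem) h (c v) fun k => c_val hc v k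
    exact ⟨⟨_, hev _ hmem⟩, he⟩
  have hL0le : L0 ≤ ψ.range := (closure_le _).2 (by rintro _ ⟨v, rfl⟩; exact hcin v)
  have hout : cOut ∈ ψ.range := by
    obtain ⟨hm, he⟩ := out_act
    exact ⟨⟨_, hev _ (List.mem_append_right _ List.mem_cons_self)⟩, he⟩
  have hrange2 : 51840 ≤ Nat.card ψ.range := by
    obtain ⟨k, hk⟩ := card_dvd_of_le hL0le
    rw [hL0card] at hk
    rcases k with - | - | k
    · exact absurd (hk.trans (mul_zero _)) Nat.card_pos.ne'
    · exfalso
      refine cOut_not_mem hc ?_
      rw [← hL0, eq_of_le_of_card_ge hL0le (le_of_eq (by rw [hk, hL0card]))]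
      exact hout
    · omega
  have hgen : ∀ i, bx i ∈ H ∧ bY i ∈ H := fun i => ⟨hev _ (mem_allE_x i), hev _ (mem_allE_y i)⟩
  have hker0 : ∀ i, bx i ∈ ψ.ker.map H.subtype ∧ bY i ∈ ψ.ker.map H.subtype := fun i => by
    have key : ∀ e ∈ xsE ++ ysE, ev e ∈ ψ.ker.map H.subtype := fun e he => by
      obtain ⟨hm, h1⟩ := mem_act he
      exact ⟨⟨ev e, hev _ (List.mem_append_left _ (List.mem_append_left _ he))⟩,
        MonoidHom.mem_ker.2 h1, rfl⟩
    refine ⟨key _ (List.mem_append_left _ ?_), key _ (List.mem_append_right _ ?_)⟩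
    · rw [List.getD_eq_getElem _ _ (show i.1 < xsE.length from i.2)]; exact List.getElem_mem _
    · rw [List.getD_eq_getElem _ _ (show i.1 < ysE.length from i.2)]; exact List.getElem_mem _
  have hspan : span jT bx bY ≤ ψ.ker.map H.subtype := by
    rw [span, closure_le]
    rintro _ ((rfl | ⟨i, rfl⟩) | ⟨i, rfl⟩)
    · have h := basis.yx 0 0
      rw [if_pos rfl] at h
      have e : jT = (bx 0 * bY 0)⁻¹ * (bY 0 * bx 0) := eq_inv_mul_of_mul_eq (by rw [h])
      exact e ▸ mul_mem (inv_mem (mul_mem (hker0 0).1 (hker0 0).2)) (mul_mem (hker0 0).2 (hker0 0).1)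
    · exact (hker0 i).1
    · exact (hker0 i).2
  have hkercard : 2 ^ 11 ≤ Nat.card ψ.ker := by
    rw [← basis.exists_coord.1, ← card_map_of_injective (f := H.subtype) H.subtype_injective]
    exact card_le_of_le hspan
  have hmul : Nat.card ψ.ker * Nat.card ψ.range = Nat.card H := by
    rw [← index_ker, card_mul_index]
  have hHle : Nat.card H ≤ Nat.card CjT := card_le_of_le hHC
  have hCle := card_cent_le
  have hHge : 2 ^ 11 * 51840 ≤ Nat.card H := hmul ▸ Nat.mul_le_mul hkercard hrange2
  have hHeq : H = CjT := eq_of_le_of_card_ge hHC (hCle.trans ((Nat.le_of_eq (by norm_num)).trans hHge))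
  have hk2 : Nat.card ψ.ker ≤ 2 ^ 11 := by
    by_contra hlt
    rw [not_le] at hlt
    have : (2 ^ 11 + 1) * 51840 ≤ Nat.card H := hmul ▸ Nat.mul_le_mul hlt hrange2
    have := this.trans (hHle.trans hCle)
    norm_num at this
  have hkereq : span jT bx bY = ψ.ker.map H.subtype :=
    eq_of_le_of_card_ge hspan (by
      rw [card_map_of_injective (f := H.subtype) H.subtype_injective, basis.exists_coord.1]; exact hk2)
  refine ⟨hHeq ▸ hHS, le_antisymm hCle ((le_of_eq (by norm_num)).trans (hHge.trans hHle)), fun h => ?_⟩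
  ext q
  rw [MonoidHom.mem_ker, mem_subgroupOf, hkereq]
  constructor
  · intro hq
    exact ⟨⟨q.1, hHeq.ge q.2⟩, MonoidHom.mem_ker.2 hq, rfl⟩
  · rintro ⟨z, hz, e⟩
    rw [show q = ⟨z.1, hHC z.2⟩ from Subtype.ext e.symm]
    exact hz

/-- The action of the centraliser on the forty sets. -/
noncomputable def th40 : CjT →* Equiv.Perm (Fin 40) := act40.comp (inclusion structureC.1)

theorem ker_th40 : th40.ker = (span jT bx bY).subgroupOf CjT := structureC.2.2 _

theorem th40_row {e : Bool × List ℕ} (he : Ok e) (hm : ev e ∈ CjT) {row : List ℕ} (h : moveK e row = true)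
    {σ : Equiv.Perm (Fin 40)} (hσ : IsRow σ row) : th40 ⟨ev e, hm⟩ = σ :=
  (move_spec he h σ hσ).2

theorem five_row (i : Fin 5) : ∃ z : CjT, IsRow (th40 z) (fiveR.getD i []) := by
  obtain ⟨e, he, hk, σ, hσ⟩ := five_cases i
  exact ⟨⟨ev e, ev_mem_cent he⟩, (th40_row (ok_all he) _ hk hσ).symm ▸ hσ⟩

end CfsgLib.Sporadic.FiTransfer.Outer
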