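import Cfsg.Agent.Lib.Sporadic.FiTransfer.Outer.Data
import Cfsg.Agent.Lib.Sporadic.FiTransfer.TwoCentral.Checks
import Cfsg.Agent.Lib.Sporadic.Fi22Out.Points

/-!
Kernel checks for the fixed groups of the outer involutions of Fi22.
-/

set_option autoImplicit false
set_option maxRecDepth 100000
set_option Elab.async false

namespace CfsgLib.Sporadic.FiTransfer.Outer

open CosetCert CosetCert.FiP.OutFi22 TwoCentral
open CosetCert.FiData (table)

/-- The position of a number. -/
noncomputable def pos (l : List ℕ) (y : ℕ) : ℕ := l.findIdx fun x => Nat.beq x y

/-- The word of a point from a half. -/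
def wOf (h : List ℕ × ℕ) : List ℕ := fullWord h

/-- The classes: sizes and members. -/
noncomputable def clK : Bool :=
  Nat.beq clPts.length 3 && (clPts.all fun c => Nat.beq c.length 120) &&
    decide clPts.flatten.Nodup && clPts.flatten.all fun p => Nat.blt p 3510 && Nat.beq (symAt p) p

/-- The half words of the generators. -/
noncomputable def half8K : Bool :=
  Nat.beq gIx8.length 8 && Nat.beq gHalf8.length 8 && (gIx8.all fun i => Nat.blt i 120) &&
    ((List.range 8).all fun k =>
      halfK ((clPts.getD 0 []).getD (gIx8.getD k 0) 3510) (gHalf8.getD k ([], 9))) &&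
      halfK zPt zHalf && (clPts.getD 2 []).contains zPt && Nat.beq ((clPts.getD 0 []).getD 0 3510) 16

/-- The image of a numbered point of the first class under a generator, by number. -/
noncomputable def row8 (k v : ℕ) : ℕ :=
  pos (clPts.getD 0 []) (table.imgW (wOf (gHalf8.getD k ([], 9))) ((clPts.getD 0 []).getD v 3510))

/-- The bit of a code as a number. -/
noncomputable def bitN (c i : ℕ) : ℕ := bif Nat.testBit c i then 1 else 0

/-- The polar form on codes in dimension eight. -/
noncomputable def pol8 (a b : ℕ) : ℕ :=
  Nat.mod ((List.range 4).foldl (fun acc i => acc + bitN a i * bitN b (i + 4) + bitN a (i + 4) * bitN b i) 0) 2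

/-- The generators act on the vectors as transvections. -/
noncomputable def transv8K : Bool :=
  (List.range 8).all fun k => (List.range 120).all fun v =>
    let g := vCodes.getD (gIx8.getD k 0) 0
    let x := vCodes.getD v 0
    Nat.blt (row8 k v) 120 &&
      Nat.beq (vCodes.getD (row8 k v) 0) (bif Nat.beq (pol8 g x) 1 then Nat.xor x g else x)

/-- A search on numbers with rows. -/
noncomputable def searchK (n : ℕ) (row : ℕ → ℕ → ℕ) (ng : ℕ) : List (ℕ × ℕ × ℕ) → List ℕ → Bool
  | [], seen => (List.range n).all fun p => seen.contains p
  | s :: r, seen => Nat.blt s.2.1 seen.length && Nat.blt s.2.2 ng &&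
      Nat.beq (row s.2.2 (seen.getD s.2.1 n)) s.1 && Nat.blt s.1 n && searchK n row ng r (seen ++ [s.1])

/-- An element carries a class into a class. -/
noncomputable def carryK (L : List ℕ) (i k : ℕ) : Bool :=
  let m := maskOf (clPts.getD k [])
  (clPts.getD i []).all fun p => Nat.testBit m (table.imgW L p)

/-- How the generators permute the classes. -/
noncomputable def classK : Bool :=
  (List.range 8).all (fun k =>
    let L := wOf (gHalf8.getD k ([], 9))
    carryK L 0 0 && carryK L 1 2 && carryK L 2 1) &&
  carryK (wOf zHalf) 0 1 && carryK (wOf zHalf) 1 0 && carryK (wOf zHalf) 2 2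

/-- The pairs: sizes and members. -/
noncomputable def blkK : Bool :=
  Nat.beq blkPts.length 36 && (blkPts.all fun b => Nat.beq b.length 2) && decide blkPts.flatten.Nodup &&
    blkPts.flatten.all fun p => Nat.blt p 3510 && Nat.beq (app (true, [3, 8]) p) p

/-- The half words of the generating pairs. -/
noncomputable def half6K : Bool :=
  Nat.beq gHalf6.length gIx6.length && (gIx6.all fun i => Nat.blt i 36) &&
    (List.range gIx6.length).all fun k =>
      halfK ((blkPts.getD (gIx6.getD k 0) []).getD 0 3510) (gHalf6.getD k ([], 9))

/-- The image of a pair under a generator, by number. -/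
noncomputable def row6 (k v : ℕ) : ℕ :=
  blkPts.findIdx fun b => b.contains (table.imgW (wOf (gHalf6.getD k ([], 9))) ((blkPts.getD v []).getD 0 3510))

/-- The quadratic form on codes in dimension six. -/
noncomputable def pol6 (a b : ℕ) : ℕ :=
  Nat.mod (bitN a 0 * bitN b 2 + bitN a 2 * bitN b 0 + bitN a 1 * bitN b 3 + bitN a 3 * bitN b 1 +
    bitN a 4 * bitN b 5 + bitN a 5 * bitN b 4) 2

/-- The generating pairs act on the vectors as transvections. -/
noncomputable def transv6K : Bool :=
  (List.range gIx6.length).all fun k => (List.range 36).all fun v =>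
    let g := bCodes.getD (gIx6.getD k 0) 0
    let x := bCodes.getD v 0
    Nat.blt (row6 k v) 36 &&
      (let m := maskOf (blkPts.getD (row6 k v) [])
       (blkPts.getD v []).all fun p => Nat.testBit m (table.imgW (wOf (gHalf6.getD k ([], 9))) p)) &&
      Nat.beq (bCodes.getD (row6 k v) 0) (bif Nat.beq (pol6 g x) 1 then Nat.xor x g else x)

/-- The word of the product of a pair. -/
def oWord (h : (List ℕ × ℕ) × (List ℕ × ℕ)) : List ℕ := fullWord h.1 ++ fullWord h.2

/-- The generators of the normal 2-subgroup: words, trivial action, relations. -/
noncomputable def oK : Bool :=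
  Nat.beq oIx.length 6 && Nat.beq oHalf.length 6 &&
    ((List.range 6).all fun k =>
      let b := blkPts.getD (oIx.getD k 36) []
      let h := oHalf.getD k (([], 9), ([], 9))
      halfK (b.getD 0 3510) h.1 && halfK (b.getD 1 3510) h.2 && Nat.blt (oIx.getD k 36) 36 &&
        (List.range 36).all fun v =>
          let m := maskOf (blkPts.getD v [])
          (blkPts.getD v []).all fun p => Nat.testBit m (table.imgW (oWord h) p)) &&
    oHalf.all fun a => sameK (oWord a ++ oWord a) [] &&
      oHalf.all fun b => sameK (oWord a ++ oWord b) (oWord b ++ oWord a)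

/-- The word of a sublist of the generators. -/
noncomputable def oSub (s : ℕ) : List ℕ :=
  (List.range 6).foldl (fun acc k =>
    bif Nat.testBit s k then acc ++ oWord (oHalf.getD k (([], 9), ([], 9))) else acc) []

/-- The images of the generator points packed. -/
noncomputable def sigOf (L : List ℕ) : ℕ :=
  (List.range 9).foldl (fun acc j => acc + table.imgW L (genPts.getD j 3510) * 2 ^ (12 * j)) 0

/-- The products of the sublists of the generators differ. -/
noncomputable def oFreeK : Bool :=
  Nat.beq oSigs.length 64 && decide oSigs.Nodup &&
    (List.range 64).all fun s => Nat.beq (sigOf (oSub s)) (oSigs.getD s 0)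

theorem cl_ok : clK = true := by decide +kernel

theorem half8_ok : half8K = true := by decide +kernel

theorem transv8_ok : transv8K = true := by decide +kernel

theorem search8_ok : searchK 120 row8 8 step8 [0] = true := by decide +kernel

theorem class_ok : classK = true := by decide +kernel

theorem blk_ok : blkK = true := by decide +kernel

theorem half6_ok : half6K = true := by decide +kernel

theorem transv6_ok : transv6K = true := by decide +kernel

theorem search6_ok : searchK 36 row6 gIx6.length step6 [gIx6.getD 0 36] = true := by decide +kernel

theorem o_ok : oK = true := by decide +kernel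

theorem oFree_ok : oFreeK = true := by decide +kernel

end CfsgLib.Sporadic.FiTransfer.Outer
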