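import Cfsg.Agent.Lib.Sporadic.FiTransfer.Outer.ClassData
import Cfsg.Agent.Lib.Sporadic.FiTransfer.TwoCentral.Checks

/-!
Kernel checks for the classes of outer involutions of Fi22.
-/

set_option autoImplicit false
set_option maxRecDepth 100000
set_option Elab.async false

namespace CfsgLib.Sporadic.FiTransfer.Outer

open CosetCert CosetCert.FiP.OutFi22 TwoCentral
open CosetCert.FiData (table)

/-- The eleven basic elements. -/
def gE (k : ℕ) : Bool × List ℕ := (xsE ++ ysE ++ [tE]).getD k (false, [])

/-- The pairing of the basis. -/
def eK (m k : ℕ) : Bool := Nat.blt k 5 && Nat.beq m (k + 5)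

/-- The squares of the basis. -/
def sK (k : ℕ) : Bool := Nat.beq k 9

/-- The word of a vector. -/
noncomputable def valL (v : ℕ) : List (Bool × List ℕ) :=
  ((List.range 11).filter fun k => Nat.testBit v k).map gE

/-- The relations of the basis. -/
noncomputable def relK : Bool :=
  (List.range 11).all fun m =>
    sameS [gE m, gE m] (bif sK m then [tE] else []) &&
      (List.range m).all fun k => sameS [gE m, gE k] ([gE k, gE m] ++ bif eK m k then [tE] else [])

/-- Right multiplication of a vector by a basic element. -/
noncomputable def stepN (v k : ℕ) : ℕ :=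
  Nat.xor (Nat.xor v (Nat.pow 2 k))
    (bif (Nat.testBit v k && sK k) || (Nat.blt k 5 && Nat.testBit v (k + 5)) then 1024 else 0)

/-- Multiplication by the first basic elements of a vector. -/
noncomputable def mulR (v u : ℕ) : ℕ → ℕ :=
  Nat.rec v fun n r => bif Nat.testBit u n then stepN r n else r

/-- The product of two vectors. -/
noncomputable def mulN (v u : ℕ) : ℕ := mulR v u 11

/-- The image of the first coordinates of a vector. -/
noncomputable def cR (t : List ℕ) (v : ℕ) : ℕ → ℕ :=
  Nat.rec 0 fun n r => bif Nat.testBit v n then mulN r (t.getD n 0) else r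

/-- The image of a vector under a map given on the basis. -/
noncomputable def cN (t : List ℕ) (v : ℕ) : ℕ := cR t v 11

/-- An element acts on the basic elements as listed. -/
noncomputable def conjK (e : Bool × List ℕ) (t : List ℕ) : Bool :=
  (List.range 11).all fun k => Nat.blt (t.getD k 0) 2048 && sameS [e, gE k] (valL (t.getD k 0) ++ [e])

/-- The representative of a number. -/
def rE (k : ℕ) : Bool × List ℕ := repE.getD k (false, [])

/-- Its action. -/
def rT (k : ℕ) : List ℕ := (repAct.getD k ([], 0)).1

/-- Its square. -/
def rS (k : ℕ) : ℕ := (repAct.getD k ([], 0)).2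

/-- The further elements of a representative. -/
def rM (k : ℕ) : List ((Bool × List ℕ) × List ℕ × ℕ) := moveE.getD k []

/-- The flag and letters of an element are as needed. -/
def innerK (e : Bool × List ℕ) : Bool := e.2.all fun x => Nat.blt x 9

/-- The representatives. -/
noncomputable def repK : Bool :=
  (List.range 5).all fun k =>
    innerK (rE k) && !((rE k).1) && sameS [rE k, tE] [tE, rE k] && moveK (rE k) (repRows.getD k []) &&
      conjK (rE k) (rT k) && Nat.blt (rS k) 2048 && sameS [rE k, rE k] (valL (rS k)) &&
      (rM k).all fun h => innerK h.1 && Nat.blt h.2.2 2048 && conjK h.1 h.2.1 &&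
        sameS [h.1, rE k] (valL h.2.2 ++ [rE k, h.1])

/-- The taus. -/
def tauE : List (Bool × List ℕ) := [(true, []), (true, [3]), (true, [3, 8])]

/-- A root is conjugate to one of the taus. -/
noncomputable def rootK (k : ℕ) (r : ℕ × ℕ × List (Bool × List ℕ)) : Bool :=
  Nat.blt r.1 2048 && Nat.blt r.2.1 3 && r.2.2.all innerK &&
    sameS (r.2.2 ++ valL r.1 ++ [rE k]) ([tauE.getD r.2.1 (false, [])] ++ r.2.2)

/-- A step of a search. -/
noncomputable def stepK (k : ℕ) (s : ℕ × ℕ × Bool × ℕ × ℕ) : Bool :=
  bif s.2.2.1 then
    Nat.blt s.2.2.2.1 2048 && Nat.blt s.2.2.2.2 2048 && Nat.beq (mulN s.2.2.2.1 s.2.2.2.2) 0 &&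
      Nat.beq (mulN (mulN s.2.2.2.1 s.2.1) (cN (rT k) s.2.2.2.2)) s.1
  else
    Nat.blt s.2.2.2.1 (rM k).length &&
      Nat.beq (mulN (cN ((rM k).getD s.2.2.2.1 ((false, []), [], 0)).2.1 s.2.1)
        ((rM k).getD s.2.2.2.1 ((false, []), [], 0)).2.2) s.1

/-- A search. -/
noncomputable def searchC (k : ℕ) : List (ℕ × ℕ × Bool × ℕ × ℕ) → ℕ → Bool
  | [], seen => (List.range 2048).all fun v =>
      !(Nat.testBit v 9 && Nat.beq (mulN (mulN v (cN (rT k) v)) (rS k)) 0) || Nat.testBit seen v
  | s :: r, seen => Nat.testBit seen s.2.1 && stepK k s && searchC k r (Nat.lor seen (Nat.shiftLeft 1 s.1))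

/-- The search of a representative with its roots. -/
noncomputable def orbitK (k : ℕ) (l : List (ℕ × ℕ × Bool × ℕ × ℕ)) : Bool :=
  (rootW.getD k []).all (rootK k) && searchC k l (maskOf ((rootW.getD k []).map Prod.fst))

/-- Composition of rows. -/
def compR (r s : List ℕ) : List ℕ := s.map fun i => r.getD i 40

/-- The rows generating the image. -/
def fiveR : List (List ℕ) :=
  [cRows.getD 11 [], cRows.getD 15 [], cRows.getD 6 [], cRows.getD 8 [], outRow]

/-- The row of a word. -/
def wordR (L : List ℕ) : List ℕ := L.foldr (fun i r => compR (fiveR.getD i []) r) (List.range 40)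

/-- The Sylow subgroup on the forty sets. -/
noncomputable def sylK : Bool :=
  Nat.beq sylRows.length 128 && decide sylRows.Nodup && decide (sylRows.getD 0 [] = List.range 40) &&
    Nat.beq sylStep.length 127 && Nat.beq sylWords.length 3 &&
    (sylWords.all fun w => w.all fun i => Nat.blt i 5) &&
    ((List.range 127).all fun i =>
      let s := sylStep.getD i (0, 0)
      Nat.ble s.1 i && Nat.blt s.2 3 &&
        decide (sylRows.getD (i + 1) [] = compR (sylRows.getD s.1 []) (wordR (sylWords.getD s.2 [])))) &&
    sylRows.all fun r => (List.range 3).all fun k =>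
      sylRows.contains (compR r (wordR (sylWords.getD k [])))

/-- Each involution of the Sylow subgroup is conjugate to a representative. -/
noncomputable def witK : Bool :=
  (List.range 128).all fun i =>
    let r := sylRows.getD i []
    !(decide (compR r r = List.range 40)) || invWit.any fun w =>
      Nat.beq w.1 i && Nat.blt w.2.1 5 && (w.2.2.all fun x => Nat.blt x 5) &&
        decide (compR (wordR w.2.2) r = compR (repRows.getD w.2.1 []) (wordR w.2.2))

theorem rel_ok : relK = true := by decide +kernel

theorem rep_ok : repK = true := by decide +kernel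

theorem syl_ok : sylK = true := by decide +kernel

theorem wit_ok : witK = true := by decide +kernel

theorem class0_ok : orbitK 0 orbS0 = true := by decide +kernel

theorem class1_ok : orbitK 1 orbS1 = true := by decide +kernel

theorem class2_ok : orbitK 2 orbS2 = true := by decide +kernel

theorem class3_ok : orbitK 3 orbS3 = true := by decide +kernel

theorem class4_ok : orbitK 4 orbS4 = true := by decide +kernel

end CfsgLib.Sporadic.FiTransfer.Outer
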