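import Mathlib.Data.Nat.Notation

/-!
Data for the classes of outer involutions of Fi22.
-/

set_option autoImplicit false
set_option maxRecDepth 100000

namespace CfsgLib.Sporadic.FiTransfer.Outer

/-- Generators of a Sylow 2-subgroup on the forty sets, as words. -/
def sylWords : List (List ℕ) := [[2, 2, 4, 2], [1, 1, 3, 4, 3, 1, 4, 0, 0, 2], [2, 4, 2, 0, 4, 1, 0, 0]]

/-- Its elements. -/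
def sylRows : List (List ℕ) := [
  [0, 1, 2, 3, 4, 5, 6, 7, 8, 9, 10, 11, 12, 13, 14, 15, 16, 17, 18, 19, 20, 21, 22, 23, 24, 25, 26, 27, 28, 29, 30, 31, 32, 33, 34, 35, 36, 37, 38, 39],
  [1, 0, 3, 2, 19, 16, 13, 20, 17, 14, 21, 18, 15, 6, 9, 12, 5, 8, 11, 4, 7, 10, 38, 35, 32, 39, 36, 33, 37, 34, 31, 30, 24, 27, 29, 23, 26, 28, 22, 25],
  [3, 1, 2, 0, 7, 5, 12, 4, 11, 9, 10, 8, 6, 23, 25, 30, 26, 28, 24, 29, 22, 27, 20, 13, 18, 14, 16, 21, 17, 19, 15, 35, 37, 33, 38, 31, 36, 32, 34, 39],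
  [8, 20, 34, 24, 36, 19, 23, 9, 0, 7, 22, 21, 35, 30, 17, 31, 37, 14, 27, 5, 1, 11, 10, 6, 3, 32, 28, 18, 26, 39, 13, 15, 25, 38, 2, 12, 4, 16, 33, 29],
  [2, 0, 3, 1, 20, 16, 15, 19, 18, 14, 21, 17, 13, 35, 39, 31, 36, 37, 32, 34, 38, 33, 7, 6, 11, 9, 5, 10, 8, 4, 12, 23, 28, 27, 22, 30, 26, 24, 29, 25],
  [17, 7, 29, 32, 26, 4, 35, 14, 1, 20, 38, 10, 23, 31, 8, 30, 28, 9, 33, 16, 0, 18, 21, 13, 2, 24, 37, 11, 36, 25, 6, 12, 39, 22, 3, 15, 19, 5, 27, 34],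
  [1, 3, 0, 2, 29, 26, 23, 22, 28, 25, 27, 24, 30, 12, 9, 6, 5, 11, 8, 7, 4, 10, 34, 31, 37, 39, 36, 33, 32, 38, 35, 15, 18, 21, 19, 13, 16, 17, 20, 14],
  [11, 22, 38, 18, 36, 29, 13, 9, 3, 4, 20, 27, 31, 15, 28, 35, 32, 25, 21, 5, 1, 8, 10, 12, 0, 37, 17, 24, 16, 39, 23, 30, 14, 34, 2, 6, 7, 26, 33, 19],
  [20, 8, 24, 34, 5, 37, 30, 1, 14, 17, 11, 27, 31, 23, 7, 35, 19, 0, 21, 36, 9, 22, 33, 12, 25, 29, 4, 38, 16, 2, 15, 13, 3, 18, 39, 6, 28, 26, 10, 32],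
  [24, 20, 34, 8, 9, 19, 35, 36, 21, 7, 22, 0, 23, 6, 32, 13, 28, 26, 3, 39, 10, 18, 1, 30, 27, 17, 37, 11, 14, 5, 31, 12, 16, 38, 33, 15, 4, 25, 2, 29],
  [0, 2, 1, 3, 34, 36, 35, 38, 37, 39, 33, 32, 31, 15, 14, 13, 16, 18, 17, 20, 19, 21, 29, 30, 28, 25, 26, 27, 24, 22, 23, 12, 11, 10, 4, 6, 5, 8, 7, 9],
  [18, 38, 22, 11, 26, 34, 6, 14, 2, 19, 7, 33, 30, 12, 37, 23, 24, 39, 10, 16, 0, 17, 21, 15, 1, 28, 8, 32, 5, 25, 35, 31, 9, 29, 3, 13, 20, 36, 27, 4],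
  [7, 17, 32, 29, 16, 28, 31, 0, 9, 8, 18, 33, 30, 35, 20, 23, 4, 1, 10, 26, 14, 38, 27, 15, 39, 34, 19, 22, 5, 3, 12, 6, 2, 11, 25, 13, 37, 36, 21, 24],
  [32, 7, 29, 17, 14, 4, 23, 26, 10, 20, 38, 1, 35, 13, 24, 6, 37, 36, 2, 25, 21, 11, 0, 31, 33, 8, 28, 18, 9, 16, 30, 15, 5, 22, 27, 12, 19, 39, 3, 34],
  [2, 3, 0, 1, 22, 26, 30, 29, 24, 25, 27, 28, 23, 31, 39, 35, 36, 32, 37, 38, 34, 33, 4, 12, 8, 9, 5, 10, 11, 7, 6, 13, 17, 21, 20, 15, 16, 18, 19, 14],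
  [28, 4, 19, 37, 16, 7, 31, 25, 1, 22, 34, 10, 13, 35, 11, 15, 17, 9, 33, 26, 3, 24, 27, 23, 2, 18, 32, 8, 36, 14, 12, 6, 39, 20, 0, 30, 29, 5, 21, 38],
  [22, 11, 18, 38, 5, 32, 15, 1, 25, 28, 8, 21, 35, 13, 4, 31, 29, 3, 27, 36, 9, 20, 33, 6, 14, 19, 7, 34, 26, 2, 30, 23, 0, 24, 39, 12, 17, 16, 10, 37],
  [18, 22, 38, 11, 9, 29, 31, 36, 27, 4, 20, 3, 13, 12, 37, 23, 17, 16, 0, 39, 10, 24, 1, 15, 21, 28, 32, 8, 25, 5, 35, 6, 26, 34, 33, 30, 7, 14, 2, 19],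
  [34, 8, 24, 20, 1, 37, 31, 5, 27, 17, 11, 14, 30, 12, 29, 15, 4, 16, 25, 2, 33, 38, 9, 23, 21, 7, 19, 22, 0, 36, 35, 6, 26, 18, 10, 13, 28, 3, 39, 32],
  [14, 9, 39, 25, 28, 36, 12, 17, 20, 1, 33, 22, 6, 15, 0, 13, 26, 7, 38, 37, 8, 27, 11, 30, 34, 3, 16, 21, 4, 32, 23, 35, 29, 10, 24, 31, 5, 19, 18, 2],
  [20, 24, 8, 34, 39, 28, 6, 10, 26, 32, 18, 3, 13, 35, 7, 23, 19, 21, 0, 9, 36, 22, 2, 15, 16, 29, 4, 38, 25, 33, 12, 31, 27, 11, 5, 30, 37, 14, 1, 17],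
  [21, 10, 33, 27, 4, 39, 30, 7, 24, 36, 1, 18, 15, 31, 26, 12, 25, 32, 11, 19, 20, 0, 22, 35, 8, 16, 14, 3, 37, 29, 6, 13, 17, 2, 34, 23, 9, 28, 38, 5],
  [3, 2, 1, 0, 38, 36, 31, 34, 32, 39, 33, 37, 35, 30, 25, 23, 26, 24, 28, 22, 29, 27, 19, 15, 17, 14, 16, 21, 18, 20, 13, 6, 8, 10, 7, 12, 5, 11, 4, 9],
  [37, 19, 4, 28, 5, 20, 30, 39, 0, 38, 29, 21, 6, 23, 18, 12, 8, 14, 27, 36, 2, 32, 33, 35, 3, 11, 24, 17, 26, 9, 15, 13, 25, 7, 1, 31, 34, 16, 10, 22],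
  [38, 18, 11, 22, 16, 24, 12, 0, 39, 37, 17, 10, 23, 6, 19, 30, 34, 2, 33, 26, 14, 7, 27, 13, 9, 4, 20, 29, 36, 3, 31, 35, 1, 32, 25, 15, 8, 5, 21, 28],
  [11, 38, 22, 18, 14, 34, 30, 26, 33, 19, 7, 2, 6, 15, 28, 35, 8, 5, 1, 25, 21, 32, 0, 12, 10, 37, 24, 17, 39, 16, 23, 13, 36, 29, 27, 31, 20, 9, 3, 4],
  [29, 17, 32, 7, 0, 28, 30, 16, 33, 8, 18, 9, 31, 15, 34, 12, 19, 5, 39, 3, 27, 22, 14, 35, 10, 20, 4, 38, 1, 26, 23, 13, 36, 11, 21, 6, 37, 2, 25, 24],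
  [9, 14, 25, 39, 37, 26, 15, 8, 7, 0, 27, 38, 13, 12, 1, 6, 36, 20, 22, 28, 17, 33, 18, 31, 29, 2, 5, 10, 19, 24, 35, 23, 34, 21, 32, 30, 16, 4, 11, 3],
  [7, 32, 17, 29, 25, 37, 13, 21, 36, 24, 11, 2, 6, 23, 20, 35, 4, 10, 1, 14, 26, 38, 3, 12, 5, 34, 19, 22, 39, 27, 15, 30, 33, 18, 16, 31, 28, 9, 0, 8],
  [10, 21, 27, 33, 19, 25, 31, 20, 32, 26, 0, 11, 12, 30, 36, 15, 39, 24, 18, 4, 7, 1, 38, 23, 17, 5, 9, 2, 28, 34, 13, 6, 8, 3, 29, 35, 14, 37, 22, 16],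
  [24, 34, 20, 8, 16, 38, 12, 25, 2, 29, 4, 33, 15, 6, 32, 13, 18, 39, 10, 26, 3, 28, 27, 30, 1, 17, 11, 37, 5, 14, 31, 35, 9, 19, 0, 23, 22, 36, 21, 7],
  [4, 28, 37, 19, 26, 17, 35, 3, 9, 11, 24, 33, 15, 31, 22, 13, 7, 1, 10, 16, 25, 34, 21, 30, 39, 38, 29, 20, 5, 0, 6, 12, 2, 8, 14, 23, 32, 36, 27, 18],
  [37, 4, 19, 28, 25, 7, 13, 16, 10, 22, 34, 1, 31, 23, 18, 12, 32, 36, 2, 14, 27, 8, 3, 35, 33, 11, 17, 24, 9, 26, 15, 30, 5, 20, 21, 6, 29, 39, 0, 38],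
  [38, 11, 18, 22, 1, 32, 35, 5, 21, 28, 8, 25, 15, 6, 19, 30, 7, 26, 14, 2, 33, 34, 9, 13, 27, 4, 29, 20, 3, 36, 31, 12, 16, 24, 10, 23, 17, 0, 39, 37],
  [25, 9, 39, 14, 17, 36, 6, 28, 22, 1, 33, 20, 12, 30, 3, 23, 16, 4, 34, 32, 11, 21, 8, 15, 38, 0, 26, 27, 7, 37, 13, 31, 19, 10, 18, 35, 5, 29, 24, 2],
  [22, 18, 11, 38, 39, 17, 12, 10, 16, 37, 24, 0, 23, 31, 4, 13, 29, 27, 3, 9, 36, 20, 2, 30, 26, 19, 7, 34, 14, 33, 6, 35, 21, 8, 5, 15, 32, 25, 1, 28],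
  [27, 10, 33, 21, 7, 39, 15, 4, 18, 36, 1, 24, 30, 35, 16, 6, 14, 37, 8, 29, 22, 3, 20, 31, 11, 26, 25, 0, 32, 19, 12, 23, 28, 2, 38, 13, 9, 17, 34, 5],
  [8, 34, 20, 24, 2, 4, 12, 33, 16, 29, 38, 25, 15, 31, 17, 30, 37, 27, 14, 1, 5, 11, 39, 13, 26, 32, 28, 18, 3, 10, 6, 35, 21, 22, 36, 23, 19, 0, 9, 7],
  [27, 33, 10, 21, 28, 2, 23, 17, 34, 5, 9, 38, 13, 35, 16, 6, 3, 29, 22, 37, 8, 14, 11, 31, 20, 26, 0, 25, 19, 32, 12, 15, 7, 39, 24, 30, 1, 4, 18, 36],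
  [34, 24, 8, 20, 10, 28, 13, 39, 3, 32, 18, 26, 6, 15, 29, 12, 4, 25, 16, 33, 2, 38, 36, 35, 0, 7, 19, 22, 21, 9, 23, 30, 14, 11, 1, 31, 37, 27, 5, 17],
  [26, 36, 5, 16, 37, 9, 15, 32, 20, 10, 2, 22, 30, 12, 21, 31, 14, 7, 38, 28, 24, 3, 18, 6, 34, 27, 25, 0, 4, 17, 35, 23, 29, 1, 8, 13, 39, 19, 11, 33],
  [32, 29, 7, 17, 5, 22, 15, 39, 3, 34, 19, 27, 12, 13, 24, 6, 11, 25, 21, 36, 2, 37, 33, 31, 0, 8, 18, 28, 16, 9, 30, 23, 14, 4, 1, 35, 38, 26, 10, 20],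
  [19, 37, 28, 4, 36, 8, 23, 2, 14, 18, 32, 27, 12, 30, 38, 6, 20, 0, 21, 5, 39, 29, 10, 31, 25, 22, 34, 7, 16, 1, 13, 15, 3, 17, 9, 35, 24, 26, 33, 11],
  [28, 19, 4, 37, 39, 20, 6, 5, 21, 38, 29, 0, 30, 35, 11, 15, 24, 26, 3, 9, 33, 17, 2, 23, 27, 18, 8, 32, 14, 36, 12, 31, 16, 7, 10, 13, 34, 25, 1, 22],
  [22, 18, 11, 38, 0, 24, 23, 16, 10, 37, 17, 39, 12, 13, 4, 31, 20, 36, 9, 3, 27, 29, 14, 6, 33, 19, 34, 7, 2, 26, 30, 15, 5, 32, 21, 35, 8, 1, 25, 28],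
  [39, 14, 25, 9, 8, 26, 13, 37, 38, 0, 27, 7, 15, 31, 2, 35, 5, 19, 29, 24, 18, 10, 17, 12, 22, 1, 36, 33, 20, 28, 6, 30, 4, 21, 11, 23, 16, 34, 32, 3],
  [38, 11, 18, 22, 25, 8, 15, 21, 5, 28, 32, 1, 35, 30, 19, 6, 34, 33, 2, 14, 26, 7, 3, 31, 36, 4, 20, 29, 9, 27, 13, 23, 10, 17, 16, 12, 24, 39, 0, 37],
  [33, 21, 27, 10, 20, 25, 12, 19, 11, 26, 0, 32, 31, 23, 5, 13, 9, 28, 17, 34, 38, 2, 7, 30, 18, 36, 39, 1, 24, 4, 15, 35, 37, 3, 22, 6, 14, 8, 29, 16],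
  [17, 29, 7, 32, 3, 19, 15, 27, 5, 34, 22, 39, 12, 30, 8, 31, 28, 33, 9, 0, 16, 18, 25, 6, 36, 24, 37, 11, 2, 21, 13, 23, 10, 38, 26, 35, 4, 1, 14, 20],
  [33, 27, 21, 10, 37, 3, 35, 8, 29, 16, 14, 22, 6, 23, 5, 13, 2, 34, 38, 28, 17, 9, 18, 30, 7, 36, 1, 39, 4, 24, 15, 12, 20, 25, 32, 31, 0, 19, 11, 26],
  [29, 32, 17, 7, 21, 37, 6, 25, 2, 24, 11, 36, 13, 12, 34, 15, 19, 39, 5, 27, 3, 22, 26, 23, 1, 20, 4, 38, 10, 14, 35, 31, 9, 18, 0, 30, 28, 33, 16, 8],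
  [36, 26, 16, 5, 28, 14, 12, 24, 7, 21, 3, 38, 31, 15, 10, 30, 9, 20, 22, 37, 32, 2, 11, 13, 29, 33, 39, 1, 19, 8, 23, 35, 34, 0, 17, 6, 25, 4, 18, 27],
  [34, 24, 8, 20, 26, 18, 6, 3, 39, 32, 28, 10, 13, 12, 29, 15, 38, 2, 33, 16, 25, 4, 21, 23, 9, 7, 22, 19, 36, 0, 35, 31, 1, 37, 14, 30, 11, 5, 27, 17],
  [8, 34, 20, 24, 25, 38, 15, 16, 33, 29, 4, 2, 12, 30, 17, 31, 11, 5, 1, 14, 27, 37, 3, 6, 10, 32, 18, 28, 39, 26, 13, 23, 36, 19, 21, 35, 22, 9, 0, 7],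
  [19, 28, 37, 4, 3, 17, 15, 26, 33, 11, 24, 9, 35, 30, 38, 6, 29, 5, 39, 0, 21, 20, 25, 31, 10, 22, 7, 34, 1, 16, 13, 23, 36, 8, 27, 12, 32, 2, 14, 18],
  [9, 25, 14, 39, 32, 16, 30, 11, 4, 3, 21, 34, 23, 6, 1, 12, 36, 22, 20, 17, 28, 33, 24, 35, 19, 2, 5, 10, 29, 18, 31, 13, 38, 27, 37, 15, 26, 7, 8, 0],
  [4, 37, 28, 19, 14, 32, 23, 27, 36, 18, 8, 2, 12, 13, 22, 31, 7, 10, 1, 25, 16, 34, 0, 6, 5, 38, 29, 20, 39, 21, 30, 15, 33, 24, 26, 35, 17, 9, 3, 11],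
  [10, 27, 21, 33, 29, 14, 35, 22, 37, 16, 3, 8, 6, 15, 36, 30, 39, 18, 24, 7, 4, 1, 34, 13, 28, 5, 9, 2, 17, 38, 23, 12, 11, 0, 19, 31, 25, 32, 20, 26],
  [11, 38, 22, 18, 2, 7, 6, 33, 26, 19, 34, 14, 30, 35, 28, 15, 32, 21, 25, 1, 5, 8, 39, 23, 16, 37, 17, 24, 0, 10, 12, 31, 27, 20, 36, 13, 29, 3, 9, 4],
  [21, 33, 10, 27, 17, 2, 13, 28, 38, 5, 9, 34, 23, 31, 26, 12, 0, 19, 20, 32, 11, 25, 8, 35, 22, 16, 3, 14, 29, 37, 6, 30, 4, 39, 18, 15, 1, 7, 24, 36],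
  [38, 18, 11, 22, 10, 17, 23, 39, 0, 37, 24, 16, 12, 30, 19, 6, 7, 14, 26, 33, 2, 34, 36, 31, 3, 4, 29, 20, 27, 9, 13, 15, 25, 8, 1, 35, 32, 21, 5, 28],
  [16, 36, 5, 26, 32, 9, 30, 37, 22, 10, 2, 20, 15, 6, 27, 35, 25, 4, 34, 17, 18, 0, 24, 12, 38, 21, 14, 3, 7, 28, 31, 13, 19, 1, 11, 23, 39, 29, 8, 33],
  [24, 34, 20, 8, 33, 4, 15, 2, 25, 29, 38, 16, 12, 13, 32, 6, 28, 3, 26, 10, 39, 18, 5, 31, 14, 17, 37, 11, 27, 1, 30, 23, 0, 22, 9, 35, 19, 21, 36, 7],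
  [16, 5, 36, 26, 19, 1, 13, 29, 8, 33, 39, 11, 23, 6, 27, 35, 0, 17, 18, 4, 34, 25, 38, 12, 24, 21, 3, 14, 28, 7, 31, 30, 32, 9, 20, 15, 2, 37, 22, 10],
  [3, 2, 1, 0, 37, 33, 35, 32, 34, 39, 36, 38, 31, 23, 25, 30, 27, 29, 22, 28, 24, 26, 18, 13, 20, 14, 21, 16, 19, 17, 15, 12, 7, 5, 8, 6, 10, 4, 11, 9],
  [29, 32, 17, 7, 36, 11, 13, 2, 25, 24, 37, 21, 6, 15, 34, 12, 22, 3, 27, 5, 39, 19, 10, 35, 14, 20, 38, 4, 26, 1, 23, 30, 0, 28, 9, 31, 18, 16, 33, 8],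
  [17, 29, 7, 32, 39, 22, 12, 5, 27, 34, 19, 3, 15, 31, 8, 30, 18, 16, 0, 9, 33, 28, 2, 13, 21, 24, 11, 37, 25, 36, 6, 35, 26, 4, 10, 23, 38, 14, 1, 20],
  [4, 37, 28, 19, 2, 8, 12, 36, 27, 18, 32, 14, 23, 31, 22, 13, 34, 16, 25, 1, 10, 7, 39, 30, 21, 38, 20, 29, 0, 5, 6, 35, 26, 17, 33, 15, 24, 3, 9, 11],
  [14, 39, 9, 25, 24, 5, 31, 18, 19, 2, 10, 29, 35, 13, 0, 15, 26, 38, 7, 8, 37, 27, 32, 23, 4, 3, 16, 21, 34, 11, 30, 6, 22, 33, 28, 12, 36, 20, 17, 1],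
  [19, 28, 37, 4, 9, 24, 35, 33, 26, 11, 17, 3, 15, 6, 38, 30, 20, 21, 0, 39, 5, 29, 1, 13, 16, 22, 34, 7, 25, 10, 31, 12, 27, 32, 36, 23, 8, 14, 2, 18],
  [21, 33, 10, 27, 34, 9, 23, 38, 28, 5, 2, 17, 13, 12, 26, 31, 25, 11, 32, 20, 19, 0, 29, 6, 37, 16, 14, 3, 8, 22, 35, 15, 18, 1, 4, 30, 39, 24, 7, 36],
  [18, 22, 38, 11, 3, 20, 13, 27, 36, 4, 29, 9, 31, 23, 37, 12, 24, 10, 39, 0, 16, 17, 25, 35, 5, 28, 8, 32, 1, 21, 15, 30, 33, 7, 26, 6, 34, 2, 14, 19],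
  [10, 27, 21, 33, 8, 3, 6, 37, 22, 16, 14, 29, 35, 30, 36, 15, 1, 4, 7, 24, 18, 39, 17, 23, 38, 5, 2, 9, 34, 28, 13, 31, 19, 25, 11, 12, 0, 20, 32, 26],
  [22, 11, 18, 38, 21, 8, 35, 25, 1, 28, 32, 5, 15, 31, 4, 13, 20, 9, 36, 27, 3, 29, 26, 30, 2, 19, 34, 7, 33, 14, 6, 12, 39, 17, 0, 23, 24, 10, 16, 37],
  [5, 26, 16, 36, 24, 14, 31, 28, 38, 21, 3, 7, 12, 13, 33, 23, 39, 19, 29, 8, 11, 1, 32, 15, 22, 10, 9, 2, 20, 37, 30, 6, 4, 0, 18, 35, 25, 34, 17, 27],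
  [32, 29, 7, 17, 27, 19, 12, 3, 39, 34, 22, 5, 15, 6, 24, 13, 37, 2, 36, 21, 25, 11, 16, 30, 9, 8, 28, 18, 33, 0, 31, 35, 1, 38, 14, 23, 4, 10, 26, 20],
  [5, 16, 26, 36, 4, 0, 6, 34, 17, 27, 25, 18, 35, 13, 33, 23, 1, 8, 11, 19, 29, 39, 22, 15, 32, 10, 2, 9, 37, 20, 30, 31, 24, 14, 7, 12, 3, 28, 38, 21],
  [2, 3, 0, 1, 28, 27, 23, 24, 29, 25, 26, 22, 30, 35, 39, 31, 33, 34, 38, 37, 32, 36, 11, 6, 7, 9, 10, 5, 4, 8, 12, 15, 20, 16, 17, 13, 21, 19, 18, 14],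
  [20, 24, 8, 34, 3, 18, 13, 26, 10, 32, 28, 39, 6, 23, 7, 35, 22, 36, 9, 0, 21, 19, 25, 12, 33, 29, 38, 4, 2, 16, 15, 30, 5, 37, 27, 31, 11, 1, 14, 17],
  [39, 25, 14, 9, 11, 16, 23, 32, 34, 3, 21, 4, 30, 35, 2, 31, 5, 29, 19, 18, 24, 10, 28, 6, 20, 1, 36, 33, 22, 17, 12, 15, 7, 27, 8, 13, 26, 38, 37, 0],
  [34, 8, 24, 20, 14, 11, 30, 27, 5, 17, 37, 1, 31, 15, 29, 12, 38, 33, 2, 25, 16, 4, 0, 35, 36, 7, 22, 19, 9, 21, 23, 13, 10, 28, 26, 6, 18, 39, 3, 32],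
  [33, 27, 21, 10, 22, 14, 6, 29, 8, 16, 3, 37, 35, 13, 5, 23, 9, 17, 28, 38, 34, 2, 4, 15, 24, 36, 39, 1, 18, 7, 30, 31, 32, 0, 20, 12, 25, 11, 19, 26],
  [28, 19, 4, 37, 0, 29, 30, 21, 5, 38, 20, 39, 6, 15, 11, 35, 17, 33, 9, 3, 26, 24, 14, 12, 36, 18, 32, 8, 2, 27, 23, 13, 10, 34, 16, 31, 7, 1, 25, 22],
  [33, 21, 27, 10, 32, 0, 31, 11, 19, 26, 25, 20, 12, 13, 5, 23, 2, 38, 34, 17, 28, 9, 24, 15, 4, 36, 1, 39, 7, 18, 30, 6, 22, 14, 37, 35, 3, 29, 8, 16],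
  [19, 37, 28, 4, 27, 32, 12, 14, 2, 18, 8, 36, 23, 6, 38, 30, 29, 39, 5, 21, 0, 20, 16, 13, 1, 22, 7, 34, 10, 25, 31, 35, 9, 24, 3, 15, 17, 33, 26, 11],
  [36, 16, 26, 5, 17, 25, 6, 18, 4, 27, 0, 34, 35, 30, 10, 15, 9, 22, 20, 32, 37, 2, 8, 23, 19, 33, 39, 1, 29, 11, 13, 31, 38, 3, 28, 12, 14, 7, 24, 21],
  [18, 38, 22, 11, 33, 7, 30, 2, 14, 19, 34, 26, 6, 23, 37, 12, 17, 0, 16, 10, 39, 24, 5, 35, 25, 28, 32, 8, 21, 1, 15, 13, 3, 20, 9, 31, 29, 27, 36, 4],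
  [26, 5, 36, 16, 29, 1, 23, 19, 11, 33, 39, 8, 13, 12, 21, 31, 3, 28, 24, 7, 38, 14, 34, 6, 18, 27, 0, 25, 17, 4, 35, 15, 37, 9, 22, 30, 2, 32, 20, 10],
  [0, 2, 1, 3, 32, 33, 31, 37, 38, 39, 36, 34, 35, 13, 14, 15, 21, 19, 20, 17, 18, 16, 24, 23, 22, 25, 27, 26, 29, 28, 30, 6, 4, 5, 11, 12, 10, 7, 8, 9],
  [25, 39, 9, 14, 19, 10, 31, 29, 24, 2, 5, 18, 35, 30, 3, 23, 21, 32, 11, 4, 34, 16, 38, 15, 8, 0, 27, 26, 37, 7, 13, 6, 17, 36, 20, 12, 33, 28, 22, 1],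
  [7, 32, 17, 29, 2, 11, 6, 36, 21, 24, 37, 25, 13, 35, 20, 23, 38, 26, 14, 1, 10, 4, 39, 15, 27, 34, 22, 19, 3, 5, 12, 31, 16, 28, 33, 30, 18, 0, 9, 8],
  [25, 39, 9, 14, 18, 5, 35, 24, 29, 2, 10, 19, 31, 23, 3, 30, 16, 34, 4, 11, 32, 21, 37, 13, 7, 0, 26, 27, 38, 8, 15, 12, 20, 33, 17, 6, 36, 22, 28, 1],
  [29, 17, 32, 7, 9, 18, 31, 33, 16, 8, 28, 0, 30, 12, 34, 15, 22, 27, 3, 39, 5, 19, 1, 23, 26, 20, 38, 4, 14, 10, 35, 6, 21, 37, 36, 13, 11, 25, 2, 24],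
  [27, 33, 10, 21, 38, 9, 13, 34, 17, 5, 2, 28, 23, 6, 16, 35, 14, 8, 37, 22, 29, 3, 19, 12, 32, 26, 25, 0, 11, 20, 31, 30, 24, 1, 7, 15, 39, 18, 4, 36],
  [37, 4, 19, 28, 1, 34, 31, 10, 16, 22, 7, 25, 13, 12, 18, 23, 8, 27, 14, 2, 36, 32, 9, 15, 26, 11, 24, 17, 3, 33, 35, 6, 21, 29, 5, 30, 20, 0, 39, 38],
  [27, 10, 33, 21, 24, 1, 30, 18, 4, 36, 39, 7, 15, 6, 16, 35, 3, 22, 29, 8, 37, 14, 32, 12, 19, 26, 0, 25, 20, 11, 31, 13, 38, 9, 28, 23, 2, 34, 17, 5],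
  [4, 28, 37, 19, 33, 24, 15, 9, 3, 11, 17, 26, 35, 13, 22, 31, 34, 25, 16, 10, 1, 7, 5, 6, 0, 38, 20, 29, 21, 39, 30, 23, 14, 32, 2, 12, 8, 27, 36, 18],
  [26, 5, 36, 16, 8, 39, 13, 11, 19, 33, 1, 29, 23, 31, 21, 12, 14, 38, 7, 24, 28, 3, 17, 35, 4, 27, 25, 0, 34, 18, 6, 30, 22, 2, 37, 15, 9, 20, 32, 10],
  [11, 22, 38, 18, 27, 20, 31, 3, 9, 4, 29, 36, 13, 35, 28, 15, 8, 1, 5, 21, 25, 32, 16, 23, 39, 37, 24, 17, 10, 0, 12, 6, 2, 7, 14, 30, 34, 33, 26, 19],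
  [36, 16, 26, 5, 34, 0, 35, 4, 18, 27, 25, 17, 6, 15, 10, 30, 2, 37, 32, 20, 22, 9, 29, 13, 11, 33, 1, 39, 8, 19, 23, 12, 28, 14, 38, 31, 3, 24, 7, 21],
  [1, 3, 0, 2, 24, 27, 30, 28, 22, 25, 26, 29, 23, 6, 9, 12, 10, 4, 7, 8, 11, 5, 32, 35, 38, 39, 33, 36, 34, 37, 31, 13, 19, 16, 18, 15, 21, 20, 17, 14],
  [39, 25, 14, 9, 4, 21, 30, 34, 32, 3, 16, 11, 23, 31, 2, 35, 10, 24, 18, 19, 29, 5, 22, 12, 17, 1, 33, 36, 28, 20, 6, 13, 8, 26, 7, 15, 27, 37, 38, 0],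
  [24, 20, 34, 8, 0, 22, 23, 21, 36, 7, 19, 9, 35, 13, 32, 6, 18, 10, 39, 3, 26, 28, 14, 31, 5, 17, 11, 37, 1, 27, 30, 15, 33, 4, 16, 12, 38, 2, 25, 29],
  [10, 21, 27, 33, 11, 0, 12, 32, 20, 26, 25, 19, 31, 15, 36, 30, 1, 7, 4, 18, 24, 39, 28, 13, 34, 5, 2, 9, 38, 17, 23, 35, 29, 14, 8, 6, 3, 22, 37, 16],
  [20, 8, 24, 34, 27, 11, 31, 14, 1, 17, 37, 5, 30, 35, 7, 23, 22, 9, 36, 21, 0, 19, 16, 15, 2, 29, 38, 4, 33, 25, 12, 6, 39, 28, 3, 13, 18, 10, 26, 32],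
  [5, 16, 26, 36, 18, 25, 35, 17, 34, 27, 0, 4, 6, 23, 33, 13, 39, 29, 19, 11, 8, 1, 37, 30, 20, 10, 9, 2, 22, 32, 15, 12, 7, 3, 24, 31, 14, 38, 28, 21],
  [37, 19, 4, 28, 21, 29, 6, 0, 39, 38, 20, 5, 30, 12, 18, 23, 32, 2, 36, 27, 14, 8, 26, 15, 9, 11, 17, 24, 33, 3, 35, 31, 1, 34, 25, 13, 7, 10, 16, 22],
  [5, 26, 16, 36, 7, 3, 12, 38, 28, 21, 14, 24, 31, 23, 33, 13, 1, 11, 8, 29, 19, 39, 20, 30, 37, 10, 2, 9, 32, 22, 15, 35, 18, 25, 4, 6, 0, 17, 34, 27],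
  [2, 0, 3, 1, 17, 21, 13, 18, 19, 14, 16, 20, 15, 31, 39, 35, 33, 38, 34, 32, 37, 36, 8, 12, 4, 9, 10, 5, 7, 11, 6, 30, 22, 26, 28, 23, 27, 29, 24, 25],
  [14, 39, 9, 25, 29, 10, 35, 19, 18, 2, 5, 24, 31, 15, 0, 13, 27, 37, 8, 7, 38, 26, 34, 30, 11, 3, 21, 16, 32, 4, 23, 12, 28, 36, 22, 6, 33, 17, 20, 1],
  [32, 7, 29, 17, 1, 38, 35, 10, 26, 20, 4, 14, 23, 6, 24, 13, 11, 21, 25, 2, 36, 37, 9, 30, 16, 8, 18, 28, 0, 33, 31, 12, 27, 19, 5, 15, 22, 3, 39, 34],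
  [21, 10, 33, 27, 18, 1, 15, 24, 7, 36, 39, 4, 30, 12, 26, 31, 0, 20, 19, 11, 32, 25, 37, 6, 29, 16, 3, 14, 22, 8, 35, 23, 34, 9, 17, 13, 2, 38, 28, 5],
  [7, 17, 32, 29, 33, 18, 30, 9, 0, 8, 28, 16, 31, 23, 20, 35, 38, 14, 26, 10, 1, 4, 5, 12, 3, 34, 22, 19, 27, 39, 15, 13, 25, 37, 2, 6, 11, 21, 36, 24],
  [16, 5, 36, 26, 11, 39, 23, 8, 29, 33, 1, 19, 13, 35, 27, 6, 25, 34, 4, 18, 17, 0, 28, 31, 7, 21, 14, 3, 38, 24, 12, 15, 20, 2, 32, 30, 9, 22, 37, 10],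
  [28, 4, 19, 37, 10, 34, 13, 1, 25, 22, 7, 16, 31, 15, 11, 35, 24, 3, 26, 33, 9, 17, 36, 12, 14, 18, 8, 32, 27, 2, 23, 30, 0, 29, 39, 6, 20, 21, 5, 38],
  [16, 36, 5, 26, 20, 2, 15, 22, 37, 10, 9, 32, 30, 35, 27, 6, 0, 18, 17, 34, 4, 25, 7, 31, 28, 21, 3, 14, 24, 38, 12, 23, 11, 39, 19, 13, 1, 8, 29, 33],
  [3, 1, 2, 0, 8, 10, 6, 11, 4, 9, 5, 7, 12, 30, 25, 23, 27, 22, 29, 24, 28, 26, 17, 15, 19, 14, 21, 16, 20, 18, 13, 31, 38, 36, 37, 35, 33, 34, 32, 39],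
  [9, 25, 14, 39, 34, 21, 23, 4, 11, 3, 16, 32, 30, 12, 1, 6, 33, 28, 17, 20, 22, 36, 29, 31, 18, 2, 10, 5, 24, 19, 35, 15, 37, 26, 38, 13, 27, 8, 7, 0],
  [8, 20, 34, 24, 21, 22, 35, 0, 9, 7, 19, 36, 23, 31, 17, 30, 11, 1, 5, 27, 14, 37, 26, 13, 39, 32, 18, 28, 10, 3, 6, 12, 2, 4, 25, 15, 38, 33, 16, 29],
  [36, 26, 16, 5, 38, 3, 31, 7, 24, 21, 14, 28, 12, 30, 10, 15, 2, 32, 37, 22, 20, 9, 19, 23, 8, 33, 1, 39, 11, 29, 13, 6, 17, 25, 34, 35, 0, 18, 4, 27],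
  [1, 0, 3, 2, 18, 21, 15, 17, 20, 14, 16, 19, 13, 12, 9, 6, 10, 7, 4, 11, 8, 5, 37, 31, 34, 39, 33, 36, 38, 32, 35, 23, 29, 26, 24, 30, 27, 22, 28, 25],
  [39, 14, 25, 9, 7, 27, 15, 38, 37, 0, 26, 8, 13, 35, 2, 31, 10, 18, 24, 29, 19, 5, 20, 6, 28, 1, 33, 36, 17, 22, 12, 23, 11, 16, 4, 30, 21, 32, 34, 3],
  [17, 7, 29, 32, 10, 38, 23, 1, 14, 20, 4, 26, 35, 30, 8, 31, 18, 0, 16, 33, 9, 28, 36, 6, 25, 24, 11, 37, 21, 2, 13, 15, 3, 19, 39, 12, 22, 27, 5, 34],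
  [26, 36, 5, 16, 22, 2, 30, 20, 32, 10, 9, 37, 15, 31, 21, 12, 3, 24, 28, 38, 7, 14, 4, 35, 17, 27, 0, 25, 18, 34, 6, 13, 8, 39, 29, 23, 1, 11, 19, 33],
  [0, 1, 2, 3, 11, 10, 12, 8, 7, 9, 5, 4, 6, 15, 14, 13, 21, 20, 19, 18, 17, 16, 28, 30, 29, 25, 27, 26, 22, 24, 23, 35, 34, 36, 32, 31, 33, 38, 37, 39],
  [25, 9, 39, 14, 20, 33, 12, 22, 28, 1, 36, 17, 6, 23, 3, 30, 21, 11, 32, 34, 4, 16, 7, 13, 37, 0, 27, 26, 8, 38, 15, 35, 18, 5, 19, 31, 10, 24, 29, 2],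
  [9, 14, 25, 39, 38, 27, 13, 7, 8, 0, 26, 37, 15, 6, 1, 12, 33, 17, 28, 22, 20, 36, 19, 35, 24, 2, 10, 5, 18, 29, 31, 30, 32, 16, 34, 23, 21, 11, 4, 3],
  [14, 9, 39, 25, 22, 33, 6, 20, 17, 1, 36, 28, 12, 13, 0, 15, 27, 8, 37, 38, 7, 26, 4, 23, 32, 3, 21, 16, 11, 34, 30, 31, 24, 5, 29, 35, 10, 18, 19, 2]]

/-- Each element after the first from an earlier one and a generator. -/
def sylStep : List (ℕ × ℕ) := [(0, 0), (0, 1), (0, 2), (1, 1), (1, 2), (2, 0), (2, 2), (3, 0), (3, 1), (4, 0), (4, 2), (5, 0), (5, 1), (6, 1), (6, 2), (7, 0), (7, 1), (8, 1), (8, 2), (9, 0), (9, 2), (10, 1), (10, 2), (11, 0), (11, 1), (12, 1), (12, 2), (13, 0), (13, 2), (14, 2), (15, 0), (15, 1), (16, 1), (16, 2), (17, 0), (17, 2), (18, 0), (18, 2), (20, 1), (20, 2), (22, 2), (23,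 0), (23, 1), (24, 1), (24, 2), (25, 0), (25, 2), (26, 0), (26, 2), (28, 1), (28, 2), (30, 0), (30, 1), (31, 1), (31, 2), (32, 0), (32, 2), (33, 0), (33, 2), (35, 1), (35, 2), (37, 1), (37, 2), (39, 2), (41, 0), (41, 1), (42, 1), (42, 2), (43, 0), (43, 2), (44, 0), (44, 2), (46, 1), (46, 2), (48, 1), (48, 2), (50, 2), (52, 1), (52, 2), (53, 0), (53, 2), (54, 0), (54, 2), (56, 1), (56, 2), (58, 1), (58, 2), (60, 2), (62, 2), (65, 1), (65, 2), (66, 0), (66, 2), (67, 0), (67, 2), (69, 1), (69, 2), (71, 1), (71, 2), (73, 2), (75, 2), (78, 0), (78, 2), (80, 1), (80, 2), (82, 1), (82, 2), (84, 2), (86, 2), (90, 0), (90, 2), (92, 1), (92, 2), (94, 1), (94, 2), (96, 2), (98, 2), (102, 1), (102, 2), (104, 2), (106, 2), (110, 1), (110, 2), (112, 2), (114, 2), (118, 2),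 (122, 2)]

/-- The representatives of the involutions. -/
def repRows : List (List ℕ) := [
  [0, 1, 2, 3, 4, 5, 6, 7, 8, 9, 10, 11, 12, 13, 14, 15, 16, 17, 18, 19, 20, 21, 22, 23, 24, 25, 26, 27, 28, 29, 30, 31, 32, 33, 34, 35, 36, 37, 38, 39],
  [1, 0, 2, 3, 13, 16, 19, 14, 17, 20, 15, 18, 21, 4, 7, 10, 5, 8, 11, 6, 9, 12, 22, 25, 28, 23, 26, 29, 24, 27, 30, 31, 37, 34, 33, 39, 36, 32, 38, 35],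
  [1, 0, 3, 2, 19, 13, 16, 21, 15, 18, 20, 14, 17, 5, 11, 8, 6, 12, 9, 4, 10, 7, 39, 33, 36, 38, 32, 35, 37, 31, 34, 29, 26, 23, 30, 27, 24, 28, 25, 22],
  [16, 4, 34, 25, 1, 19, 13, 10, 37, 22, 7, 28, 31, 6, 27, 35, 0, 18, 17, 5, 36, 26, 9, 30, 32, 3, 21, 14, 11, 39, 23, 12, 24, 38, 2, 15, 20, 8, 33, 29],
  [16, 4, 25, 34, 1, 19, 13, 7, 28, 31, 10, 37, 22, 6, 35, 27, 0, 17, 18, 5, 26, 36, 12, 38, 24, 2, 20, 15, 8, 29, 33, 9, 32, 30, 3, 14, 21, 11, 23, 39]]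

/-- Their preimages. -/
def repE : List (Bool × List ℕ) := [
  (false, []),
  (false, [7]),
  (false, [4, 8]),
  (false, [3, 4, 2, 3, 7, 8, 4, 5, 3, 4, 2, 3, 7, 6, 5, 4, 3, 2, 1, 2, 3, 4, 5, 6, 7, 3, 2, 4, 3, 5, 4, 8, 7, 3, 2, 4, 3, 3, 4, 2, 3, 7, 8, 5, 3, 4, 2, 3, 7, 6, 5, 4, 3, 2, 1, 0, 1, 2, 3, 4, 5, 6, 7, 3, 2, 4, 3, 5, 8, 7, 3, 2, 4, 3]),
  (false, [4, 3, 4, 2, 3, 7, 8, 4, 5, 3, 4, 2, 3, 7, 6, 5, 4, 3, 2, 1, 2, 3, 4, 5, 6, 7, 3, 2, 4, 3, 5, 4, 8, 7, 3, 2, 4, 3, 3, 4, 2, 3, 7, 8, 5, 3, 4, 2, 3, 7, 6, 5, 4, 3, 2, 1, 0, 1, 2, 3, 4, 5, 6, 7, 3, 2, 4, 3, 5, 8, 7, 3, 2, 4, 3])]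

/-- For each involution of the Sylow subgroup: number, representative, conjugating word. -/
def invWit : List (ℕ × ℕ × List ℕ) := [(0, 0, []), (1, 3, [2]), (2, 1, [0, 4]), (3, 2, [1, 4, 3]), (10, 1, [4, 0]), (12, 2, [4, 1, 4, 3]), (14, 3, [1]), (17, 2, [2, 1, 4, 2, 0]), (19, 3, [2, 3, 1]), (21, 1, [0]), (22, 2, [2, 4, 2, 0]), (27, 2, [1, 2, 3, 0]), (29, 4, [3, 4, 3, 3, 0]), (34, 4, [1, 0, 2, 1, 4]), (36, 2, [4, 2, 2, 0]), (46, 2, [2, 4, 0, 2, 0]), (54, 2, [2, 4, 2, 1, 0]), (63, 1, [0, 2, 2, 1]), (64, 3, [0, 2, 1]), (68, 4, [0, 4, 2, 1, 1]), (70, 2, [1, 2, 3, 0, 2]), (76, 4, [0, 4, 2, 2, 1]), (77, 2, [4, 0, 2, 0, 0]), (79, 2, [4, 2, 2, 1, 0]), (81, 4, [0, 4]), (87, 2, [1, 2, 3, 1, 0]), (88, 4, [0, 4, 1, 2, 1]), (89, 2, [1, 4, 3, 1]), (91, 4, [1, 3, 2, 1, 0,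 0]), (93, 2, [1, 0, 2, 2, 0]), (94, 2, [2, 1, 1, 3]), (101, 4, [3, 4, 3, 1]), (104, 2, [0, 4, 2, 2, 0]), (109, 2, [3, 4, 3, 1]), (115, 2, [4, 1, 4, 3, 2]), (116, 4, [0, 2, 2, 1, 4]), (119, 4, [1, 3, 0, 4, 3, 1]), (120, 2, [4, 2, 3, 2, 0]), (122, 2, [0, 0, 2, 3, 0]), (123, 2, [2, 2, 0, 4]), (124, 4, [1, 3, 2, 0, 4, 0]), (125, 2, [2, 2, 0]), (126, 4, [3, 4, 3, 2]), (127, 1, [3, 3])]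

/-- The action of each preimage on the coordinates, and its square. -/
def repAct : List (List ℕ × ℕ) := [
  ([1, 2, 4, 8, 16, 32, 64, 128, 256, 512, 1024], 0),
  ([1, 2, 4, 1055, 16, 288, 320, 384, 256, 768, 1024], 0),
  ([1, 3, 8, 4, 16, 112, 64, 256, 128, 513, 1024], 0),
  ([1, 1154, 68, 8, 1040, 1064, 64, 128, 257, 1536, 1024], 0),
  ([1, 1155, 69, 9, 1040, 1529, 64, 128, 257, 1537, 1024], 0)]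

/-- Further elements: word, action on the coordinates, correction. -/
def moveE : List (List ((Bool × List ℕ) × List ℕ × ℕ)) := [
  [((false, [8]), [1, 2, 9, 5, 16, 416, 64, 256, 128, 512, 1024], 0),
    ((false, [4]), [1, 3, 5, 9, 16, 496, 64, 128, 256, 513, 1024], 0),
    ((false, [5]), [2, 1, 4, 11, 16, 320, 288, 128, 256, 512, 1024], 0),
    ((false, [3, 7, 4, 3, 2, 3, 4, 7, 3]), [1, 4, 2, 8, 16, 32, 128, 64, 256, 512, 1024], 0),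
    ((false, [1, 2, 3, 7, 4, 3, 2, 1, 0, 1, 2, 3, 4, 7, 3, 2, 1]), [1, 260, 258, 201, 16, 294, 129, 65, 256, 512, 1024], 0)],
  [((false, [4]), [1, 3, 5, 9, 16, 496, 64, 128, 256, 513, 1024], 0),
    ((false, [5]), [2, 1, 4, 11, 16, 320, 288, 128, 256, 512, 1024], 0),
    ((false, [3, 7, 4, 3, 2, 3, 4, 7, 3]), [1, 4, 2, 8, 16, 32, 128, 64, 256, 512, 1024], 0),
    ((false, [1, 2, 3, 7, 4, 3, 2, 1, 0, 1, 2, 3, 4, 7, 3, 2, 1]), [1, 260, 258, 201, 16, 294, 129, 65, 256, 512, 1024], 0)],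
  [],
  [],
  []]

/-- The roots: coordinates, class, conjugating product. -/
def rootW : List (List (ℕ × ℕ × List (Bool × List ℕ))) := [
  [(528, 0, [(false, [3, 4, 5]), (false, [0]), (true, [3, 4, 2, 3, 7, 8, 2, 3, 4, 1, 2, 3, 7, 6, 5, 4, 3, 2, 1, 0, 1, 2, 3, 4, 5, 6, 7, 3, 2, 1, 4, 3, 2, 8, 7, 3, 2, 4, 3, 3, 4, 2, 3, 7, 8, 3, 4, 1, 2, 3, 7, 5, 4, 3, 2, 1, 0, 1, 2, 3, 4, 5, 7, 3, 2, 1, 4, 3, 8, 7, 3, 2, 4, 3, 6, 5, 6, 5, 4, 5, 4, 3, 7, 5, 4, 3, 2, 3, 4, 5, 7, 3, 3, 4, 2, 3, 7, 8, 1, 2, 3, 7, 4, 3, 2, 1, 0, 1, 2, 3, 4, 7, 3, 2, 1, 8, 7, 3, 2, 4, 3, 5, 4, 5, 3, 4, 2, 3, 7, 8, 5, 3, 4, 2, 3, 7, 6, 5, 4, 3, 2, 1, 0, 1, 2, 3, 4, 5, 6, 7, 3, 2, 4, 3, 5, 8, 7, 3, 2, 4, 3, 3, 4, 2, 3, 7, 8, 4, 5, 3, 4, 2, 3, 7, 6, 5, 4, 3, 2, 1, 2, 3, 4, 5, 6, 7, 3, 2, 4, 3, 5,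 4, 8, 7, 3, 2, 4, 3, 4, 2, 3, 7, 8, 5, 4, 3, 7, 6, 5, 4, 3, 2, 3, 4, 5, 6, 7, 3, 4, 5, 8, 7, 3, 2, 4, 1, 2, 3, 7, 5, 4, 3, 2, 1, 0, 1, 2, 3, 4, 5, 7, 3, 2, 1, 2, 3, 7, 4, 5, 3, 4, 2, 3, 7, 8, 3, 7, 4, 5, 3, 4, 1, 2, 3, 7, 6, 5, 4, 3, 2, 1, 0, 1, 2, 3, 4, 5, 6, 7, 3, 2, 1, 4, 3, 5, 4, 7, 3, 8, 7, 3, 2, 4, 3, 5, 4, 7, 3, 2, 1, 2, 3, 4, 5, 6, 0, 1, 2, 3, 4, 5, 7]), (false, []), (false, [5, 4, 3]), (true, []), (false, [3, 4, 5]), (false, [0]), (true, [3, 4, 2, 3, 7, 8, 2, 3, 4, 1, 2, 3, 7, 6, 5, 4, 3, 2, 1, 0, 1, 2, 3, 4, 5, 6, 7, 3, 2, 1, 4, 3, 2, 8, 7, 3, 2, 4, 3, 3, 4, 2, 3, 7, 8, 3, 4, 1, 2, 3, 7, 5, 4, 3, 2, 1, 0, 1, 2, 3, 4, 5, 7, 3, 2, 1, 4, 3, 8, 7, 3, 2, 4, 3, 6, 5, 6, 5, 4, 5, 4, 3, 7, 5, 4, 3, 2, 3, 4, 5, 7, 3, 3, 4, 2, 3, 7, 8, 1, 2, 3, 7, 4, 3, 2,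 1, 0, 1, 2, 3, 4, 7, 3, 2, 1, 8, 7, 3, 2, 4, 3, 5, 4, 5, 3, 4, 2, 3, 7, 8, 5, 3, 4, 2, 3, 7, 6, 5, 4, 3, 2, 1, 0, 1, 2, 3, 4, 5, 6, 7, 3, 2, 4, 3, 5, 8, 7, 3, 2, 4, 3, 3, 4, 2, 3, 7, 8, 4, 5, 3, 4, 2, 3, 7, 6, 5, 4, 3, 2, 1, 2, 3, 4, 5, 6, 7, 3, 2, 4, 3, 5, 4, 8, 7, 3, 2, 4, 3, 4, 2, 3, 7, 8, 5, 4, 3, 7, 6, 5, 4, 3, 2, 3, 4, 5, 6, 7, 3, 4, 5, 8, 7, 3, 2, 4, 1, 2, 3, 7, 5, 4, 3, 2, 1, 0, 1, 2, 3, 4, 5, 7, 3, 2, 1, 2, 3, 7, 4, 5, 3, 4, 2, 3, 7, 8, 3, 7, 4, 5, 3, 4, 1, 2, 3, 7, 6, 5, 4, 3, 2, 1, 0, 1, 2, 3, 4, 5, 6, 7, 3, 2, 1, 4, 3, 5, 4, 7, 3, 8, 7, 3, 2, 4, 3, 5, 4, 7, 3, 2, 1, 2, 3, 4, 5, 6, 0, 1, 2, 3, 4, 5, 7]), (false, []), (false, [5, 4, 3]), (false, [3, 4, 5])]),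
    (531, 2, [(false, [6, 3, 0, 2, 6, 5, 4, 5, 7, 6, 3, 7, 4, 7]), (false, [6, 4]), (false, [6, 5, 6, 5, 4, 5]), (false, [0]), (true, [3, 4, 2, 3, 7, 8, 2, 3, 4, 1, 2, 3, 7, 6, 5, 4, 3, 2, 1, 0, 1, 2, 3, 4, 5, 6, 7, 3, 2, 1, 4, 3, 2, 8, 7, 3, 2, 4, 3, 3, 4, 2, 3, 7, 8, 3, 4, 1, 2, 3, 7, 5, 4, 3, 2, 1, 0, 1, 2, 3, 4, 5, 7, 3, 2, 1, 4, 3, 8, 7, 3, 2, 4, 3, 6, 5, 6, 5, 4, 5, 4, 3, 7, 5, 4, 3, 2, 3, 4, 5, 7, 3, 3, 4, 2, 3, 7, 8, 1, 2, 3, 7, 4, 3, 2, 1, 0, 1, 2, 3, 4, 7, 3, 2, 1, 8, 7, 3, 2, 4, 3, 5, 4, 5, 3, 4, 2, 3, 7, 8, 5, 3, 4, 2, 3, 7, 6, 5, 4, 3, 2, 1, 0, 1, 2, 3, 4, 5, 6, 7, 3, 2, 4, 3, 5, 8, 7, 3, 2, 4, 3, 3, 4, 2, 3, 7, 8, 4, 5, 3, 4, 2, 3, 7, 6, 5, 4, 3, 2, 1, 2, 3, 4, 5, 6, 7, 3, 2, 4, 3, 5, 4, 8, 7, 3, 2, 4, 3, 4, 2, 3, 7, 8, 5, 4, 3, 7, 6, 5, 4, 3,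 2, 3, 4, 5, 6, 7, 3, 4, 5, 8, 7, 3, 2, 4, 1, 2, 3, 7, 5, 4, 3, 2, 1, 0, 1, 2, 3, 4, 5, 7, 3, 2, 1, 2, 3, 7, 4, 5, 3, 4, 2, 3, 7, 8, 3, 7, 4, 5, 3, 4, 1, 2, 3, 7, 6, 5, 4, 3, 2, 1, 0, 1, 2, 3, 4, 5, 6, 7, 3, 2, 1, 4, 3, 5, 4, 7, 3, 8, 7, 3, 2, 4, 3, 5, 4, 7, 3, 2, 1, 2, 3, 4, 5, 6, 0, 1, 2, 3, 4, 5, 7]), (false, []), (false, [7, 4, 7, 3, 6, 7, 5, 4, 5, 6, 2, 0, 3, 6]), (true, [3, 8]), (false, [6, 3, 0, 2, 6, 5, 4, 5, 7, 6, 3, 7, 4, 7]), (false, [6, 4]), (false, [6, 5, 6, 5, 4, 5]), (false, [0]), (true, [3, 4, 2, 3, 7, 8, 2, 3, 4, 1, 2, 3, 7, 6, 5, 4, 3, 2, 1, 0, 1, 2, 3, 4, 5, 6, 7, 3, 2, 1, 4, 3, 2, 8, 7, 3, 2, 4, 3, 3, 4, 2, 3, 7, 8, 3, 4, 1, 2, 3, 7, 5, 4, 3, 2, 1, 0, 1, 2, 3, 4, 5, 7, 3, 2, 1, 4, 3, 8, 7, 3, 2, 4, 3, 6, 5, 6, 5, 4, 5, 4, 3, 7, 5, 4, 3,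 2, 3, 4, 5, 7, 3, 3, 4, 2, 3, 7, 8, 1, 2, 3, 7, 4, 3, 2, 1, 0, 1, 2, 3, 4, 7, 3, 2, 1, 8, 7, 3, 2, 4, 3, 5, 4, 5, 3, 4, 2, 3, 7, 8, 5, 3, 4, 2, 3, 7, 6, 5, 4, 3, 2, 1, 0, 1, 2, 3, 4, 5, 6, 7, 3, 2, 4, 3, 5, 8, 7, 3, 2, 4, 3, 3, 4, 2, 3, 7, 8, 4, 5, 3, 4, 2, 3, 7, 6, 5, 4, 3, 2, 1, 2, 3, 4, 5, 6, 7, 3, 2, 4, 3, 5, 4, 8, 7, 3, 2, 4, 3, 4, 2, 3, 7, 8, 5, 4, 3, 7, 6, 5, 4, 3, 2, 3, 4, 5, 6, 7, 3, 4, 5, 8, 7, 3, 2, 4, 1, 2, 3, 7, 5, 4, 3, 2, 1, 0, 1, 2, 3, 4, 5, 7, 3, 2, 1, 2, 3, 7, 4, 5, 3, 4, 2, 3, 7, 8, 3, 7, 4, 5, 3, 4, 1, 2, 3, 7, 6, 5, 4, 3, 2, 1, 0, 1, 2, 3, 4, 5, 6, 7, 3, 2, 1, 4, 3, 5, 4, 7, 3, 8, 7, 3, 2, 4, 3, 5, 4, 7, 3, 2, 1, 2, 3, 4, 5, 6, 0, 1, 2, 3, 4, 5, 7]), (false, []), (false, [7, 4, 7, 3, 6, 7, 5, 4, 5, 6, 2, 0, 3, 6]), (true, [3, 8]), (false,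 [6, 3, 0, 2, 6, 5, 4, 5, 7, 6, 3, 7, 4, 7]), (false, [6, 4]), (false, [6, 5, 6, 5, 4, 5]), (false, [0]), (true, [3, 4, 2, 3, 7, 8, 2, 3, 4, 1, 2, 3, 7, 6, 5, 4, 3, 2, 1, 0, 1, 2, 3, 4, 5, 6, 7, 3, 2, 1, 4, 3, 2, 8, 7, 3, 2, 4, 3, 3, 4, 2, 3, 7, 8, 3, 4, 1, 2, 3, 7, 5, 4, 3, 2, 1, 0, 1, 2, 3, 4, 5, 7, 3, 2, 1, 4, 3, 8, 7, 3, 2, 4, 3, 6, 5, 6, 5, 4, 5, 4, 3, 7, 5, 4, 3, 2, 3, 4, 5, 7, 3, 3, 4, 2, 3, 7, 8, 1, 2, 3, 7, 4, 3, 2, 1, 0, 1, 2, 3, 4, 7, 3, 2, 1, 8, 7, 3, 2, 4, 3, 5, 4, 5, 3, 4, 2, 3, 7, 8, 5, 3, 4, 2, 3, 7, 6, 5, 4, 3, 2, 1, 0, 1, 2, 3, 4, 5, 6, 7, 3, 2, 4, 3, 5, 8, 7, 3, 2, 4, 3, 3, 4, 2, 3, 7, 8, 4, 5, 3, 4, 2, 3, 7, 6, 5, 4, 3, 2, 1, 2, 3, 4, 5, 6, 7, 3, 2, 4, 3, 5, 4, 8, 7, 3, 2, 4, 3, 4, 2, 3, 7, 8, 5, 4, 3, 7, 6, 5, 4, 3, 2, 3, 4, 5, 6, 7, 3,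 4, 5, 8, 7, 3, 2, 4, 1, 2, 3, 7, 5, 4, 3, 2, 1, 0, 1, 2, 3, 4, 5, 7, 3, 2, 1, 2, 3, 7, 4, 5, 3, 4, 2, 3, 7, 8, 3, 7, 4, 5, 3, 4, 1, 2, 3, 7, 6, 5, 4, 3, 2, 1, 0, 1, 2, 3, 4, 5, 6, 7, 3, 2, 1, 4, 3, 5, 4, 7, 3, 8, 7, 3, 2, 4, 3, 5, 4, 7, 3, 2, 1, 2, 3, 4, 5, 6, 0, 1, 2, 3, 4, 5, 7]), (false, []), (false, [7, 4, 7, 3, 6, 7, 5, 4, 5, 6, 2, 0, 3, 6]), (false, [6, 3, 0, 2, 6, 5, 4, 5, 7, 6, 3, 7, 4, 7])])],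
  [(545, 1, [(false, [3, 0, 1, 4, 2, 5]), (false, [6, 4]), (false, [7, 5, 3, 4, 2, 3, 7, 8, 5, 4, 1, 2, 3, 7, 6, 5, 4, 3, 2, 1, 0, 1, 2, 3, 4, 5, 6, 7, 3, 2, 1, 4, 5, 8, 7, 3, 2, 4, 3, 5, 7, 8, 3, 7, 5, 4, 3, 2, 3, 4, 5, 7, 3, 8]), (true, [3, 4, 2, 3, 7, 8, 2, 3, 4, 1, 2, 3, 7, 6, 5, 4, 3, 2, 1, 0, 1, 2, 3, 4, 5, 6, 7, 3, 2, 1, 4, 3, 2, 8, 7, 3, 2, 4, 3, 3, 4, 2, 3, 7, 8, 3, 4, 1, 2, 3, 7, 5, 4, 3, 2, 1, 0, 1, 2, 3, 4, 5, 7, 3, 2, 1, 4, 3, 8, 7, 3, 2, 4, 3, 6, 5, 6, 5, 4, 5, 4, 3, 7, 5, 4, 3, 2, 3, 4, 5, 7, 3, 3, 4, 2, 3, 7, 8, 1, 2, 3, 7, 4, 3, 2, 1, 0, 1, 2, 3, 4, 7, 3, 2, 1, 8, 7, 3, 2, 4, 3, 5, 4, 5, 3, 4, 2, 3, 7, 8, 5, 3, 4, 2, 3, 7, 6, 5, 4, 3, 2, 1, 0, 1, 2, 3, 4, 5, 6, 7, 3, 2, 4, 3, 5, 8, 7, 3, 2, 4, 3, 3, 4, 2, 3, 7, 8, 4, 5, 3, 4, 2, 3, 7, 6, 5,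 4, 3, 2, 1, 2, 3, 4, 5, 6, 7, 3, 2, 4, 3, 5, 4, 8, 7, 3, 2, 4, 3, 4, 2, 3, 7, 8, 5, 4, 3, 7, 6, 5, 4, 3, 2, 3, 4, 5, 6, 7, 3, 4, 5, 8, 7, 3, 2, 4, 1, 2, 3, 7, 5, 4, 3, 2, 1, 0, 1, 2, 3, 4, 5, 7, 3, 2, 1, 2, 3, 7, 4, 5, 3, 4, 2, 3, 7, 8, 3, 7, 4, 5, 3, 4, 1, 2, 3, 7, 6, 5, 4, 3, 2, 1, 0, 1, 2, 3, 4, 5, 6, 7, 3, 2, 1, 4, 3, 5, 4, 7, 3, 8, 7, 3, 2, 4, 3, 5, 4, 7, 3, 2, 1, 2, 3, 4, 5, 6, 0, 1, 2, 3, 4, 5, 7]), (false, [7]), (false, [5, 2, 4, 1, 0, 3]), (true, [3]), (false, [3, 0, 1, 4, 2, 5]), (false, [6, 4]), (false, [7, 5, 3, 4, 2, 3, 7, 8, 5, 4, 1, 2, 3, 7, 6, 5, 4, 3, 2, 1, 0, 1, 2, 3, 4, 5, 6, 7, 3, 2, 1, 4, 5, 8, 7, 3, 2, 4, 3, 5, 7, 8, 3, 7, 5, 4, 3, 2, 3, 4, 5, 7, 3, 8]), (true, [3, 4, 2, 3, 7, 8, 2, 3, 4, 1, 2, 3, 7, 6, 5, 4, 3, 2, 1, 0, 1, 2, 3, 4, 5,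 6, 7, 3, 2, 1, 4, 3, 2, 8, 7, 3, 2, 4, 3, 3, 4, 2, 3, 7, 8, 3, 4, 1, 2, 3, 7, 5, 4, 3, 2, 1, 0, 1, 2, 3, 4, 5, 7, 3, 2, 1, 4, 3, 8, 7, 3, 2, 4, 3, 6, 5, 6, 5, 4, 5, 4, 3, 7, 5, 4, 3, 2, 3, 4, 5, 7, 3, 3, 4, 2, 3, 7, 8, 1, 2, 3, 7, 4, 3, 2, 1, 0, 1, 2, 3, 4, 7, 3, 2, 1, 8, 7, 3, 2, 4, 3, 5, 4, 5, 3, 4, 2, 3, 7, 8, 5, 3, 4, 2, 3, 7, 6, 5, 4, 3, 2, 1, 0, 1, 2, 3, 4, 5, 6, 7, 3, 2, 4, 3, 5, 8, 7, 3, 2, 4, 3, 3, 4, 2, 3, 7, 8, 4, 5, 3, 4, 2, 3, 7, 6, 5, 4, 3, 2, 1, 2, 3, 4, 5, 6, 7, 3, 2, 4, 3, 5, 4, 8, 7, 3, 2, 4, 3, 4, 2, 3, 7, 8, 5, 4, 3, 7, 6, 5, 4, 3, 2, 3, 4, 5, 6, 7, 3, 4, 5, 8, 7, 3, 2, 4, 1, 2, 3, 7, 5, 4, 3, 2, 1, 0, 1, 2, 3, 4, 5, 7, 3, 2, 1, 2, 3, 7, 4, 5, 3, 4, 2, 3, 7, 8, 3, 7, 4, 5, 3, 4, 1, 2, 3, 7, 6, 5, 4, 3, 2, 1, 0, 1, 2, 3, 4, 5, 6, 7, 3, 2,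 1, 4, 3, 5, 4, 7, 3, 8, 7, 3, 2, 4, 3, 5, 4, 7, 3, 2, 1, 2, 3, 4, 5, 6, 0, 1, 2, 3, 4, 5, 7]), (false, [7]), (false, [5, 2, 4, 1, 0, 3]), (true, [3]), (false, [3, 0, 1, 4, 2, 5]), (false, [6, 4]), (false, [7, 5, 3, 4, 2, 3, 7, 8, 5, 4, 1, 2, 3, 7, 6, 5, 4, 3, 2, 1, 0, 1, 2, 3, 4, 5, 6, 7, 3, 2, 1, 4, 5, 8, 7, 3, 2, 4, 3, 5, 7, 8, 3, 7, 5, 4, 3, 2, 3, 4, 5, 7, 3, 8]), (true, [3, 4, 2, 3, 7, 8, 2, 3, 4, 1, 2, 3, 7, 6, 5, 4, 3, 2, 1, 0, 1, 2, 3, 4, 5, 6, 7, 3, 2, 1, 4, 3, 2, 8, 7, 3, 2, 4, 3, 3, 4, 2, 3, 7, 8, 3, 4, 1, 2, 3, 7, 5, 4, 3, 2, 1, 0, 1, 2, 3, 4, 5, 7, 3, 2, 1, 4, 3, 8, 7, 3, 2, 4, 3, 6, 5, 6, 5, 4, 5, 4, 3, 7, 5, 4, 3, 2, 3, 4, 5, 7, 3, 3, 4, 2, 3, 7, 8, 1, 2, 3, 7, 4, 3, 2, 1, 0, 1, 2, 3, 4, 7, 3, 2, 1, 8, 7, 3, 2, 4, 3, 5, 4, 5, 3, 4, 2, 3, 7, 8,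 5, 3, 4, 2, 3, 7, 6, 5, 4, 3, 2, 1, 0, 1, 2, 3, 4, 5, 6, 7, 3, 2, 4, 3, 5, 8, 7, 3, 2, 4, 3, 3, 4, 2, 3, 7, 8, 4, 5, 3, 4, 2, 3, 7, 6, 5, 4, 3, 2, 1, 2, 3, 4, 5, 6, 7, 3, 2, 4, 3, 5, 4, 8, 7, 3, 2, 4, 3, 4, 2, 3, 7, 8, 5, 4, 3, 7, 6, 5, 4, 3, 2, 3, 4, 5, 6, 7, 3, 4, 5, 8, 7, 3, 2, 4, 1, 2, 3, 7, 5, 4, 3, 2, 1, 0, 1, 2, 3, 4, 5, 7, 3, 2, 1, 2, 3, 7, 4, 5, 3, 4, 2, 3, 7, 8, 3, 7, 4, 5, 3, 4, 1, 2, 3, 7, 6, 5, 4, 3, 2, 1, 0, 1, 2, 3, 4, 5, 6, 7, 3, 2, 1, 4, 3, 5, 4, 7, 3, 8, 7, 3, 2, 4, 3, 5, 4, 7, 3, 2, 1, 2, 3, 4, 5, 6, 0, 1, 2, 3, 4, 5, 7]), (false, [7]), (false, [5, 2, 4, 1, 0, 3]), (false, [3, 0, 1, 4, 2, 5])])],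
  [(530, 2, [(false, [3, 4]), (false, [6, 5, 6, 5, 4, 5]), (false, [0]), (true, [3, 4, 2, 3, 7, 8, 2, 3, 4, 1, 2, 3, 7, 6, 5, 4, 3, 2, 1, 0, 1, 2, 3, 4, 5, 6, 7, 3, 2, 1, 4, 3, 2, 8, 7, 3, 2, 4, 3, 3, 4, 2, 3, 7, 8, 3, 4, 1, 2, 3, 7, 5, 4, 3, 2, 1, 0, 1, 2, 3, 4, 5, 7, 3, 2, 1, 4, 3, 8, 7, 3, 2, 4, 3, 6, 5, 6, 5, 4, 5, 4, 3, 7, 5, 4, 3, 2, 3, 4, 5, 7, 3, 3, 4, 2, 3, 7, 8, 1, 2, 3, 7, 4, 3, 2, 1, 0, 1, 2, 3, 4, 7, 3, 2, 1, 8, 7, 3, 2, 4, 3, 5, 4, 5, 3, 4, 2, 3, 7, 8, 5, 3, 4, 2, 3, 7, 6, 5, 4, 3, 2, 1, 0, 1, 2, 3, 4, 5, 6, 7, 3, 2, 4, 3, 5, 8, 7, 3, 2, 4, 3, 3, 4, 2, 3, 7, 8, 4, 5, 3, 4, 2, 3, 7, 6, 5, 4, 3, 2, 1, 2, 3, 4, 5, 6, 7, 3, 2, 4, 3, 5, 4, 8, 7, 3, 2, 4, 3, 4, 2, 3, 7, 8, 5, 4, 3, 7, 6, 5, 4, 3, 2, 3, 4, 5, 6, 7, 3, 4, 5, 8, 7, 3, 2, 4, 1, 2, 3, 7,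 5, 4, 3, 2, 1, 0, 1, 2, 3, 4, 5, 7, 3, 2, 1, 2, 3, 7, 4, 5, 3, 4, 2, 3, 7, 8, 3, 7, 4, 5, 3, 4, 1, 2, 3, 7, 6, 5, 4, 3, 2, 1, 0, 1, 2, 3, 4, 5, 6, 7, 3, 2, 1, 4, 3, 5, 4, 7, 3, 8, 7, 3, 2, 4, 3, 5, 4, 7, 3, 2, 1, 2, 3, 4, 5, 6, 0, 1, 2, 3, 4, 5, 7]), (false, [4, 8]), (false, [4, 3]), (true, [3, 8]), (false, [3, 4]), (false, [6, 5, 6, 5, 4, 5]), (false, [0]), (true, [3, 4, 2, 3, 7, 8, 2, 3, 4, 1, 2, 3, 7, 6, 5, 4, 3, 2, 1, 0, 1, 2, 3, 4, 5, 6, 7, 3, 2, 1, 4, 3, 2, 8, 7, 3, 2, 4, 3, 3, 4, 2, 3, 7, 8, 3, 4, 1, 2, 3, 7, 5, 4, 3, 2, 1, 0, 1, 2, 3, 4, 5, 7, 3, 2, 1, 4, 3, 8, 7, 3, 2, 4, 3, 6, 5, 6, 5, 4, 5, 4, 3, 7, 5, 4, 3, 2, 3, 4, 5, 7, 3, 3, 4, 2, 3, 7, 8, 1, 2, 3, 7, 4, 3, 2, 1, 0, 1, 2, 3, 4, 7, 3, 2, 1, 8, 7, 3, 2, 4, 3, 5, 4, 5, 3, 4, 2, 3, 7, 8, 5, 3, 4,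 2, 3, 7, 6, 5, 4, 3, 2, 1, 0, 1, 2, 3, 4, 5, 6, 7, 3, 2, 4, 3, 5, 8, 7, 3, 2, 4, 3, 3, 4, 2, 3, 7, 8, 4, 5, 3, 4, 2, 3, 7, 6, 5, 4, 3, 2, 1, 2, 3, 4, 5, 6, 7, 3, 2, 4, 3, 5, 4, 8, 7, 3, 2, 4, 3, 4, 2, 3, 7, 8, 5, 4, 3, 7, 6, 5, 4, 3, 2, 3, 4, 5, 6, 7, 3, 4, 5, 8, 7, 3, 2, 4, 1, 2, 3, 7, 5, 4, 3, 2, 1, 0, 1, 2, 3, 4, 5, 7, 3, 2, 1, 2, 3, 7, 4, 5, 3, 4, 2, 3, 7, 8, 3, 7, 4, 5, 3, 4, 1, 2, 3, 7, 6, 5, 4, 3, 2, 1, 0, 1, 2, 3, 4, 5, 6, 7, 3, 2, 1, 4, 3, 5, 4, 7, 3, 8, 7, 3, 2, 4, 3, 5, 4, 7, 3, 2, 1, 2, 3, 4, 5, 6, 0, 1, 2, 3, 4, 5, 7]), (false, [4, 8]), (false, [4, 3]), (false, [3, 4])])],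
  [(512, 1, [(false, [3, 2]), (true, [3, 4, 2, 3, 7, 8, 2, 3, 4, 1, 2, 3, 7, 6, 5, 4, 3, 2, 1, 0, 1, 2, 3, 4, 5, 6, 7, 3, 2, 1, 4, 3, 2, 8, 7, 3, 2, 4, 3, 3, 4, 2, 3, 7, 8, 3, 4, 1, 2, 3, 7, 5, 4, 3, 2, 1, 0, 1, 2, 3, 4, 5, 7, 3, 2, 1, 4, 3, 8, 7, 3, 2, 4, 3, 6, 5, 6, 5, 4, 5, 4, 3, 7, 5, 4, 3, 2, 3, 4, 5, 7, 3, 3, 4, 2, 3, 7, 8, 1, 2, 3, 7, 4, 3, 2, 1, 0, 1, 2, 3, 4, 7, 3, 2, 1, 8, 7, 3, 2, 4, 3, 5, 4, 5, 3, 4, 2, 3, 7, 8, 5, 3, 4, 2, 3, 7, 6, 5, 4, 3, 2, 1, 0, 1, 2, 3, 4, 5, 6, 7, 3, 2, 4, 3, 5, 8, 7, 3, 2, 4, 3, 3, 4, 2, 3, 7, 8, 4, 5, 3, 4, 2, 3, 7, 6, 5, 4, 3, 2, 1, 2, 3, 4, 5, 6, 7, 3, 2, 4, 3, 5, 4, 8, 7, 3, 2, 4, 3, 4, 2, 3, 7, 8, 5, 4, 3, 7, 6, 5, 4, 3, 2, 3, 4, 5, 6, 7, 3, 4, 5, 8, 7, 3, 2, 4, 1, 2, 3, 7, 5, 4, 3, 2, 1, 0, 1, 2, 3, 4, 5, 7, 3, 2,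 1, 2, 3, 7, 4, 5, 3, 4, 2, 3, 7, 8, 3, 7, 4, 5, 3, 4, 1, 2, 3, 7, 6, 5, 4, 3, 2, 1, 0, 1, 2, 3, 4, 5, 6, 7, 3, 2, 1, 4, 3, 5, 4, 7, 3, 8, 7, 3, 2, 4, 3, 5, 4, 7, 3, 2, 1, 2, 3, 4, 5, 6, 0, 1, 2, 3, 4, 5, 7]), (false, [3, 4, 2, 3, 7, 8, 4, 5, 3, 4, 2, 3, 7, 6, 5, 4, 3, 2, 1, 2, 3, 4, 5, 6, 7, 3, 2, 4, 3, 5, 4, 8, 7, 3, 2, 4, 3, 3, 4, 2, 3, 7, 8, 5, 3, 4, 2, 3, 7, 6, 5, 4, 3, 2, 1, 0, 1, 2, 3, 4, 5, 6, 7, 3, 2, 4, 3, 5, 8, 7, 3, 2, 4, 3]), (false, [2, 3]), (true, [3]), (false, [3, 2]), (true, [3, 4, 2, 3, 7, 8, 2, 3, 4, 1, 2, 3, 7, 6, 5, 4, 3, 2, 1, 0, 1, 2, 3, 4, 5, 6, 7, 3, 2, 1, 4, 3, 2, 8, 7, 3, 2, 4, 3, 3, 4, 2, 3, 7, 8, 3, 4, 1, 2, 3, 7, 5, 4, 3, 2, 1, 0, 1, 2, 3, 4, 5, 7, 3, 2, 1, 4, 3, 8, 7, 3, 2, 4, 3, 6, 5, 6, 5, 4, 5, 4, 3, 7, 5, 4, 3, 2, 3, 4, 5,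 7, 3, 3, 4, 2, 3, 7, 8, 1, 2, 3, 7, 4, 3, 2, 1, 0, 1, 2, 3, 4, 7, 3, 2, 1, 8, 7, 3, 2, 4, 3, 5, 4, 5, 3, 4, 2, 3, 7, 8, 5, 3, 4, 2, 3, 7, 6, 5, 4, 3, 2, 1, 0, 1, 2, 3, 4, 5, 6, 7, 3, 2, 4, 3, 5, 8, 7, 3, 2, 4, 3, 3, 4, 2, 3, 7, 8, 4, 5, 3, 4, 2, 3, 7, 6, 5, 4, 3, 2, 1, 2, 3, 4, 5, 6, 7, 3, 2, 4, 3, 5, 4, 8, 7, 3, 2, 4, 3, 4, 2, 3, 7, 8, 5, 4, 3, 7, 6, 5, 4, 3, 2, 3, 4, 5, 6, 7, 3, 4, 5, 8, 7, 3, 2, 4, 1, 2, 3, 7, 5, 4, 3, 2, 1, 0, 1, 2, 3, 4, 5, 7, 3, 2, 1, 2, 3, 7, 4, 5, 3, 4, 2, 3, 7, 8, 3, 7, 4, 5, 3, 4, 1, 2, 3, 7, 6, 5, 4, 3, 2, 1, 0, 1, 2, 3, 4, 5, 6, 7, 3, 2, 1, 4, 3, 5, 4, 7, 3, 8, 7, 3, 2, 4, 3, 5, 4, 7, 3, 2, 1, 2, 3, 4, 5, 6, 0, 1, 2, 3, 4, 5, 7]), (false, [3, 4, 2, 3, 7, 8, 4, 5, 3, 4, 2, 3, 7, 6, 5, 4, 3, 2, 1, 2, 3, 4, 5, 6, 7, 3, 2, 4, 3, 5,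 4, 8, 7, 3, 2, 4, 3, 3, 4, 2, 3, 7, 8, 5, 3, 4, 2, 3, 7, 6, 5, 4, 3, 2, 1, 0, 1, 2, 3, 4, 5, 6, 7, 3, 2, 4, 3, 5, 8, 7, 3, 2, 4, 3]), (false, [2, 3]), (false, [3, 2])]),
    (528, 2, [(false, [0, 5, 7, 3, 4]), (false, [0]), (true, [3, 4, 2, 3, 7, 8, 2, 3, 4, 1, 2, 3, 7, 6, 5, 4, 3, 2, 1, 0, 1, 2, 3, 4, 5, 6, 7, 3, 2, 1, 4, 3, 2, 8, 7, 3, 2, 4, 3, 3, 4, 2, 3, 7, 8, 3, 4, 1, 2, 3, 7, 5, 4, 3, 2, 1, 0, 1, 2, 3, 4, 5, 7, 3, 2, 1, 4, 3, 8, 7, 3, 2, 4, 3, 6, 5, 6, 5, 4, 5, 4, 3, 7, 5, 4, 3, 2, 3, 4, 5, 7, 3, 3, 4, 2, 3, 7, 8, 1, 2, 3, 7, 4, 3, 2, 1, 0, 1, 2, 3, 4, 7, 3, 2, 1, 8, 7, 3, 2, 4, 3, 5, 4, 5, 3, 4, 2, 3, 7, 8, 5, 3, 4, 2, 3, 7, 6, 5, 4, 3, 2, 1, 0, 1, 2, 3, 4, 5, 6, 7, 3, 2, 4, 3, 5, 8, 7, 3, 2, 4, 3, 3, 4, 2, 3, 7, 8, 4, 5, 3, 4, 2, 3, 7, 6, 5, 4, 3,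 2, 1, 2, 3, 4, 5, 6, 7, 3, 2, 4, 3, 5, 4, 8, 7, 3, 2, 4, 3, 4, 2, 3, 7, 8, 5, 4, 3, 7, 6, 5, 4, 3, 2, 3, 4, 5, 6, 7, 3, 4, 5, 8, 7, 3, 2, 4, 1, 2, 3, 7, 5, 4, 3, 2, 1, 0, 1, 2, 3, 4, 5, 7, 3, 2, 1, 2, 3, 7, 4, 5, 3, 4, 2, 3, 7, 8, 3, 7, 4, 5, 3, 4, 1, 2, 3, 7, 6, 5, 4, 3, 2, 1, 0, 1, 2, 3, 4, 5, 6, 7, 3, 2, 1, 4, 3, 5, 4, 7, 3, 8, 7, 3, 2, 4, 3, 5, 4, 7, 3, 2, 1, 2, 3, 4, 5, 6, 0, 1, 2, 3, 4, 5, 7]), (false, [3, 4, 2, 3, 7, 8, 4, 5, 3, 4, 2, 3, 7, 6, 5, 4, 3, 2, 1, 2, 3, 4, 5, 6, 7, 3, 2, 4, 3, 5, 4, 8, 7, 3, 2, 4, 3, 3, 4, 2, 3, 7, 8, 5, 3, 4, 2, 3, 7, 6, 5, 4, 3, 2, 1, 0, 1, 2, 3, 4, 5, 6, 7, 3, 2, 4, 3, 5, 8, 7, 3, 2, 4, 3]), (false, [4, 3, 7, 5, 0]), (true, [3, 8]), (false, [0, 5, 7, 3, 4]), (false, [0]), (true, [3, 4, 2, 3, 7, 8, 2, 3, 4, 1, 2, 3, 7,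 6, 5, 4, 3, 2, 1, 0, 1, 2, 3, 4, 5, 6, 7, 3, 2, 1, 4, 3, 2, 8, 7, 3, 2, 4, 3, 3, 4, 2, 3, 7, 8, 3, 4, 1, 2, 3, 7, 5, 4, 3, 2, 1, 0, 1, 2, 3, 4, 5, 7, 3, 2, 1, 4, 3, 8, 7, 3, 2, 4, 3, 6, 5, 6, 5, 4, 5, 4, 3, 7, 5, 4, 3, 2, 3, 4, 5, 7, 3, 3, 4, 2, 3, 7, 8, 1, 2, 3, 7, 4, 3, 2, 1, 0, 1, 2, 3, 4, 7, 3, 2, 1, 8, 7, 3, 2, 4, 3, 5, 4, 5, 3, 4, 2, 3, 7, 8, 5, 3, 4, 2, 3, 7, 6, 5, 4, 3, 2, 1, 0, 1, 2, 3, 4, 5, 6, 7, 3, 2, 4, 3, 5, 8, 7, 3, 2, 4, 3, 3, 4, 2, 3, 7, 8, 4, 5, 3, 4, 2, 3, 7, 6, 5, 4, 3, 2, 1, 2, 3, 4, 5, 6, 7, 3, 2, 4, 3, 5, 4, 8, 7, 3, 2, 4, 3, 4, 2, 3, 7, 8, 5, 4, 3, 7, 6, 5, 4, 3, 2, 3, 4, 5, 6, 7, 3, 4, 5, 8, 7, 3, 2, 4, 1, 2, 3, 7, 5, 4, 3, 2, 1, 0, 1, 2, 3, 4, 5, 7, 3, 2, 1, 2, 3, 7, 4, 5, 3, 4, 2, 3, 7, 8, 3, 7, 4, 5, 3, 4, 1, 2, 3, 7, 6, 5, 4, 3,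 2, 1, 0, 1, 2, 3, 4, 5, 6, 7, 3, 2, 1, 4, 3, 5, 4, 7, 3, 8, 7, 3, 2, 4, 3, 5, 4, 7, 3, 2, 1, 2, 3, 4, 5, 6, 0, 1, 2, 3, 4, 5, 7]), (false, [3, 4, 2, 3, 7, 8, 4, 5, 3, 4, 2, 3, 7, 6, 5, 4, 3, 2, 1, 2, 3, 4, 5, 6, 7, 3, 2, 4, 3, 5, 4, 8, 7, 3, 2, 4, 3, 3, 4, 2, 3, 7, 8, 5, 3, 4, 2, 3, 7, 6, 5, 4, 3, 2, 1, 0, 1, 2, 3, 4, 5, 6, 7, 3, 2, 4, 3, 5, 8, 7, 3, 2, 4, 3]), (false, [4, 3, 7, 5, 0]), (false, [0, 5, 7, 3, 4])]),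
    (536, 0, [(false, [5]), (false, [8, 4, 3, 7, 6, 5, 4, 3, 2, 3, 4, 5, 6, 7, 3, 4, 8, 8, 3, 7, 5, 4, 3, 2, 3, 4, 5, 7, 3, 8]), (false, [0]), (true, [3, 4, 2, 3, 7, 8, 2, 3, 4, 1, 2, 3, 7, 6, 5, 4, 3, 2, 1, 0, 1, 2, 3, 4, 5, 6, 7, 3, 2, 1, 4, 3, 2, 8, 7, 3, 2, 4, 3, 3, 4, 2, 3, 7, 8, 3, 4, 1, 2, 3, 7, 5, 4, 3, 2, 1, 0, 1, 2, 3, 4, 5, 7, 3, 2, 1, 4, 3, 8, 7, 3, 2, 4, 3, 6, 5, 6, 5, 4, 5, 4, 3, 7, 5, 4, 3, 2, 3, 4, 5, 7, 3, 3, 4, 2, 3, 7, 8, 1, 2, 3, 7, 4, 3, 2, 1, 0, 1, 2, 3, 4, 7, 3, 2, 1, 8, 7, 3, 2, 4, 3, 5, 4, 5, 3, 4, 2, 3, 7, 8, 5, 3, 4, 2, 3, 7, 6, 5, 4, 3, 2, 1, 0, 1, 2, 3, 4, 5, 6, 7, 3, 2, 4, 3, 5, 8, 7, 3, 2, 4, 3, 3, 4, 2, 3, 7, 8, 4, 5, 3, 4, 2, 3, 7, 6, 5, 4, 3, 2, 1, 2, 3, 4, 5, 6, 7, 3, 2, 4, 3, 5, 4, 8, 7, 3, 2, 4, 3, 4, 2, 3, 7, 8, 5, 4,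 3, 7, 6, 5, 4, 3, 2, 3, 4, 5, 6, 7, 3, 4, 5, 8, 7, 3, 2, 4, 1, 2, 3, 7, 5, 4, 3, 2, 1, 0, 1, 2, 3, 4, 5, 7, 3, 2, 1, 2, 3, 7, 4, 5, 3, 4, 2, 3, 7, 8, 3, 7, 4, 5, 3, 4, 1, 2, 3, 7, 6, 5, 4, 3, 2, 1, 0, 1, 2, 3, 4, 5, 6, 7, 3, 2, 1, 4, 3, 5, 4, 7, 3, 8, 7, 3, 2, 4, 3, 5, 4, 7, 3, 2, 1, 2, 3, 4, 5, 6, 0, 1, 2, 3, 4, 5, 7]), (false, [3, 4, 2, 3, 7, 8, 4, 5, 3, 4, 2, 3, 7, 6, 5, 4, 3, 2, 1, 2, 3, 4, 5, 6, 7, 3, 2, 4, 3, 5, 4, 8, 7, 3, 2, 4, 3, 3, 4, 2, 3, 7, 8, 5, 3, 4, 2, 3, 7, 6, 5, 4, 3, 2, 1, 0, 1, 2, 3, 4, 5, 6, 7, 3, 2, 4, 3, 5, 8, 7, 3, 2, 4, 3]), (false, [5]), (true, []), (false, [5]), (false, [8, 4, 3, 7, 6, 5, 4, 3, 2, 3, 4, 5, 6, 7, 3, 4, 8, 8, 3, 7, 5, 4, 3, 2, 3, 4, 5, 7, 3, 8]), (false, [0]), (true, [3, 4, 2, 3, 7, 8, 2, 3, 4, 1, 2, 3, 7, 6, 5, 4,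 3, 2, 1, 0, 1, 2, 3, 4, 5, 6, 7, 3, 2, 1, 4, 3, 2, 8, 7, 3, 2, 4, 3, 3, 4, 2, 3, 7, 8, 3, 4, 1, 2, 3, 7, 5, 4, 3, 2, 1, 0, 1, 2, 3, 4, 5, 7, 3, 2, 1, 4, 3, 8, 7, 3, 2, 4, 3, 6, 5, 6, 5, 4, 5, 4, 3, 7, 5, 4, 3, 2, 3, 4, 5, 7, 3, 3, 4, 2, 3, 7, 8, 1, 2, 3, 7, 4, 3, 2, 1, 0, 1, 2, 3, 4, 7, 3, 2, 1, 8, 7, 3, 2, 4, 3, 5, 4, 5, 3, 4, 2, 3, 7, 8, 5, 3, 4, 2, 3, 7, 6, 5, 4, 3, 2, 1, 0, 1, 2, 3, 4, 5, 6, 7, 3, 2, 4, 3, 5, 8, 7, 3, 2, 4, 3, 3, 4, 2, 3, 7, 8, 4, 5, 3, 4, 2, 3, 7, 6, 5, 4, 3, 2, 1, 2, 3, 4, 5, 6, 7, 3, 2, 4, 3, 5, 4, 8, 7, 3, 2, 4, 3, 4, 2, 3, 7, 8, 5, 4, 3, 7, 6, 5, 4, 3, 2, 3, 4, 5, 6, 7, 3, 4, 5, 8, 7, 3, 2, 4, 1, 2, 3, 7, 5, 4, 3, 2, 1, 0, 1, 2, 3, 4, 5, 7, 3, 2, 1, 2, 3, 7, 4, 5, 3, 4, 2, 3, 7, 8, 3, 7, 4, 5, 3, 4, 1, 2, 3, 7, 6, 5, 4, 3, 2, 1, 0,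 1, 2, 3, 4, 5, 6, 7, 3, 2, 1, 4, 3, 5, 4, 7, 3, 8, 7, 3, 2, 4, 3, 5, 4, 7, 3, 2, 1, 2, 3, 4, 5, 6, 0, 1, 2, 3, 4, 5, 7]), (false, [3, 4, 2, 3, 7, 8, 4, 5, 3, 4, 2, 3, 7, 6, 5, 4, 3, 2, 1, 2, 3, 4, 5, 6, 7, 3, 2, 4, 3, 5, 4, 8, 7, 3, 2, 4, 3, 3, 4, 2, 3, 7, 8, 5, 3, 4, 2, 3, 7, 6, 5, 4, 3, 2, 1, 0, 1, 2, 3, 4, 5, 6, 7, 3, 2, 4, 3, 5, 8, 7, 3, 2, 4, 3]), (false, [5]), (false, [5])])],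
  [(520, 2, [(false, [3, 2, 2, 5, 4, 1, 2, 2, 5, 2, 8]), (false, [8, 4, 3, 7, 6, 5, 4, 3, 2, 3, 4, 5, 6, 7, 3, 4, 8, 8, 3, 7, 5, 4, 3, 2, 3, 4, 5, 7, 3, 8]), (true, [3, 4, 2, 3, 7, 8, 2, 3, 4, 1, 2, 3, 7, 6, 5, 4, 3, 2, 1, 0, 1, 2, 3, 4, 5, 6, 7, 3, 2, 1, 4, 3, 2, 8, 7, 3, 2, 4, 3, 3, 4, 2, 3, 7, 8, 3, 4, 1, 2, 3, 7, 5, 4, 3, 2, 1, 0, 1, 2, 3, 4, 5, 7, 3, 2, 1, 4, 3, 8, 7, 3, 2, 4, 3, 6, 5, 6, 5, 4, 5, 4, 3, 7, 5, 4, 3, 2, 3, 4, 5, 7, 3, 3, 4, 2, 3, 7, 8, 1, 2, 3, 7, 4, 3, 2, 1, 0, 1, 2, 3, 4, 7, 3, 2, 1, 8, 7, 3, 2, 4, 3, 5, 4, 5, 3, 4, 2, 3, 7, 8, 5, 3, 4, 2, 3, 7, 6, 5, 4, 3, 2, 1, 0, 1, 2, 3, 4, 5, 6, 7, 3, 2, 4, 3, 5, 8, 7, 3, 2, 4, 3, 3, 4, 2, 3, 7, 8, 4, 5, 3, 4, 2, 3, 7, 6, 5, 4, 3, 2, 1, 2, 3, 4, 5, 6, 7, 3, 2, 4, 3, 5, 4, 8, 7, 3, 2, 4, 3, 4, 2,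 3, 7, 8, 5, 4, 3, 7, 6, 5, 4, 3, 2, 3, 4, 5, 6, 7, 3, 4, 5, 8, 7, 3, 2, 4, 1, 2, 3, 7, 5, 4, 3, 2, 1, 0, 1, 2, 3, 4, 5, 7, 3, 2, 1, 2, 3, 7, 4, 5, 3, 4, 2, 3, 7, 8, 3, 7, 4, 5, 3, 4, 1, 2, 3, 7, 6, 5, 4, 3, 2, 1, 0, 1, 2, 3, 4, 5, 6, 7, 3, 2, 1, 4, 3, 5, 4, 7, 3, 8, 7, 3, 2, 4, 3, 5, 4, 7, 3, 2, 1, 2, 3, 4, 5, 6, 0, 1, 2, 3, 4, 5, 7]), (false, [4, 3, 4, 2, 3, 7, 8, 4, 5, 3, 4, 2, 3, 7, 6, 5, 4, 3, 2, 1, 2, 3, 4, 5, 6, 7, 3, 2, 4, 3, 5, 4, 8, 7, 3, 2, 4, 3, 3, 4, 2, 3, 7, 8, 5, 3, 4, 2, 3, 7, 6, 5, 4, 3, 2, 1, 0, 1, 2, 3, 4, 5, 6, 7, 3, 2, 4, 3, 5, 8, 7, 3, 2, 4, 3]), (false, [8, 2, 5, 2, 2, 1, 4, 5, 2, 2, 3]), (true, [3, 8]), (false, [3, 2, 2, 5, 4, 1, 2, 2, 5, 2, 8]), (false, [8, 4, 3, 7, 6, 5, 4, 3, 2, 3, 4, 5, 6, 7, 3, 4, 8, 8, 3, 7, 5, 4, 3, 2, 3, 4, 5,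 7, 3, 8]), (true, [3, 4, 2, 3, 7, 8, 2, 3, 4, 1, 2, 3, 7, 6, 5, 4, 3, 2, 1, 0, 1, 2, 3, 4, 5, 6, 7, 3, 2, 1, 4, 3, 2, 8, 7, 3, 2, 4, 3, 3, 4, 2, 3, 7, 8, 3, 4, 1, 2, 3, 7, 5, 4, 3, 2, 1, 0, 1, 2, 3, 4, 5, 7, 3, 2, 1, 4, 3, 8, 7, 3, 2, 4, 3, 6, 5, 6, 5, 4, 5, 4, 3, 7, 5, 4, 3, 2, 3, 4, 5, 7, 3, 3, 4, 2, 3, 7, 8, 1, 2, 3, 7, 4, 3, 2, 1, 0, 1, 2, 3, 4, 7, 3, 2, 1, 8, 7, 3, 2, 4, 3, 5, 4, 5, 3, 4, 2, 3, 7, 8, 5, 3, 4, 2, 3, 7, 6, 5, 4, 3, 2, 1, 0, 1, 2, 3, 4, 5, 6, 7, 3, 2, 4, 3, 5, 8, 7, 3, 2, 4, 3, 3, 4, 2, 3, 7, 8, 4, 5, 3, 4, 2, 3, 7, 6, 5, 4, 3, 2, 1, 2, 3, 4, 5, 6, 7, 3, 2, 4, 3, 5, 4, 8, 7, 3, 2, 4, 3, 4, 2, 3, 7, 8, 5, 4, 3, 7, 6, 5, 4, 3, 2, 3, 4, 5, 6, 7, 3, 4, 5, 8, 7, 3, 2, 4, 1, 2, 3, 7, 5, 4, 3, 2, 1, 0, 1, 2, 3, 4, 5, 7, 3, 2, 1, 2, 3, 7, 4, 5,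 3, 4, 2, 3, 7, 8, 3, 7, 4, 5, 3, 4, 1, 2, 3, 7, 6, 5, 4, 3, 2, 1, 0, 1, 2, 3, 4, 5, 6, 7, 3, 2, 1, 4, 3, 5, 4, 7, 3, 8, 7, 3, 2, 4, 3, 5, 4, 7, 3, 2, 1, 2, 3, 4, 5, 6, 0, 1, 2, 3, 4, 5, 7]), (false, [4, 3, 4, 2, 3, 7, 8, 4, 5, 3, 4, 2, 3, 7, 6, 5, 4, 3, 2, 1, 2, 3, 4, 5, 6, 7, 3, 2, 4, 3, 5, 4, 8, 7, 3, 2, 4, 3, 3, 4, 2, 3, 7, 8, 5, 3, 4, 2, 3, 7, 6, 5, 4, 3, 2, 1, 0, 1, 2, 3, 4, 5, 6, 7, 3, 2, 4, 3, 5, 8, 7, 3, 2, 4, 3]), (false, [8, 2, 5, 2, 2, 1, 4, 5, 2, 2, 3]), (true, [3, 8]), (false, [3, 2, 2, 5, 4, 1, 2, 2, 5, 2, 8]), (false, [8, 4, 3, 7, 6, 5, 4, 3, 2, 3, 4, 5, 6, 7, 3, 4, 8, 8, 3, 7, 5, 4, 3, 2, 3, 4, 5, 7, 3, 8]), (true, [3, 4, 2, 3, 7, 8, 2, 3, 4, 1, 2, 3, 7, 6, 5, 4, 3, 2, 1, 0, 1, 2, 3, 4, 5, 6, 7, 3, 2, 1, 4, 3, 2, 8, 7, 3, 2, 4, 3, 3, 4, 2,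 3, 7, 8, 3, 4, 1, 2, 3, 7, 5, 4, 3, 2, 1, 0, 1, 2, 3, 4, 5, 7, 3, 2, 1, 4, 3, 8, 7, 3, 2, 4, 3, 6, 5, 6, 5, 4, 5, 4, 3, 7, 5, 4, 3, 2, 3, 4, 5, 7, 3, 3, 4, 2, 3, 7, 8, 1, 2, 3, 7, 4, 3, 2, 1, 0, 1, 2, 3, 4, 7, 3, 2, 1, 8, 7, 3, 2, 4, 3, 5, 4, 5, 3, 4, 2, 3, 7, 8, 5, 3, 4, 2, 3, 7, 6, 5, 4, 3, 2, 1, 0, 1, 2, 3, 4, 5, 6, 7, 3, 2, 4, 3, 5, 8, 7, 3, 2, 4, 3, 3, 4, 2, 3, 7, 8, 4, 5, 3, 4, 2, 3, 7, 6, 5, 4, 3, 2, 1, 2, 3, 4, 5, 6, 7, 3, 2, 4, 3, 5, 4, 8, 7, 3, 2, 4, 3, 4, 2, 3, 7, 8, 5, 4, 3, 7, 6, 5, 4, 3, 2, 3, 4, 5, 6, 7, 3, 4, 5, 8, 7, 3, 2, 4, 1, 2, 3, 7, 5, 4, 3, 2, 1, 0, 1, 2, 3, 4, 5, 7, 3, 2, 1, 2, 3, 7, 4, 5, 3, 4, 2, 3, 7, 8, 3, 7, 4, 5, 3, 4, 1, 2, 3, 7, 6, 5, 4, 3, 2, 1, 0, 1, 2, 3, 4, 5, 6, 7, 3, 2, 1, 4, 3, 5, 4, 7, 3, 8, 7, 3, 2, 4, 3, 5, 4, 7, 3,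 2, 1, 2, 3, 4, 5, 6, 0, 1, 2, 3, 4, 5, 7]), (false, [4, 3, 4, 2, 3, 7, 8, 4, 5, 3, 4, 2, 3, 7, 6, 5, 4, 3, 2, 1, 2, 3, 4, 5, 6, 7, 3, 2, 4, 3, 5, 4, 8, 7, 3, 2, 4, 3, 3, 4, 2, 3, 7, 8, 5, 3, 4, 2, 3, 7, 6, 5, 4, 3, 2, 1, 0, 1, 2, 3, 4, 5, 6, 7, 3, 2, 4, 3, 5, 8, 7, 3, 2, 4, 3]), (false, [8, 2, 5, 2, 2, 1, 4, 5, 2, 2, 3]), (false, [3, 2, 2, 5, 4, 1, 2, 2, 5, 2, 8])]),
    (536, 1, [(false, [4, 4, 5, 2, 0, 5, 2, 1, 7, 2, 3, 4, 5]), (false, [8, 4, 3, 7, 6, 5, 4, 3, 2, 3, 4, 5, 6, 7, 3, 4, 8, 8, 3, 7, 5, 4, 3, 2, 3, 4, 5, 7, 3, 8]), (false, [0]), (true, [3, 4, 2, 3, 7, 8, 2, 3, 4, 1, 2, 3, 7, 6, 5, 4, 3, 2, 1, 0, 1, 2, 3, 4, 5, 6, 7, 3, 2, 1, 4, 3, 2, 8, 7, 3, 2, 4, 3, 3, 4, 2, 3, 7, 8, 3, 4, 1, 2, 3, 7, 5, 4, 3, 2, 1, 0, 1, 2, 3, 4, 5, 7, 3, 2, 1, 4, 3, 8, 7,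 3, 2, 4, 3, 6, 5, 6, 5, 4, 5, 4, 3, 7, 5, 4, 3, 2, 3, 4, 5, 7, 3, 3, 4, 2, 3, 7, 8, 1, 2, 3, 7, 4, 3, 2, 1, 0, 1, 2, 3, 4, 7, 3, 2, 1, 8, 7, 3, 2, 4, 3, 5, 4, 5, 3, 4, 2, 3, 7, 8, 5, 3, 4, 2, 3, 7, 6, 5, 4, 3, 2, 1, 0, 1, 2, 3, 4, 5, 6, 7, 3, 2, 4, 3, 5, 8, 7, 3, 2, 4, 3, 3, 4, 2, 3, 7, 8, 4, 5, 3, 4, 2, 3, 7, 6, 5, 4, 3, 2, 1, 2, 3, 4, 5, 6, 7, 3, 2, 4, 3, 5, 4, 8, 7, 3, 2, 4, 3, 4, 2, 3, 7, 8, 5, 4, 3, 7, 6, 5, 4, 3, 2, 3, 4, 5, 6, 7, 3, 4, 5, 8, 7, 3, 2, 4, 1, 2, 3, 7, 5, 4, 3, 2, 1, 0, 1, 2, 3, 4, 5, 7, 3, 2, 1, 2, 3, 7, 4, 5, 3, 4, 2, 3, 7, 8, 3, 7, 4, 5, 3, 4, 1, 2, 3, 7, 6, 5, 4, 3, 2, 1, 0, 1, 2, 3, 4, 5, 6, 7, 3, 2, 1, 4, 3, 5, 4, 7, 3, 8, 7, 3, 2, 4, 3, 5, 4, 7, 3, 2, 1, 2, 3, 4, 5, 6, 0, 1, 2, 3, 4, 5, 7]), (false, [4, 3, 4, 2, 3, 7, 8, 4, 5, 3,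 4, 2, 3, 7, 6, 5, 4, 3, 2, 1, 2, 3, 4, 5, 6, 7, 3, 2, 4, 3, 5, 4, 8, 7, 3, 2, 4, 3, 3, 4, 2, 3, 7, 8, 5, 3, 4, 2, 3, 7, 6, 5, 4, 3, 2, 1, 0, 1, 2, 3, 4, 5, 6, 7, 3, 2, 4, 3, 5, 8, 7, 3, 2, 4, 3]), (false, [5, 4, 3, 2, 7, 1, 2, 5, 0, 2, 5, 4, 4]), (true, [3]), (false, [4, 4, 5, 2, 0, 5, 2, 1, 7, 2, 3, 4, 5]), (false, [8, 4, 3, 7, 6, 5, 4, 3, 2, 3, 4, 5, 6, 7, 3, 4, 8, 8, 3, 7, 5, 4, 3, 2, 3, 4, 5, 7, 3, 8]), (false, [0]), (true, [3, 4, 2, 3, 7, 8, 2, 3, 4, 1, 2, 3, 7, 6, 5, 4, 3, 2, 1, 0, 1, 2, 3, 4, 5, 6, 7, 3, 2, 1, 4, 3, 2, 8, 7, 3, 2, 4, 3, 3, 4, 2, 3, 7, 8, 3, 4, 1, 2, 3, 7, 5, 4, 3, 2, 1, 0, 1, 2, 3, 4, 5, 7, 3, 2, 1, 4, 3, 8, 7, 3, 2, 4, 3, 6, 5, 6, 5, 4, 5, 4, 3, 7, 5, 4, 3, 2, 3, 4, 5, 7, 3, 3, 4, 2, 3, 7, 8, 1, 2, 3, 7, 4, 3, 2, 1, 0, 1, 2, 3, 4,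 7, 3, 2, 1, 8, 7, 3, 2, 4, 3, 5, 4, 5, 3, 4, 2, 3, 7, 8, 5, 3, 4, 2, 3, 7, 6, 5, 4, 3, 2, 1, 0, 1, 2, 3, 4, 5, 6, 7, 3, 2, 4, 3, 5, 8, 7, 3, 2, 4, 3, 3, 4, 2, 3, 7, 8, 4, 5, 3, 4, 2, 3, 7, 6, 5, 4, 3, 2, 1, 2, 3, 4, 5, 6, 7, 3, 2, 4, 3, 5, 4, 8, 7, 3, 2, 4, 3, 4, 2, 3, 7, 8, 5, 4, 3, 7, 6, 5, 4, 3, 2, 3, 4, 5, 6, 7, 3, 4, 5, 8, 7, 3, 2, 4, 1, 2, 3, 7, 5, 4, 3, 2, 1, 0, 1, 2, 3, 4, 5, 7, 3, 2, 1, 2, 3, 7, 4, 5, 3, 4, 2, 3, 7, 8, 3, 7, 4, 5, 3, 4, 1, 2, 3, 7, 6, 5, 4, 3, 2, 1, 0, 1, 2, 3, 4, 5, 6, 7, 3, 2, 1, 4, 3, 5, 4, 7, 3, 8, 7, 3, 2, 4, 3, 5, 4, 7, 3, 2, 1, 2, 3, 4, 5, 6, 0, 1, 2, 3, 4, 5, 7]), (false, [4, 3, 4, 2, 3, 7, 8, 4, 5, 3, 4, 2, 3, 7, 6, 5, 4, 3, 2, 1, 2, 3, 4, 5, 6, 7, 3, 2, 4, 3, 5, 4, 8, 7, 3, 2, 4, 3, 3, 4, 2, 3, 7, 8, 5, 3, 4, 2, 3, 7, 6,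 5, 4, 3, 2, 1, 0, 1, 2, 3, 4, 5, 6, 7, 3, 2, 4, 3, 5, 8, 7, 3, 2, 4, 3]), (false, [5, 4, 3, 2, 7, 1, 2, 5, 0, 2, 5, 4, 4]), (false, [4, 4, 5, 2, 0, 5, 2, 1, 7, 2, 3, 4, 5])])]]

/-- The orbit search over representative 0. -/
def orbS0 : List (ℕ × ℕ × Bool × ℕ × ℕ) := [
  (529, 528, false, 1, 0), (1552, 528, true, 16, 16), (533, 531, false, 3, 0), (789, 531, false, 4, 0), (1555, 531, true, 16, 16),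
  (530, 529, false, 2, 0), (1553, 529, true, 16, 16), (536, 533, false, 0, 0), (534, 533, false, 2, 0), (787, 533, false, 4, 0),
  (1557, 533, true, 16, 16), (664, 789, false, 0, 0), (790, 789, false, 2, 0), (1813, 789, true, 8, 8), (532, 530, false, 3, 0),
  (788, 530, false, 4, 0), (1554, 530, true, 16, 16), (539, 536, false, 2, 0), (729, 536, false, 4, 0), (1560, 536, true, 16, 16),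
  (535, 534, false, 1, 0), (1558, 534, true, 16, 16), (659, 787, false, 0, 0), (1811, 787, true, 8, 8), (667, 664, false, 2, 0),
  (600, 664, false, 3, 0), (1688, 664, true, 4, 4), (791, 790, false, 1, 0), (1814, 790, true, 8, 8), (537, 532, false, 0, 0),
  (786, 532, false, 4, 0), (1556, 532, true, 16, 16), (665, 788, false, 0, 0), (1812, 788, true, 8, 8), (538, 539, false, 1, 0),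
  (541, 539, false, 3, 0), (2012, 539, false, 4, 0), (1563, 539, true, 16, 16), (852, 729, false, 0, 0), (953, 729, false, 2, 0),
  (1753, 729, true, 2, 2), (1559, 535, true, 16, 16), (597, 659, false, 3, 0), (1683, 659, true, 4, 4), (666, 667, false, 1, 0),
  (605, 667, false, 3, 0), (1949, 667, false, 4, 0), (1691, 667, true, 4, 4), (827, 600, false, 2, 0), (1624, 600, true, 2, 2),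
  (1815, 791, true, 8, 8), (728, 537, false, 4, 0), (1561, 537, true, 16, 16), (658, 786, false, 0, 0), (785, 786, false, 2, 0),
  (1810, 786, true, 8, 8), (601, 665, false, 3, 0), (1689, 665, true, 4, 4), (540, 538, false, 3, 0), (2013, 538, false, 4, 0),
  (1562, 538, true, 16, 16), (2010, 541, false, 4, 0), (1565, 541, true, 16, 16), (1727, 2012, false, 2, 0), (988, 2012, true, 2, 2),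
  (564, 852, false, 2, 0), (914, 852, false, 3, 0), (1876, 852, true, 2, 2), (1641, 953, false, 1, 0), (889, 953, false, 3, 0),
  (1977, 953, true, 1, 1), (822, 597, false, 2, 0), (1621, 597, true, 2, 2), (604, 666, false, 3, 0), (1948, 666, false, 4, 0),
  (1690, 666, true, 4, 4), (829, 605, false, 2, 0), (1883, 605, false, 4, 0), (1629, 605, true, 2, 2), (925, 1949, true, 4, 4),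
  (1770, 827, false, 1, 0), (2042, 827, false, 4, 0), (1851, 827, true, 1, 1), (853, 728, false, 0, 0), (955, 728, false, 2, 0),
  (1752, 728, true, 2, 2), (657, 658, false, 2, 0), (596, 658, false, 3, 0), (1682, 658, true, 4, 4), (784, 785, false, 1, 0),
  (1809, 785, true, 8, 8), (825, 601, false, 2, 0), (1625, 601, true, 2, 2), (543, 540, false, 2, 0), (2011, 540, false, 4, 0),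
  (1564, 540, true, 16, 16), (1725, 2013, false, 2, 0), (989, 2013, true, 2, 2), (2007, 2010, false, 0, 0), (1722, 2010, false, 2, 0),
  (986, 2010, true, 2, 2), (879, 1727, false, 1, 0), (1663, 1727, false, 3, 0), (703, 1727, true, 1, 1), (2020, 564, false, 1, 0),
  (562, 564, false, 3, 0), (1588, 564, true, 1, 1), (913, 914, false, 2, 0), (1938, 914, true, 4, 4), (1705, 1641, false, 3, 0),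
  (617, 1641, true, 1, 1), (884, 889, false, 0, 0), (1913, 889, true, 1, 1), (1767, 822, false, 1, 0), (560, 822, false, 4, 0),
  (1846, 822, true, 1, 1), (831, 604, false, 2, 0), (1882, 604, false, 4, 0), (1628, 604, true, 2, 2), (1951, 1948, false, 2, 0),
  (924, 1948, true, 4, 4), (1772, 829, false, 1, 0), (2044, 829, false, 4, 0), (1853, 829, true, 1, 1), (1750, 1883, false, 0, 0),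
  (1592, 1883, false, 2, 0), (859, 1883, true, 2, 2), (555, 1770, false, 4, 0), (746, 1770, true, 1, 1), (1655, 2042, false, 0, 0),
  (1018, 2042, true, 1, 1), (566, 853, false, 2, 0), (915, 853, false, 3, 0), (1877, 853, true, 2, 2), (1642, 955, false, 1, 0),
  (893, 955, false, 3, 0), (1979, 955, true, 1, 1), (656, 657, false, 1, 0), (593, 657, false, 3, 0), (592, 657, false, 4, 0),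
  (1681, 657, true, 4, 4), (820, 596, false, 2, 0), (1620, 596, true, 2, 2), (1808, 784, true, 8, 8), (1769, 825, false, 1, 0),
  (766, 825, false, 4, 0), (1849, 825, true, 1, 1), (734, 543, false, 4, 0), (1567, 543, true, 16, 16), (2006, 2011, false, 0, 0),
  (1720, 2011, false, 2, 0), (987, 2011, true, 2, 2), (876, 1725, false, 1, 0), (1659, 1725, false, 3, 0), (701, 1725, true, 1, 1),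
  (1719, 2007, false, 2, 0), (983, 2007, true, 2, 2), (875, 1722, false, 1, 0), (1660, 1722, false, 3, 0), (698, 1722, true, 1, 1),
  (943, 879, false, 3, 0), (1903, 879, true, 1, 1), (2047, 1663, false, 0, 0), (639, 1663, true, 1, 1), (2018, 2020, false, 3, 0),
  (996, 2020, true, 1, 1), (946, 562, false, 0, 0), (849, 562, false, 2, 0), (1586, 562, true, 1, 1), (912, 913, false, 1, 0),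
  (848, 913, false, 4, 0), (1937, 913, true, 4, 4), (1700, 1705, false, 0, 0), (1993, 1705, false, 2, 0), (681, 1705, true, 1, 1),
  (1973, 884, false, 4, 0), (1908, 884, true, 1, 1), (2017, 1767, false, 4, 0), (743, 1767, true, 1, 1), (944, 560, false, 0, 0),
  (1584, 560, true, 1, 1), (1775, 831, false, 1, 0), (760, 831, false, 4, 0), (1855, 831, true, 1, 1), (1751, 1882, false, 0, 0),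
  (1594, 1882, false, 2, 0), (858, 1882, true, 2, 2), (1887, 1951, false, 3, 0), (927, 1951, true, 4, 4), (557, 1772, false, 4, 0),
  (748, 1772, true, 1, 1), (1020, 2044, true, 1, 1), (726, 1750, true, 2, 2), (1000, 1592, false, 1, 0), (568, 1592, true, 1, 1),
  (934, 555, false, 0, 0), (840, 555, false, 2, 0), (1579, 555, true, 1, 1), (631, 1655, true, 1, 1), (2023, 566, false, 1, 0),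
  (816, 566, false, 4, 0), (1590, 566, true, 1, 1), (1939, 915, true, 4, 4), (1708, 1642, false, 3, 0), (618, 1642, true, 1, 1),
  (1917, 893, true, 1, 1), (1680, 656, true, 4, 4), (818, 593, false, 2, 0), (1617, 593, true, 2, 2), (1616, 592, true, 2, 2),
  (1764, 820, false, 1, 0), (1844, 820, true, 1, 1), (1838, 1769, false, 4, 0), (745, 1769, true, 1, 1), (1790, 766, true, 1, 1),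
  (862, 734, false, 0, 0), (958, 734, false, 2, 0), (1758, 734, true, 2, 2), (1717, 2006, false, 2, 0), (982, 2006, true, 2, 2),
  (872, 1720, false, 1, 0), (1656, 1720, false, 3, 0), (696, 1720, true, 1, 1), (938, 876, false, 3, 0), (1900, 876, true, 1, 1),
  (2038, 1659, false, 0, 0), (635, 1659, true, 1, 1), (870, 1719, false, 1, 0), (880, 1719, false, 4, 0), (695, 1719, true, 1, 1),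
  (941, 875, false, 3, 0), (1899, 875, true, 1, 1), (636, 1660, true, 1, 1), (559, 943, false, 0, 0), (716, 943, false, 2, 0),
  (1967, 943, true, 1, 1), (1023, 2047, true, 1, 1), (1634, 2018, false, 0, 0), (994, 2018, true, 1, 1), (721, 946, false, 2, 0),
  (1907, 946, false, 4, 0), (1970, 946, true, 1, 1), (1873, 849, true, 2, 2), (1936, 912, true, 4, 4), (720, 848, false, 0, 0),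
  (1872, 848, true, 2, 2), (1988, 1700, false, 2, 0), (613, 1700, false, 4, 0), (676, 1700, true, 1, 1), (1800, 1993, false, 4, 0),
  (969, 1993, true, 2, 2), (949, 1973, true, 1, 1), (1633, 2017, false, 0, 0), (993, 2017, true, 1, 1), (1968, 944, true, 1, 1),
  (1832, 1775, false, 4, 0), (751, 1775, true, 1, 1), (757, 760, false, 0, 0), (763, 760, false, 2, 0), (1784, 760, true, 1, 1),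
  (1975, 1751, false, 2, 0), (727, 1751, true, 2, 2), (1003, 1594, false, 1, 0), (1596, 1594, false, 3, 0), (570, 1594, true, 1, 1),
  (1759, 1887, false, 0, 0), (863, 1887, true, 2, 2), (845, 557, false, 2, 0), (1581, 557, true, 1, 1), (2024, 1000, true, 1, 1),
  (709, 934, false, 2, 0), (1958, 934, true, 1, 1), (904, 840, false, 3, 0), (1864, 840, true, 2, 2), (1761, 2023, false, 4, 0),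
  (999, 2023, true, 1, 1), (1840, 816, true, 1, 1), (1999, 1708, false, 2, 0), (684, 1708, true, 1, 1), (1762, 818, false, 1, 0),
  (1842, 818, true, 1, 1), (740, 1764, true, 1, 1), (1614, 1838, false, 2, 0), (814, 1838, true, 1, 1), (574, 862, false, 2, 0),
  (926, 862, false, 3, 0), (1886, 862, true, 2, 2), (1646, 958, false, 1, 0), (894, 958, false, 3, 0), (1982, 958, true, 1, 1),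
  (869, 1717, false, 1, 0), (1651, 1717, false, 3, 0), (628, 1717, false, 4, 0), (693, 1717, true, 1, 1), (936, 872, false, 3, 0),
  (1896, 872, true, 1, 1), (2037, 1656, false, 0, 0), (632, 1656, true, 1, 1), (551, 938, false, 0, 0), (714, 938, false, 2, 0),
  (1962, 938, true, 1, 1), (1776, 2038, false, 4, 0), (1014, 2038, true, 1, 1), (1697, 870, false, 4, 0), (1894, 870, true, 1, 1),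
  (1904, 880, true, 1, 1), (717, 941, false, 2, 0), (1965, 941, true, 1, 1), (844, 559, false, 2, 0), (1583, 559, true, 1, 1),
  (1803, 716, false, 4, 0), (1740, 716, true, 2, 2), (675, 1634, false, 4, 0), (610, 1634, true, 1, 1), (1745, 721, true, 2, 2),
  (883, 1907, true, 1, 1), (1744, 720, true, 2, 2), (1986, 1988, false, 3, 0), (1730, 1988, false, 4, 0), (964, 1988, true, 2, 2),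
  (614, 613, false, 2, 0), (1637, 613, true, 1, 1), (1669, 1800, false, 0, 0), (776, 1800, true, 8, 8), (609, 1633, true, 1, 1),
  (1829, 1832, false, 0, 0), (1611, 1832, false, 2, 0), (808, 1832, true, 1, 1), (758, 757, false, 2, 0), (755, 757, false, 3, 0),
  (1781, 757, true, 1, 1), (1834, 763, false, 1, 0), (765, 763, false, 3, 0), (1787, 763, true, 1, 1), (1911, 1975, false, 3, 0),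
  (624, 1975, false, 4, 0), (951, 1975, true, 1, 1), (1005, 1003, false, 3, 0), (2027, 1003, true, 1, 1), (1980, 1596, false, 0, 0),
  (572, 1596, true, 1, 1), (1566, 1759, false, 4, 0), (735, 1759, true, 2, 2), (907, 845, false, 3, 0), (1869, 845, true, 2, 2),
  (707, 709, false, 3, 0), (963, 709, false, 4, 0), (1733, 709, true, 2, 2), (901, 904, false, 0, 0), (1928, 904, true, 4, 4),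
  (737, 1761, true, 1, 1), (1806, 1999, false, 4, 0), (975, 1999, true, 2, 2), (738, 1762, true, 1, 1), (1678, 1614, false, 3, 0),
  (590, 1614, true, 2, 2), (2030, 574, false, 1, 0), (1017, 574, false, 4, 0), (1598, 574, true, 1, 1), (1950, 926, true, 4, 4),
  (1710, 1646, false, 3, 0), (622, 1646, true, 1, 1), (1918, 894, true, 1, 1), (931, 869, false, 3, 0), (1956, 869, false, 4, 0),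
  (1893, 869, true, 1, 1), (2035, 1651, false, 0, 0), (690, 1651, false, 4, 0), (627, 1651, true, 1, 1), (1652, 628, true, 1, 1),
  (549, 936, false, 0, 0), (715, 936, false, 2, 0), (1960, 936, true, 1, 1), (1013, 2037, true, 1, 1), (839, 551, false, 2, 0),
  (801, 551, false, 4, 0), (1575, 551, true, 1, 1), (1805, 714, false, 4, 0), (1738, 714, true, 2, 2), (752, 1776, true, 1, 1),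
  (673, 1697, true, 1, 1), (1802, 717, false, 4, 0), (1741, 717, true, 2, 2), (906, 844, false, 3, 0), (1610, 844, false, 4, 0),
  (1868, 844, true, 2, 2), (1670, 1803, false, 0, 0), (779, 1803, true, 8, 8), (1699, 675, true, 1, 1), (1732, 1986, false, 4, 0),
  (962, 1986, true, 2, 2), (1858, 1730, false, 0, 0), (1953, 1730, false, 2, 0), (706, 1730, true, 2, 2), (678, 614, false, 3, 0),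
  (1638, 614, true, 1, 1), (1603, 1669, false, 3, 0), (645, 1669, true, 4, 4), (1606, 1829, false, 2, 0), (1827, 1829, false, 3, 0),
  (805, 1829, true, 1, 1), (1677, 1611, false, 3, 0), (587, 1611, true, 2, 2), (1831, 758, false, 1, 0), (1008, 758, false, 4, 0),
  (1782, 758, true, 1, 1), (1779, 755, true, 1, 1), (1836, 1834, false, 3, 0), (810, 1834, true, 1, 1), (1789, 765, true, 1, 1),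
  (1914, 1911, false, 0, 0), (688, 1911, false, 4, 0), (887, 1911, true, 1, 1), (1648, 624, true, 1, 1), (621, 1005, false, 0, 0),
  (2029, 1005, true, 1, 1), (956, 1980, true, 1, 1), (542, 1566, true, 16, 16), (902, 907, false, 0, 0), (1931, 907, true, 4, 4),
  (835, 707, false, 0, 0), (965, 707, false, 4, 0), (1731, 707, true, 2, 2), (1987, 963, true, 2, 2), (578, 901, false, 4, 0),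
  (1925, 901, true, 4, 4), (782, 1806, true, 8, 8), (654, 1678, true, 4, 4), (1577, 2030, false, 4, 0), (1006, 2030, true, 1, 1),
  (2041, 1017, true, 1, 1), (1998, 1710, false, 2, 0), (686, 1710, true, 1, 1), (547, 931, false, 0, 0), (1890, 931, false, 4, 0),
  (1955, 931, true, 1, 1), (932, 1956, true, 1, 1), (1011, 2035, true, 1, 1), (977, 690, false, 2, 0), (1714, 690, true, 1, 1),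
  (838, 549, false, 2, 0), (1573, 549, true, 1, 1), (1804, 715, false, 4, 0), (1739, 715, true, 2, 2), (903, 839, false, 3, 0),
  (1863, 839, true, 2, 2), (1825, 801, true, 1, 1), (781, 1805, true, 8, 8), (1671, 1802, false, 0, 0), (778, 1802, true, 8, 8),
  (1676, 906, false, 4, 0), (1930, 906, true, 4, 4), (1607, 1610, false, 0, 0), (586, 1610, true, 2, 2), (646, 1670, true, 4, 4),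
  (1865, 1732, false, 0, 0), (708, 1732, true, 2, 2), (1569, 1858, false, 2, 0), (1924, 1858, false, 3, 0), (834, 1858, true, 2, 2),
  (1889, 1953, false, 3, 0), (929, 1953, true, 1, 1), (683, 678, false, 0, 0), (1702, 678, true, 1, 1), (579, 1603, true, 2, 2),
  (582, 1606, true, 2, 2), (803, 1827, true, 1, 1), (653, 1677, true, 4, 4), (807, 1831, true, 1, 1), (2032, 1008, true, 1, 1),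
  (1615, 1836, false, 2, 0), (812, 1836, true, 1, 1), (890, 1914, true, 1, 1), (976, 688, false, 2, 0), (1712, 688, true, 1, 1),
  (1645, 621, true, 1, 1), (1926, 902, true, 4, 4), (644, 835, false, 4, 0), (1859, 835, true, 2, 2), (968, 965, false, 0, 0),
  (1989, 965, true, 2, 2), (1602, 578, true, 2, 2), (553, 1577, true, 1, 1), (1807, 1998, false, 4, 0), (974, 1998, true, 2, 2),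
  (1571, 547, true, 1, 1), (866, 1890, true, 1, 1), (2001, 977, true, 2, 2), (1862, 838, true, 2, 2), (780, 1804, true, 8, 8),
  (1927, 903, true, 4, 4), (647, 1671, true, 4, 4), (1679, 1676, false, 2, 0), (652, 1676, true, 4, 4), (583, 1607, true, 2, 2),
  (1929, 1865, false, 3, 0), (841, 1865, true, 2, 2), (545, 1569, true, 1, 1), (900, 1924, true, 4, 4), (865, 1889, true, 1, 1),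
  (1707, 683, true, 1, 1), (591, 1615, true, 2, 2), (2000, 976, true, 2, 2), (777, 644, false, 0, 0), (1668, 644, true, 4, 4),
  (1992, 968, true, 2, 2), (783, 1807, true, 8, 8), (655, 1679, true, 4, 4), (905, 1929, true, 4, 4), (1801, 777, true, 8, 8)]

/-- The orbit search over representative 1. -/
def orbS1 : List (ℕ × ℕ × Bool × ℕ × ℕ) := [
  (2032, 545, false, 0, 0), (834, 545, false, 1, 0), (807, 545, false, 3, 0), (1569, 545, true, 1, 1), (1590, 545, true, 8, 8),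
  (1825, 545, true, 32, 32), (801, 545, true, 64, 64), (1782, 2032, false, 3, 0), (1008, 2032, true, 1, 1), (2023, 2032, true, 8, 8),
  (1776, 2032, true, 32, 32), (752, 2032, true, 512, 1536), (900, 834, false, 2, 0), (645, 834, false, 3, 0), (1858, 834, true, 2, 2),
  (853, 834, true, 8, 8), (578, 834, true, 32, 32), (1602, 834, true, 64, 64), (583, 807, false, 1, 0), (1831, 807, true, 1, 1),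
  (816, 807, true, 8, 8), (1575, 807, true, 32, 32), (551, 807, true, 512, 1536), (566, 1569, true, 8, 8), (999, 1590, false, 0, 0),
  (1877, 1590, false, 1, 0), (1840, 1590, false, 3, 0), (1846, 1590, true, 32, 32), (822, 1590, true, 64, 64), (1781, 1782, false, 1, 0),
  (758, 1782, true, 1, 1), (737, 1782, true, 8, 8), (2038, 1782, true, 32, 32), (1014, 1782, true, 64, 64), (1761, 2023, false, 3, 0),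
  (743, 2023, true, 32, 32), (1767, 2023, true, 512, 1536), (579, 900, false, 3, 0), (1924, 900, true, 4, 4), (915, 900, true, 8, 8),
  (644, 900, true, 32, 32), (1668, 900, true, 128, 128), (646, 645, false, 1, 0), (1669, 645, true, 4, 4), (1682, 645, true, 8, 8),
  (1925, 645, true, 32, 32), (901, 645, true, 64, 64), (658, 853, false, 3, 0), (1621, 853, true, 32, 32), (597, 853, true, 64, 64),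
  (582, 583, false, 0, 0), (647, 583, false, 2, 0), (1607, 583, true, 2, 2), (1616, 583, true, 8, 8), (1863, 583, true, 32, 32),
  (839, 583, true, 512, 1536), (592, 816, false, 1, 0), (560, 816, true, 32, 32), (1584, 816, true, 512, 1536), (1939, 1877, false, 2, 0),
  (805, 1781, false, 0, 0), (1779, 1781, false, 2, 0), (757, 1781, true, 1, 1), (738, 1781, true, 8, 8), (1013, 1781, true, 32, 32),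
  (2037, 1781, true, 64, 64), (2017, 737, true, 32, 32), (993, 737, true, 64, 64), (1762, 1761, false, 1, 0), (803, 579, false, 1, 0),
  (1603, 579, true, 2, 2), (1620, 579, true, 8, 8), (1859, 579, true, 32, 32), (835, 579, true, 128, 128), (596, 915, false, 3, 0),
  (1683, 915, true, 32, 32), (659, 915, true, 128, 128), (1670, 646, true, 4, 4), (1681, 646, true, 8, 8), (902, 646, true, 32, 32),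
  (1926, 646, true, 64, 64), (1938, 1682, true, 32, 32), (914, 1682, true, 64, 64), (657, 658, false, 1, 0), (1606, 582, true, 2, 2),
  (1617, 582, true, 8, 8), (838, 582, true, 32, 32), (1862, 582, true, 64, 64), (1671, 647, true, 4, 4), (1680, 647, true, 8, 8),
  (1927, 647, true, 32, 32), (903, 647, true, 512, 1536), (1872, 1616, true, 32, 32), (848, 1616, true, 512, 1536), (593, 592, false, 0, 0),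
  (656, 592, false, 2, 0), (1829, 805, true, 1, 1), (818, 805, true, 8, 8), (1573, 805, true, 32, 32), (549, 805, true, 64, 64),
  (755, 1779, true, 1, 1), (740, 1779, true, 8, 8), (1011, 1779, true, 32, 32), (2035, 1779, true, 128, 128), (1842, 738, false, 0, 0),
  (994, 738, true, 32, 32), (2018, 738, true, 64, 64), (1764, 1762, false, 2, 0), (1827, 803, true, 1, 1), (820, 803, true, 8, 8),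
  (1571, 803, true, 32, 32), (547, 803, true, 128, 128), (1844, 1620, false, 1, 0), (1876, 1620, true, 32, 32), (852, 1620, true, 128, 128),
  (913, 1681, true, 32, 32), (1937, 1681, true, 64, 64), (849, 1617, true, 32, 32), (1873, 1617, true, 64, 64), (1936, 1680, true, 32, 32),
  (912, 1680, true, 512, 1536), (562, 818, true, 32, 32), (1586, 818, true, 64, 64), (996, 740, true, 32, 32), (2020, 740, true, 128, 128),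
  (564, 820, true, 32, 32), (1588, 820, true, 128, 128)]

/-- The orbit search over representative 2. -/
def orbS2 : List (ℕ × ℕ × Bool × ℕ × ℕ) := [
  (531, 530, true, 2, 2), (542, 530, true, 4, 4), (1554, 530, true, 16, 16), (1602, 530, true, 32, 32), (914, 530, true, 128, 128),
  (1555, 530, true, 512, 1536), (543, 531, true, 4, 4), (579, 531, true, 32, 32), (915, 531, true, 128, 128), (1566, 542, true, 16, 16),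
  (1614, 542, true, 32, 32), (1950, 542, true, 128, 128), (1567, 542, true, 512, 1536), (578, 1554, true, 32, 32), (1938, 1554, true, 128, 128),
  (1986, 1602, true, 128, 128), (1603, 1602, true, 512, 1536), (1939, 914, true, 512, 1536), (591, 543, true, 32, 32), (1951, 543, true, 128, 128),
  (963, 579, true, 128, 128), (590, 1566, true, 32, 32), (926, 1566, true, 128, 128), (974, 1614, true, 128, 128), (1615, 1614, true, 512, 1536),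
  (927, 1950, true, 512, 1536), (962, 578, true, 128, 128), (1987, 1986, true, 512, 1536), (1999, 591, true, 128, 128), (1998, 590, true, 128, 128),
  (975, 974, true, 512, 1536)]

/-- The orbit search over representative 3. -/
def orbS3 : List (ℕ × ℕ × Bool × ℕ × ℕ) := [
  (1664, 512, true, 2, 2), (576, 512, true, 4, 4), (1544, 512, true, 32, 32), (513, 512, true, 256, 256), (1536, 512, true, 512, 1536),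
  (1680, 528, true, 2, 2), (592, 528, true, 4, 4), (1560, 528, true, 32, 32), (529, 528, true, 256, 256), (1688, 536, true, 2, 2),
  (600, 536, true, 4, 4), (1552, 536, true, 32, 32), (1561, 536, true, 256, 256), (704, 1664, true, 4, 4), (648, 1664, true, 32, 32),
  (1665, 1664, true, 256, 256), (640, 1664, true, 512, 1536), (1608, 576, true, 32, 32), (577, 576, true, 256, 256), (1600, 576, true, 512, 1536),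
  (521, 1544, true, 256, 256), (520, 1544, true, 512, 1536), (1537, 513, true, 512, 1536), (720, 1680, true, 4, 4), (664, 1680, true, 32, 32),
  (1681, 1680, true, 256, 256), (1624, 592, true, 32, 32), (593, 592, true, 256, 256), (537, 1560, true, 256, 256), (728, 1688, true, 4, 4),
  (656, 1688, true, 32, 32), (665, 1688, true, 256, 256), (1616, 600, true, 32, 32), (1625, 600, true, 256, 256), (1553, 1552, true, 256, 256),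
  (1736, 704, true, 32, 32), (705, 704, true, 256, 256), (1728, 704, true, 512, 1536), (1673, 648, true, 256, 256), (1672, 648, true, 512, 1536),
  (641, 1665, true, 512, 1536), (585, 1608, true, 256, 256), (584, 1608, true, 512, 1536), (1601, 577, true, 512, 1536), (1545, 521, true, 512, 1536),
  (1752, 720, true, 32, 32), (721, 720, true, 256, 256), (1689, 664, true, 256, 256), (601, 1624, true, 256, 256), (1744, 728, true, 32, 32),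
  (1753, 728, true, 256, 256), (657, 656, true, 256, 256), (1617, 1616, true, 256, 256), (713, 1736, true, 256, 256), (712, 1736, true, 512, 1536),
  (1729, 705, true, 512, 1536), (649, 1673, true, 512, 1536), (1609, 585, true, 512, 1536), (729, 1752, true, 256, 256), (1745, 1744, true, 256, 256),
  (1737, 713, true, 512, 1536)]

/-- The orbit search over representative 4. -/
def orbS4 : List (ℕ × ℕ × Bool × ℕ × ℕ) := [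
  (1673, 520, true, 2, 2), (585, 520, true, 4, 4), (521, 520, true, 8, 8), (2001, 520, true, 32, 32), (1545, 520, true, 256, 256),
  (1689, 536, true, 2, 2), (601, 536, true, 4, 4), (537, 536, true, 8, 8), (1985, 536, true, 32, 32), (1561, 536, true, 256, 256),
  (712, 1673, true, 4, 4), (1672, 1673, true, 8, 8), (1872, 1673, true, 32, 32), (648, 1673, true, 256, 256), (584, 585, true, 8, 8),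
  (912, 585, true, 32, 32), (1608, 585, true, 256, 256), (976, 521, true, 32, 32), (1544, 521, true, 256, 256), (2000, 2001, true, 256, 256),
  (728, 1689, true, 4, 4), (1688, 1689, true, 8, 8), (1856, 1689, true, 32, 32), (664, 1689, true, 256, 256), (600, 601, true, 8, 8),
  (896, 601, true, 32, 32), (1624, 601, true, 256, 256), (960, 537, true, 32, 32), (1560, 537, true, 256, 256), (1984, 1985, true, 256, 256),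
  (713, 712, true, 8, 8), (1809, 712, true, 32, 32), (1737, 712, true, 256, 256), (849, 1672, true, 32, 32), (649, 1672, true, 256, 256),
  (1873, 1872, true, 256, 256), (1937, 584, true, 32, 32), (1609, 584, true, 256, 256), (913, 912, true, 256, 256), (977, 976, true, 256, 256),
  (729, 728, true, 8, 8), (1793, 728, true, 32, 32), (1753, 728, true, 256, 256), (833, 1688, true, 32, 32), (665, 1688, true, 256, 256),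
  (1857, 1856, true, 256, 256), (1921, 600, true, 32, 32), (1625, 600, true, 256, 256), (897, 896, true, 256, 256), (961, 960, true, 256, 256),
  (784, 713, true, 32, 32), (1736, 713, true, 256, 256), (1808, 1809, true, 256, 256), (848, 849, true, 256, 256), (1936, 1937, true, 256, 256),
  (768, 729, true, 32, 32), (1752, 729, true, 256, 256), (1792, 1793, true, 256, 256), (832, 833, true, 256, 256), (1920, 1921, true, 256, 256),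
  (785, 784, true, 256, 256), (769, 768, true, 256, 256)]

end CfsgLib.Sporadic.FiTransfer.Outer
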