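import Cfsg.Agent.Lib.Sporadic.FiTransfer.Outer.Action
import Mathlib.GroupTheory.Sylow

/-!
Every outer involution of the automorphism group of Fi22 is conjugate to one of three.
-/

set_option autoImplicit false
set_option maxRecDepth 100000

open Cfsg.Spor Subgroup

namespace CfsgLib.Sporadic.FiTransfer.Outer

open CosetCert CosetCert.FiP CosetCert.FiP.OutFi22 TwoCentral
open CosetCert.FiData (table)

attribute [local irreducible] PTab.img symAt

section Rows

theorem IsRow.mul {σ τ : Equiv.Perm (Fin 40)} {r s : List ℕ} (h : IsRow σ r) (h' : IsRow τ s)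
    (hs : s.length = 40) : IsRow (σ * τ) (compR r s) := fun i => by
  have hi : (i : ℕ) < s.length := hs.symm ▸ i.2
  rw [Equiv.Perm.mul_apply, h, h', List.getD_eq_getElem _ _ (show (i : ℕ) < (compR r s).length by
    rw [compR, List.length_map]; exact hi)]
  simp [compR, List.getElem?_eq_getElem hi]

theorem IsRow.one : IsRow 1 (List.range 40) := fun i => by simp [List.getD_eq_getElem]

theorem IsRow.ext {σ τ : Equiv.Perm (Fin 40)} {r : List ℕ} (h : IsRow σ r) (h' : IsRow τ r) : σ = τ :=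
  Equiv.ext fun i => Fin.ext ((h i).trans (h' i).symm)

theorem IsRow.unique {σ : Equiv.Perm (Fin 40)} {r s : List ℕ} (h : IsRow σ r) (h' : IsRow σ s)
    (hr : r.length = 40) (hs : s.length = 40) : r = s :=
  List.ext_getElem (hr.trans hs.symm) fun i h1 h2 => by
    have := (h ⟨i, hr ▸ h1⟩).symm.trans (h' ⟨i, hr ▸ h1⟩)
    rwa [List.getD_eq_getElem _ _ h1, List.getD_eq_getElem _ _ h2] at this

theorem wordR_length : ∀ L : List ℕ, (wordR L).length = 40
  | [] => rfl
  | a :: L => by
    show (compR _ (wordR L)).length = 40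
    rw [compR, List.length_map, wordR_length L]

theorem word_row : ∀ L : List ℕ, (∀ a ∈ L, a < 5) → ∃ z : CjT, IsRow (th40 z) (wordR L)
  | [], _ => ⟨1, by rw [map_one]; exact IsRow.one⟩
  | a :: L, h => by
    obtain ⟨z, hz⟩ := word_row L fun b hb => h b (List.mem_cons_of_mem _ hb)
    obtain ⟨y, hy⟩ := five_row ⟨a, h a List.mem_cons_self⟩
    exact ⟨y * z, by rw [map_mul]; exact hy.mul hz (wordR_length L)⟩

end Rows

theorem card_aut : Nat.card (MulAut Fi22) = 129123503308800 := by
  haveI := isSimple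
  rw [Subgroup.card_eq_card_quotient_mul_card_subgroup (Cfsg.Inn Fi22)]
  have h1 : Nat.card (MulAut Fi22 ⧸ Cfsg.Inn Fi22) = 2 := card_out
  rw [h1, show (129123503308800 : ℕ) = 2 * 64561751654400 from rfl, ← card_eq.1]
  congr 1
  refine Nat.card_congr (MonoidHom.ofInjective (f := (MulAut.conj : Fi22 →* _)) ?_).toEquiv.symm
  intro x y h
  refine (inv_mul_eq_one.1 (conj_eq_one (g := y⁻¹ * x) fun z => ?_)).symm
  have hz : x * z * x⁻¹ = y * z * y⁻¹ := DFunLike.congr_fun h z
  calc y⁻¹ * x * z * (y⁻¹ * x)⁻¹ = y⁻¹ * (x * z * x⁻¹) * y := by group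
    _ = z := by rw [hz]; group

/-- A row of the Sylow subgroup. -/
def InSyl (σ : Equiv.Perm (Fin 40)) : Prop := ∃ i < 128, IsRow σ (sylRows.getD i [])

theorem exists_sylow : ∃ P : Sylow 2 (MulAut Fi22), ∀ t ∈ (P : Subgroup (MulAut Fi22)),
    ∃ h : t ∈ CjT, InSyl (th40 ⟨t, h⟩) := by
  classical
  have := finite_aut
  haveI : Fact (Nat.Prime 2) := ⟨Nat.prime_two⟩
  have hk := syl_ok
  simp only [sylK, Bool.and_eq_true, decide_eq_true_eq, List.all_eq_true, List.mem_range, List.contains_iff_mem] at hk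
  obtain ⟨⟨⟨⟨⟨⟨⟨hlen, hnd⟩, h0⟩, hstep⟩, hwl⟩, hwok⟩, hsteps⟩, hclosed⟩ := hk
  have hlen' : sylRows.length = 128 := Nat.eq_of_beq_eq_true hlen
  have hwok' : ∀ k : Fin 3, ∀ a ∈ sylWords.getD k [], a < 5 := fun k a ha => by
    have hk : (k : ℕ) < sylWords.length := by rw [Nat.eq_of_beq_eq_true hwl]; exact k.2
    rw [List.getD_eq_getElem _ _ hk] at ha
    exact Nat.le_of_ble_eq_true (hwok _ (List.getElem_mem hk) a ha)
  choose z hz using fun k : Fin 3 => word_row _ (hwok' k)
  set S : Subgroup (Equiv.Perm (Fin 40)) := closure (Set.range fun k => th40 (z k)) with hS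
  have hrows : ∀ i < 128, (sylRows.getD i []).length = 40 ∧ ∃ σ ∈ S, IsRow σ (sylRows.getD i []) := by
    intro i
    induction i using Nat.strong_induction_on with
    | _ i ih =>
      intro hi
      rcases i with - | i
      · rw [h0]
        exact ⟨List.length_range, 1, one_mem _, IsRow.one⟩
      · obtain ⟨⟨hs1, hs2⟩, he⟩ := hsteps i (by omega)
        have h1 : (sylStep.getD i (0, 0)).1 ≤ i := Nat.le_of_ble_eq_true hs1
        obtain ⟨-, σ, hσ, hr⟩ := ih (sylStep.getD i (0, 0)).1 (by omega) (by omega)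
        let k : Fin 3 := ⟨_, Nat.le_of_ble_eq_true hs2⟩
        rw [he]
        exact ⟨by rw [compR, List.length_map, wordR_length], σ * th40 (z k),
          mul_mem hσ (subset_closure ⟨k, rfl⟩), hr.mul (hz k) (wordR_length _)⟩
  have hin : ∀ σ ∈ S, InSyl σ := by
    intro σ hσ
    rw [hS, ← mem_toSubmonoid, closure_toSubmonoid_of_finite] at hσ
    induction hσ using Submonoid.closure_induction_right with
    | one => exact ⟨0, by norm_num, by rw [h0]; exact IsRow.one⟩
    | mul_right a _ b hb ih =>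
      obtain ⟨k, rfl⟩ := hb
      obtain ⟨i, hi, hr⟩ := ih
      have hmem : sylRows.getD i [] ∈ sylRows := by
        rw [List.getD_eq_getElem _ _ (hlen'.symm ▸ hi : i < sylRows.length)]; exact List.getElem_mem _
      obtain ⟨n, hn, e⟩ := List.mem_iff_getElem.1 (hclosed _ hmem k.1 k.2)
      refine ⟨n, hlen' ▸ hn, ?_⟩
      rw [List.getD_eq_getElem _ _ hn, e]
      exact hr.mul (hz k) (wordR_length _)
  have hcard : Nat.card S = 128 := by
    choose σ hσ hr using fun i : Fin 128 => (hrows i i.2).2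
    let f : Fin 128 → S := fun i => ⟨σ i, hσ i⟩
    have hf : Function.Bijective f := by
      constructor
      · intro a b e
        have he : σ a = σ b := congrArg Subtype.val e
        have := (hr a).unique (he ▸ hr b) (hrows a a.2).1 (hrows b b.2).1
        rw [List.getD_eq_getElem _ _ (show a.1 < sylRows.length from hlen'.symm ▸ a.2),
          List.getD_eq_getElem _ _ (show b.1 < sylRows.length from hlen'.symm ▸ b.2)] at this
        exact Fin.ext (hnd.getElem_inj_iff.1 this)
      · intro s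
        obtain ⟨i, hi, hs⟩ := hin s.1 s.2
        exact ⟨⟨i, hi⟩, Subtype.ext ((hr ⟨i, hi⟩).ext hs)⟩
    rw [← Nat.card_congr (Equiv.ofBijective f hf), Nat.card_fin]
  have hSr : S ≤ th40.range := (closure_le _).2 (by rintro _ ⟨k, rfl⟩; exact ⟨z k, rfl⟩)
  set K : Subgroup CjT := S.comap th40 with hK
  have hker : Nat.card th40.ker = 2048 := by
    rw [ker_th40, Nat.card_congr (subgroupOfEquivOfLe (H := span jT bx bY) (fun q hq =>
      mem_centralizer_singleton_iff.2 (basis.j_central hq))).toEquiv, basis.exists_coord.1]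
    norm_num
  have hCK : Nat.card K * K.index = 106168320 := K.card_mul_index.trans structureC.2.1
  have hR : 2048 * Nat.card th40.range = 106168320 := by
    rw [← hker, ← index_ker, card_mul_index]
    exact structureC.2.1
  have hI : 128 * K.index = Nat.card th40.range := by
    have h1 := (S.subgroupOf th40.range).card_mul_index
    rwa [Nat.card_congr (subgroupOfEquivOfLe hSr).toEquiv, hcard, ← relIndex, ← index_comap] at h1
  have hidx : K.index = 405 := by omega
  rw [hidx] at hCK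
  set P0 : Subgroup (MulAut Fi22) := K.map CjT.subtype with hP0
  have hP0card : Nat.card P0 = 2 ^ 18 := by
    rw [card_map_of_injective (f := CjT.subtype) (subtype_injective _)]
    norm_num
    omega
  obtain ⟨P, hP⟩ := (IsPGroup.of_card hP0card : IsPGroup 2 P0).exists_le_sylow
  obtain ⟨n, hn⟩ := P.2.exists_card_eq
  have hn18 : n ≤ 18 := by
    have hd : 2 ^ n ∣ 2 ^ 18 * 492567075 := by
      rw [← hn]
      exact (Subgroup.card_subgroup_dvd_card _).trans (dvd_of_eq (card_aut.trans (by norm_num)))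
    exact (Nat.pow_dvd_pow_iff_le_right (by norm_num : 1 < 2)).1
      ((Nat.Coprime.pow_left n (by norm_num : Nat.Coprime 2 492567075)).dvd_of_dvd_mul_right hd)
  have hPeq : P0 = (P : Subgroup (MulAut Fi22)) := eq_of_le_of_card_ge hP (by
    rw [hn, hP0card]; exact Nat.pow_le_pow_right (by norm_num) hn18)
  refine ⟨P, fun t ht => ?_⟩
  rw [← hPeq] at ht
  obtain ⟨c, hc, rfl⟩ := ht
  exact ⟨c.2, hin _ hc⟩

/-- The vector times the representative is conjugate to one of the taus. -/
def Good (k v : ℕ) : Prop :=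
  ∃ i < 3, IsConj (val v * ev (rE k)) (ev (tauE.getD i (false, [])))

theorem ok_of_inner {e : Bool × List ℕ} (h : innerK e = true) : Ok e := fun x hx =>
  Nat.le_of_ble_eq_true (List.all_eq_true.1 h x hx)

theorem rep_spec {k : ℕ} (hk : k < 5) : Ok (rE k) ∧ (rE k).1 = false ∧ ev (rE k) ∈ CjT ∧
    moveK (rE k) (repRows.getD k []) = true ∧ conjK (rE k) (rT k) = true ∧
    val (rS k) = ev (rE k) * ev (rE k) ∧ rS k < 2048 ∧
    ∀ h ∈ rM k, Ok h.1 ∧ conjK h.1 h.2.1 = true ∧ ev h.1 * ev (rE k) = val h.2.2 * (ev (rE k) * ev h.1) := by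
  have h := List.all_eq_true.1 rep_ok k (List.mem_range.2 hk)
  simp only [Bool.and_eq_true, List.all_eq_true, Bool.not_eq_true'] at h
  obtain ⟨⟨⟨⟨⟨⟨⟨hi, hf⟩, hc⟩, hm⟩, hT⟩, hlt⟩, hsq⟩, hM⟩ := h
  have ok : Ok (rE k) := ok_of_inner hi
  refine ⟨ok, hf, ?_, hm, hT, ?_, Nat.le_of_ble_eq_true hlt, fun x hx => ?_⟩
  · rw [mem_centralizer_singleton_iff]
    simpa [jT] using eq_of_sameS (forall_pair ok tE_ok) (forall_pair tE_ok ok) hc
  · have := eq_of_sameS (forall_pair ok ok) (valL_ok _) hsq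
    simpa [val_eq] using this.symm
  · obtain ⟨⟨⟨h1, -⟩, h2⟩, h3⟩ := hM x hx
    refine ⟨ok_of_inner h1, h2, ?_⟩
    have := eq_of_sameS (forall_pair (ok_of_inner h1) ok) (fun e he => by
      rcases List.mem_append.1 he with he | he
      · exact valL_ok _ e he
      · exact forall_pair ok (ok_of_inner h1) e he) h3
    simpa [val_eq] using this

theorem tau_ok (i : ℕ) : Ok (tauE.getD i (false, [])) := by
  rcases i with - | - | - | i <;> simp [tauE, Ok]

theorem root_spec {k : ℕ} (hk : k < 5) {r : ℕ × ℕ × List (Bool × List ℕ)} (h : rootK k r = true) :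
    Good k r.1 := by
  simp only [rootK, Bool.and_eq_true, List.all_eq_true] at h
  obtain ⟨⟨⟨-, hi⟩, hg⟩, hs⟩ := h
  have := eq_of_sameS (fun e he => by
      rcases List.mem_append.1 he with he | he
      · rcases List.mem_append.1 he with he | he
        · exact ok_of_inner (hg e he)
        · exact valL_ok _ e he
      · exact (List.mem_singleton.1 he) ▸ (rep_spec hk).1)
    (fun e he => by
      rcases List.mem_append.1 he with he | he
      · exact (List.mem_singleton.1 he) ▸ tau_ok _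
      · exact ok_of_inner (hg e he)) hs
  simp only [List.map_append, List.prod_append, List.map_cons, List.map_nil, List.prod_cons, List.prod_nil,
    mul_one, val_eq] at this
  exact ⟨r.2.1, Nat.le_of_ble_eq_true hi, isConj_iff.2 ⟨(r.2.2.map ev).prod,
    mul_inv_eq_iff_eq_mul.2 (by rw [← mul_assoc]; exact this)⟩⟩

theorem step_spec {k : ℕ} (hk : k < 5) {s : ℕ × ℕ × Bool × ℕ × ℕ} (h : stepK k s = true)
    (hp : Good k s.2.1) : Good k s.1 := by
  obtain ⟨-, -, -, -, hT, -, -, hM⟩ := rep_spec hk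
  obtain ⟨i, hi, hc⟩ := hp
  refine ⟨i, hi, IsConj.trans (IsConj.symm ?_) hc⟩
  obtain ⟨v, p, b, a, a'⟩ := s
  cases b
  · simp only [stepK, cond_false, Bool.and_eq_true] at h
    obtain ⟨hlt, he⟩ := h
    have hlt' : a < (rM k).length := Nat.le_of_ble_eq_true hlt
    rw [List.getD_eq_getElem _ _ hlt'] at he
    obtain ⟨ok, hc', hr⟩ := hM _ (List.getElem_mem hlt')
    refine isConj_iff.2 ⟨ev (rM k)[a].1, ?_⟩
    rw [← Nat.eq_of_beq_eq_true he, ← val_mul, ← conj_spec ok hc' p, mul_inv_eq_iff_eq_mul]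
    dsimp only
    simp only [mul_assoc]
    rw [← hr]
    group
  · simp only [stepK, cond_true, Bool.and_eq_true] at h
    obtain ⟨⟨⟨-, -⟩, hinv⟩, he⟩ := h
    have h1 : val a * val a' = 1 := by rw [val_mul, Nat.eq_of_beq_eq_true hinv, val_zero]
    refine isConj_iff.2 ⟨val a, ?_⟩
    rw [← Nat.eq_of_beq_eq_true he, ← val_mul, ← val_mul, ← conj_spec (rep_spec hk).1 hT a',
      inv_eq_of_mul_eq_one_right h1]
    group

theorem search_spec {k : ℕ} (hk : k < 5) : ∀ (l : List (ℕ × ℕ × Bool × ℕ × ℕ)) (seen : ℕ),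
    searchC k l seen = true → (∀ v, Nat.testBit seen v = true → Good k v) →
    ∀ v < 2048, Nat.testBit v 9 = true → mulN (mulN v (cN (rT k) v)) (rS k) = 0 → Good k v
  | [], seen, h, hs, v, hv, h9, hq => by
    simp only [searchC, List.all_eq_true, List.mem_range] at h
    refine hs v ?_
    have := h v hv
    rwa [h9, hq, show Nat.beq 0 0 = true from rfl, Bool.true_and, Bool.not_true, Bool.false_or] at this
  | s :: r, seen, h, hs, v, hv, h9, hq => by
    simp only [searchC, Bool.and_eq_true] at h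
    refine search_spec hk r _ h.2 (fun u hu => ?_) v hv h9 hq
    change Nat.testBit (seen ||| 1 <<< s.1) u = true at hu
    rw [Nat.testBit_or, Bool.or_eq_true, Nat.one_shiftLeft, Nat.testBit_two_pow, decide_eq_true_eq] at hu
    rcases hu with hu | rfl
    · exact hs u hu
    · exact step_spec hk h.1.2 (hs _ h.1.1)

theorem good_of_square {k : ℕ} (hk : k < 5) {v : ℕ} (hv : v < 2048) (h9 : Nat.testBit v 9 = true)
    (hq : mulN (mulN v (cN (rT k) v)) (rS k) = 0) : Good k v := by
  have hc : ∃ l, orbitK k l = true := by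
    rcases k with - | - | - | - | - | k
    exacts [⟨_, class0_ok⟩, ⟨_, class1_ok⟩, ⟨_, class2_ok⟩, ⟨_, class3_ok⟩, ⟨_, class4_ok⟩, absurd hk (by omega)]
  obtain ⟨l, hl⟩ := hc
  simp only [orbitK, Bool.and_eq_true, List.all_eq_true] at hl
  refine search_spec hk l _ hl.2 (fun u hu => ?_) v hv h9 hq
  rw [testBit_maskOf, List.mem_map] at hu
  obtain ⟨r, hr, rfl⟩ := hu
  exact root_spec hk (hl.1 r hr)

theorem conj_inner {α : MulAut Fi22} (h : α ∈ (MulAut.conj : Fi22 →* MulAut Fi22).range) (g : MulAut Fi22) :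
    g * α * g⁻¹ ∈ (MulAut.conj : Fi22 →* MulAut Fi22).range := by
  obtain ⟨a, rfl⟩ := h
  exact ⟨g a, MulEquiv.ext fun z => by simp⟩

theorem ev_inner {e : Bool × List ℕ} (h : e.1 = false) : ev e ∈ (MulAut.conj : Fi22 →* MulAut Fi22).range :=
  ⟨el e.2, by rw [ev, h, cond_false, one_mul]⟩

theorem val_inner {v : ℕ} (h : Nat.testBit v 9 = false) : val v ∈ (MulAut.conj : Fi22 →* MulAut Fi22).range := by
  rw [← val_eq]
  refine Subgroup.list_prod_mem _ fun a ha => ?_
  obtain ⟨e, he, rfl⟩ := List.mem_map.1 ha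
  obtain ⟨k, hk, rfl⟩ := List.mem_map.1 he
  obtain ⟨hk1, hk2⟩ := List.mem_filter.1 hk
  refine ev_inner ((show ∀ k : Fin 11, (k : ℕ) ≠ 9 → (gE k).1 = false by decide) ⟨k, List.mem_range.1 hk1⟩ ?_)
  rintro rfl
  rw [h] at hk2
  exact Bool.noConfusion hk2

theorem repRows_spec (k : Fin 5) : (Nat.beq (repRows.getD k []).length 40 && decide (repRows.getD k []).Nodup &&
    (repRows.getD k []).all fun i => Nat.blt i 40) = true := by
  revert k; decide +kernel

theorem classes (t : MulAut Fi22) (h2 : orderOf t = 2) (hout : t ∉ (MulAut.conj : Fi22 →* MulAut Fi22).range) :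
    ∃ i < 3, IsConj t (ev (tauE.getD i (false, []))) := by
  classical
  have := finite_aut
  haveI : Fact (Nat.Prime 2) := ⟨Nat.prime_two⟩
  obtain ⟨P, hP⟩ := exists_sylow
  obtain ⟨Q, hQ⟩ := (IsPGroup.of_card (n := 1) (by rw [Nat.card_zpowers, h2, pow_one]) :
    IsPGroup 2 (zpowers t)).exists_le_sylow
  obtain ⟨g, hg⟩ := MulAction.exists_smul_eq (MulAut Fi22) Q P
  have ht' : g * t * g⁻¹ ∈ (P : Subgroup (MulAut Fi22)) := by
    rw [← hg]
    exact ⟨t, hQ (mem_zpowers t), rfl⟩
  obtain ⟨hC, i, hi, hr⟩ := hP _ ht'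
  set t' : CjT := ⟨g * t * g⁻¹, hC⟩ with ht'def
  have hsq : t * t = 1 := by rw [← pow_two, ← h2, pow_orderOf_eq_one]
  have hsq' : t' * t' = 1 := Subtype.ext (by
    show g * t * g⁻¹ * (g * t * g⁻¹) = 1
    rw [show g * t * g⁻¹ * (g * t * g⁻¹) = g * (t * t) * g⁻¹ by group, hsq]
    group)
  have hlen : (sylRows.getD i []).length = 40 :=
    (show ∀ i : Fin 128, (sylRows.getD i []).length = 40 by decide +kernel) ⟨i, hi⟩
  have hcomp : compR (sylRows.getD i []) (sylRows.getD i []) = List.range 40 := by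
    refine IsRow.unique (hr.mul hr hlen) ?_ (by rw [compR, List.length_map, hlen]) List.length_range
    rw [← map_mul, hsq', map_one]
    exact IsRow.one
  have hw := List.all_eq_true.1 wit_ok i (List.mem_range.2 hi)
  dsimp only at hw
  rw [hcomp] at hw
  simp only [decide_true, Bool.not_true, Bool.false_or, List.any_eq_true, Bool.and_eq_true, List.all_eq_true,
    decide_eq_true_eq] at hw
  obtain ⟨w, -, ⟨⟨-, hk⟩, hL⟩, he⟩ := hw
  have hk' : w.2.1 < 5 := Nat.le_of_ble_eq_true hk
  obtain ⟨z, hz⟩ := word_row w.2.2 fun a ha => Nat.le_of_ble_eq_true (hL a ha)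
  obtain ⟨ok, hflag, hmem, hmove, hT, hS, -, -⟩ := rep_spec hk'
  obtain ⟨σ, hσ⟩ := exists_row (repRows_spec ⟨_, hk'⟩)
  have hth : th40 ⟨ev (rE w.2.1), hmem⟩ = σ := th40_row ok hmem hmove hσ
  have hkey : th40 z * th40 t' = σ * th40 z :=
    (hz.mul hr hlen).ext (he ▸ IsRow.mul hσ hz (wordR_length _))
  set x : CjT := z * t' * z⁻¹ with hx
  have hxe : th40 x = th40 ⟨ev (rE w.2.1), hmem⟩ := by
    rw [hx, map_mul, map_mul, hkey, map_inv, mul_inv_cancel_right, hth]
  have hq : (x : MulAut Fi22) * (ev (rE w.2.1))⁻¹ ∈ span jT bx bY := by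
    have h1 : x * (⟨ev (rE w.2.1), hmem⟩ : CjT)⁻¹ ∈ th40.ker := by
      rw [MonoidHom.mem_ker, map_mul, map_inv, hxe, mul_inv_cancel]
    rw [ker_th40, mem_subgroupOf] at h1
    exact h1
  obtain ⟨v, hv, hval⟩ := exists_val hq
  have hx' : (x : MulAut Fi22) = val v * ev (rE w.2.1) := by rw [hval, inv_mul_cancel_right]
  have hconj : IsConj t (x : MulAut Fi22) := by
    refine isConj_iff.2 ⟨(z : MulAut Fi22) * g, ?_⟩
    rw [hx, ht'def]
    simp only [coe_mul, coe_inv]
    group
  have hxsq : (x : MulAut Fi22) * x = 1 := by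
    have : x * x = 1 := by
      rw [hx, show z * t' * z⁻¹ * (z * t' * z⁻¹) = z * (t' * t') * z⁻¹ by group, hsq']
      group
    exact congrArg Subtype.val this
  have h9 : Nat.testBit v 9 = true := by
    by_contra h9
    rw [Bool.not_eq_true] at h9
    refine hout ?_
    obtain ⟨c, hc⟩ := isConj_iff.1 hconj.symm
    rw [← hc]
    exact conj_inner (hx'.symm ▸ mul_mem (val_inner h9) (ev_inner hflag)) c
  have hzero : mulN (mulN v (cN (rT w.2.1) v)) (rS w.2.1) = 0 := by
    refine val_inj (mulN_lt (mulN_lt hv _) _) (by norm_num) ?_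
    rw [← val_mul, ← val_mul, ← conj_spec ok hT v, hS, val_zero, ← hxsq, hx']
    group
  obtain ⟨j, hj, hc⟩ := good_of_square hk' hv h9 hzero
  exact ⟨j, hj, hconj.trans (hx' ▸ hc)⟩

end CfsgLib.Sporadic.FiTransfer.Outer
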