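import Cfsg.Agent.Lib.Sporadic.FiTransfer.Outer.ClassChecks
import Cfsg.Agent.Lib.Sporadic.FiTransfer.TwoCentral.Gens

/-!
Coordinates on the normal 2-subgroup of the centraliser of a product of two commuting transpositions.
-/

set_option autoImplicit false
set_option maxRecDepth 100000

open Cfsg.Spor Subgroup

namespace CfsgLib.Sporadic.FiTransfer.Outer

open CosetCert CosetCert.FiP CosetCert.FiP.OutFi22 TwoCentral
open CosetCert.FiData (table)

attribute [local irreducible] PTab.img symAt

theorem gE_x (i : Fin 5) : gE i = xsE.getD i (false, []) := by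
  rw [gE, List.getD_append _ _ _ _ (show (i : ℕ) < (xsE ++ ysE).length by
    rw [List.length_append, xsE_len, ysE_len]; omega), List.getD_append _ _ _ _ (show (i : ℕ) < xsE.length from i.2)]

theorem gE_y (i : Fin 5) : gE (i + 5) = ysE.getD i (false, []) := by
  rw [gE, List.getD_append _ _ _ _ (show (i : ℕ) + 5 < (xsE ++ ysE).length by
    rw [List.length_append, xsE_len, ysE_len]; omega),
    List.getD_append_right _ _ _ _ (show xsE.length ≤ (i : ℕ) + 5 by rw [xsE_len]; omega)]
  rw [xsE_len, Nat.add_sub_cancel]

theorem gE_j : gE 10 = tE := rfl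

theorem gE_ok {k : ℕ} (hk : k < 11) : Ok (gE k) := by
  by_cases h1 : k < 5
  · rw [gE_x ⟨k, h1⟩]; exact ok_all (mem_allE_x _)
  by_cases h2 : k < 10
  · rw [show k = (⟨k - 5, by omega⟩ : Fin 5).1 + 5 by show k = k - 5 + 5; omega, gE_y]
    exact ok_all (mem_allE_y _)
  rw [show k = 10 by omega, gE_j]
  exact tE_ok

/-- The basic elements. -/
noncomputable def gv (k : ℕ) : MulAut Fi22 := ev (gE k)

/-- The central involution to the power of a bit. -/
noncomputable def jpow (c : Bool) : MulAut Fi22 := bif c then jT else 1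

theorem jpow_mul (a b : Bool) : jpow a * jpow b = jpow (a ^^ b) := by
  cases a <;> cases b <;> simp [jpow, jT_sq]

theorem ok_getD {L : List (Bool × List ℕ)} (h : ∀ e ∈ L, Ok e) (c : Bool) :
    ∀ e ∈ (bif c then L else []), Ok e := by cases c <;> simp_all

theorem gv_sq {m : ℕ} (hm : m < 11) : gv m * gv m = jpow (sK m) := by
  have hk := List.all_eq_true.1 rel_ok m (List.mem_range.2 hm)
  simp only [Bool.and_eq_true] at hk
  have := eq_of_sameS (forall_pair (gE_ok hm) (gE_ok hm))
    (ok_getD (L := [tE]) (by simp [tE_ok]) (sK m)) hk.1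
  cases hs : sK m <;> simp [hs] at this <;> simpa [jpow, jT, gv] using this

theorem gv_comm {m k : ℕ} (hm : m < 11) (hk : k < m) : gv m * gv k = gv k * gv m * jpow (eK m k) := by
  have hK := List.all_eq_true.1 rel_ok m (List.mem_range.2 hm)
  simp only [Bool.and_eq_true, List.all_eq_true] at hK
  have := eq_of_sameS (forall_pair (gE_ok hm) (gE_ok (hk.trans hm))) (fun e he => by
    rcases List.mem_append.1 he with he | he
    · exact forall_pair (gE_ok (hk.trans hm)) (gE_ok hm) e he
    · exact ok_getD (L := [tE]) (by simp [tE_ok]) (eK m k) e he) (hK.2 k (List.mem_range.2 hk))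
  cases hs : eK m k <;> simp [hs] at this <;> simpa [jpow, jT, gv, mul_assoc] using this

theorem gv_jT : gv 10 = jT := rfl

theorem jpow_comm (c : Bool) {k : ℕ} (hk : k < 11) : jpow c * gv k = gv k * jpow c := by
  cases c
  · simp [jpow]
  show jT * gv k = gv k * jT
  rcases Nat.lt_or_ge k 10 with h | h
  · rw [← gv_jT, gv_comm (by norm_num) h]
    have : eK 10 k = false := by
      rw [eK, Bool.and_eq_false_iff]
      by_cases h5 : k < 5
      · exact Or.inr (Bool.eq_false_iff.2 fun e => by have := Nat.eq_of_beq_eq_true e; omega)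
      · exact Or.inl (Bool.eq_false_iff.2 fun e => h5 (Nat.le_of_ble_eq_true e))
    simp [this, jpow]
  · rw [show k = 10 by omega, gv_jT]

/-- The product of the basic elements of a vector below a bound. -/
noncomputable def part (n v : ℕ) : MulAut Fi22 :=
  ((((List.range n).filter fun k => Nat.testBit v k).map gE).map ev).prod

theorem part_zero (v : ℕ) : part 0 v = 1 := rfl

theorem part_succ (n v : ℕ) : part (n + 1) v = part n v * (bif Nat.testBit v n then gv n else 1) := by
  rw [part, List.range_succ, List.filter_append, List.map_append, List.map_append, List.prod_append, ← part]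
  cases h : Nat.testBit v n <;> simp [h, gv]

/-- The element of a vector. -/
noncomputable def val (v : ℕ) : MulAut Fi22 := part 11 v

theorem val_eq (v : ℕ) : ((valL v).map ev).prod = val v := rfl

theorem valL_ok (v : ℕ) : ∀ e ∈ valL v, Ok e := by
  intro e he
  obtain ⟨k, hk, rfl⟩ := List.mem_map.1 he
  exact gE_ok (List.mem_range.1 (List.mem_filter.1 hk).1)

theorem part_congr {n v w : ℕ} (h : ∀ k < n, Nat.testBit v k = Nat.testBit w k) : part n v = part n w := by
  rw [part, part, List.filter_congr fun k hk => h k (List.mem_range.1 hk)]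

theorem val_zero : val 0 = 1 := by
  rw [val, part, List.filter_eq_nil_iff.2 (fun k _ => by simp)]
  rfl

theorem testBit_flip (v k i : ℕ) : Nat.testBit (v ^^^ 2 ^ k) i = (Nat.testBit v i ^^ decide (k = i)) := by
  rw [Nat.testBit_xor, Nat.testBit_two_pow]

theorem part_mul {k : ℕ} (hk : k < 11) (v : ℕ) : ∀ n, k < n → n ≤ 11 → part n v * gv k =
    part n (v ^^^ 2 ^ k) *
      jpow ((Nat.testBit v k && sK k) ^^ (Nat.blt k 5 && Nat.blt (k + 5) n && Nat.testBit v (k + 5))) := by
  intro n
  induction n with
  | zero => exact fun h => absurd h (Nat.not_lt_zero _)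
  | succ n ih =>
    intro h1 h2
    rw [part_succ, part_succ]
    have hb : Nat.testBit (v ^^^ 2 ^ k) n = (Nat.testBit v n ^^ decide (k = n)) := testBit_flip v k n
    rcases Nat.lt_or_eq_of_le (Nat.le_of_lt_succ h1) with hlt | rfl
    · have hblt : Nat.blt (k + 5) (n + 1) = (Nat.blt (k + 5) n || decide (n = k + 5)) := by
        rw [Bool.eq_iff_iff]
        simp only [Nat.blt, Bool.or_eq_true, Nat.ble_eq, decide_eq_true_eq]
        omega
      have he : eK n k = (Nat.blt k 5 && decide (n = k + 5)) := by
        rw [eK]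
        congr 1
        rw [Bool.eq_iff_iff, decide_eq_true_eq]
        rw [Nat.beq_eq]
      rw [show decide (k = n) = false from decide_eq_false (Nat.ne_of_lt hlt), Bool.xor_false] at hb
      rw [hb, hblt]
      cases hn : Nat.testBit v n
      · simp only [cond_false, mul_one]
        rw [ih hlt (by omega)]
        congr 2
        by_cases e : n = k + 5
        · subst e; simp [hn]
        · simp [e]
      · simp only [cond_true]
        rw [mul_assoc, gv_comm (by omega) hlt, ← mul_assoc, ← mul_assoc, ih hlt (by omega), mul_assoc (part n _),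
          jpow_comm _ (by omega), ← mul_assoc (part n _), mul_assoc _ (jpow _), jpow_mul, he]
        congr 2
        by_cases e : n = k + 5
        · subst e
          have : Nat.blt (k + 5) (k + 5) = false := by
            rw [Bool.eq_false_iff]; simp [Nat.blt]
          rw [this, hn]
          simp
        · simp [e]
    · rw [show decide (k = k) = true by simp, Bool.xor_true] at hb
      have hp : part k (v ^^^ 2 ^ k) = part k v := part_congr fun i hi => by
        rw [testBit_flip, show decide (k = i) = false from decide_eq_false (Nat.ne_of_gt hi), Bool.xor_false]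
      have : Nat.blt (k + 5) (k + 1) = false := by rw [Bool.eq_false_iff]; simp [Nat.blt]
      rw [hb, hp, this]
      cases hn : Nat.testBit v k
      · simp [jpow]
      · simp only [cond_true, cond_false, Bool.not_true, Bool.true_and, Bool.and_false, Bool.false_and, Bool.xor_false]
        rw [mul_assoc, gv_sq hk, mul_one]

theorem val_jpow (v : ℕ) (c : Bool) : val v * jpow c = val (v ^^^ bif c then 1024 else 0) := by
  cases c
  · simp [jpow]
  · show val v * gv 10 = val (v ^^^ 2 ^ 10)
    rw [val, part_mul (by norm_num) v 11 (by norm_num) le_rfl]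
    simp [val, jpow, sK, show Nat.beq 10 9 = false from rfl, show Nat.blt 10 5 = false from rfl]

theorem val_step (v : ℕ) {k : ℕ} (hk : k < 11) : val v * gv k = val (stepN v k) := by
  rw [show val v * gv k = part 11 v * gv k from rfl, part_mul hk v 11 hk le_rfl]
  show val (v ^^^ 2 ^ k) * jpow _ = val ((v ^^^ 2 ^ k) ^^^ _)
  rw [val_jpow]
  congr 2
  rcases Nat.lt_or_ge k 5 with h5 | h5
  · have h1 : Nat.blt k 5 = true := Nat.ble_eq.mpr h5
    have h2 : Nat.blt (k + 5) 11 = true := Nat.ble_eq.mpr (by omega)
    have h3 : sK k = false := Bool.eq_false_iff.2 fun e => by have := Nat.eq_of_beq_eq_true e; omega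
    rw [h1, h2, h3]
    simp
  · have h1 : Nat.blt k 5 = false := Bool.eq_false_iff.2 fun e => by
      have := Nat.le_of_ble_eq_true e; omega
    rw [h1]
    simp

theorem mulR_spec (v u : ℕ) : ∀ n, n ≤ 11 → val v * part n u = val (mulR v u n)
  | 0, _ => by rw [part_zero, mul_one]; rfl
  | n + 1, h => by
    rw [part_succ, ← mul_assoc, mulR_spec v u n (by omega)]
    show _ = val (bif Nat.testBit u n then stepN (mulR v u n) n else mulR v u n)
    cases Nat.testBit u n
    · simp
    · simp [val_step _ (show n < 11 by omega)]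

theorem val_mul (v u : ℕ) : val v * val u = val (mulN v u) := mulR_spec v u 11 le_rfl

theorem stepN_lt {v k : ℕ} (hv : v < 2048) (hk : k < 11) : stepN v k < 2048 := by
  refine Nat.xor_lt_two_pow (n := 11) (Nat.xor_lt_two_pow hv (Nat.pow_lt_pow_right (by norm_num) hk)) ?_
  cases (Nat.testBit v k && sK k) || (Nat.blt k 5 && Nat.testBit v (k + 5)) <;> simp

theorem mulR_lt {v : ℕ} (hv : v < 2048) (u : ℕ) : ∀ n, n ≤ 11 → mulR v u n < 2048
  | 0, _ => hv
  | n + 1, h => by
    show (bif Nat.testBit u n then stepN (mulR v u n) n else mulR v u n) < 2048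
    cases Nat.testBit u n
    · exact mulR_lt hv u n (by omega)
    · exact stepN_lt (mulR_lt hv u n (by omega)) (by omega)

theorem mulN_lt {v : ℕ} (hv : v < 2048) (u : ℕ) : mulN v u < 2048 := mulR_lt hv u 11 le_rfl

theorem gv_mem_span {k : ℕ} (hk : k < 11) : gv k ∈ span jT bx bY := by
  by_cases h1 : k < 5
  · rw [gv, gE_x ⟨k, h1⟩]; exact TwoCentral.mem_x _
  by_cases h2 : k < 10
  · rw [gv, show k = (⟨k - 5, by omega⟩ : Fin 5).1 + 5 by show k = k - 5 + 5; omega, gE_y]
    exact TwoCentral.mem_y _
  rw [show k = 10 by omega]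
  exact TwoCentral.mem_j

theorem val_mem_span (v : ℕ) : val v ∈ span jT bx bY := by
  rw [← val_eq]
  refine Subgroup.list_prod_mem _ fun a ha => ?_
  obtain ⟨e, he, rfl⟩ := List.mem_map.1 ha
  obtain ⟨k, hk, rfl⟩ := List.mem_map.1 he
  exact gv_mem_span (List.mem_range.1 (List.mem_filter.1 hk).1)

theorem val_two_pow {k : ℕ} (hk : k < 11) : gv k = val (stepN 0 k) := by
  rw [← val_step 0 hk, val_zero, one_mul]

theorem exists_val {q : MulAut Fi22} (hq : q ∈ span jT bx bY) : ∃ v < 2048, val v = q := by
  have := finite_aut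
  rw [span] at hq
  rw [← Subgroup.mem_toSubmonoid, Subgroup.closure_toSubmonoid_of_finite] at hq
  induction hq using Submonoid.closure_induction with
  | mem q hq =>
    have key : ∀ k, k < 11 → ∃ v < 2048, val v = gv k := fun k hk =>
      ⟨stepN 0 k, stepN_lt (by norm_num) hk, (val_two_pow hk).symm⟩
    rcases hq with (rfl | ⟨i, rfl⟩) | ⟨i, rfl⟩
    · exact key 10 (by norm_num)
    · obtain ⟨v, h1, h2⟩ := key i (by omega)
      exact ⟨v, h1, h2.trans (by rw [gv, gE_x]; rfl)⟩
    · obtain ⟨v, h1, h2⟩ := key (i + 5) (by omega)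
      exact ⟨v, h1, h2.trans (by rw [gv, gE_y]; rfl)⟩
  | one => exact ⟨0, by norm_num, val_zero⟩
  | mul a b _ _ ha hb =>
    obtain ⟨v, hv, rfl⟩ := ha
    obtain ⟨u, hu, rfl⟩ := hb
    exact ⟨mulN v u, mulN_lt hv u, (val_mul v u).symm⟩

theorem val_inj {v u : ℕ} (hv : v < 2048) (hu : u < 2048) (h : val v = val u) : v = u := by
  classical
  have := finite_aut
  let f : Fin 2048 → span jT bx bY := fun i => ⟨val i, val_mem_span i⟩
  have hf : Function.Surjective f := fun q => by
    obtain ⟨w, hw, e⟩ := exists_val q.2
    exact ⟨⟨w, hw⟩, Subtype.ext e⟩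
  have hb : Function.Bijective f :=
    (Nat.bijective_iff_surjective_and_card f).2 ⟨hf, by rw [Nat.card_fin, basis.exists_coord.1]; norm_num⟩
  exact congrArg Fin.val (hb.1 (a₁ := ⟨v, hv⟩) (a₂ := ⟨u, hu⟩) (Subtype.ext h))

theorem conj_spec {e : Bool × List ℕ} (he : Ok e) {t : List ℕ} (h : conjK e t = true) (v : ℕ) :
    ev e * val v * (ev e)⁻¹ = val (cN t v) := by
  have key : ∀ n, n ≤ 11 → ev e * part n v * (ev e)⁻¹ = val (cR t v n) := by
    intro n
    induction n with
    | zero => intro _; rw [part_zero, mul_one, mul_inv_cancel]; exact val_zero.symm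
    | succ n ih =>
      intro hn
      rw [part_succ]
      show _ = val (bif Nat.testBit v n then mulN (cR t v n) (t.getD n 0) else cR t v n)
      cases Nat.testBit v n
      · simp [ih (by omega)]
      · simp only [cond_true]
        rw [← val_mul, ← ih (by omega)]
        have hk := List.all_eq_true.1 h n (List.mem_range.2 (show n < 11 by omega))
        simp only [Bool.and_eq_true] at hk
        have := eq_of_sameS (forall_pair he (gE_ok (by omega))) (fun f hf => by
          rcases List.mem_append.1 hf with hf | hf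
          · exact valL_ok _ f hf
          · rw [List.mem_singleton.1 hf]; exact he) hk.2
        simp only [List.map_cons, List.map_nil, List.prod_cons, List.prod_nil, mul_one, List.map_append,
          List.prod_append, val_eq] at this
        rw [← mul_inv_eq_iff_eq_mul.2 this]
        simp only [gv]
        group
  exact key 11 le_rfl

end CfsgLib.Sporadic.FiTransfer.Outer
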