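import Mathlib.GroupTheory.Perm.Basic
import Mathlib.Data.Fintype.Card
import Mathlib.Algebra.Group.Subgroup.Defs

/-!
The action on a family of sets of points of the elements permuting it.
-/

set_option autoImplicit false

namespace CfsgLib.Sporadic.FiTransfer.Outer

variable {M : Type*} [Group M] {N : ℕ} (ρ : M →* Equiv.Perm (Fin N)) {k : ℕ} (S : Fin k → Finset (Fin N))

/-- The elements permuting the family. -/
def famStab : Subgroup M where
  carrier := {g | ∃ σ : Equiv.Perm (Fin k), ∀ i, (S i).map (ρ g).toEmbedding = S (σ i)}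
  one_mem' := ⟨1, fun i => by rw [map_one]; exact Finset.map_refl⟩
  mul_mem' := by
    rintro a b ⟨σ, hσ⟩ ⟨τ, hτ⟩
    refine ⟨σ * τ, fun i => ?_⟩
    rw [Equiv.Perm.mul_apply, ← hσ, ← hτ, Finset.map_map, map_mul]
    rfl
  inv_mem' := by
    rintro a ⟨σ, hσ⟩
    refine ⟨σ⁻¹, fun i => ?_⟩
    have h := hσ (σ⁻¹ i)
    rw [← Equiv.Perm.mul_apply, mul_inv_cancel, Equiv.Perm.one_apply] at h
    rw [← h, Finset.map_map, map_inv]
    refine Eq.trans ?_ Finset.map_refl
    congr 1
    ext x
    simp

/-- The permutation of the family. -/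
noncomputable def famAct (hS : Function.Injective S) : famStab ρ S →* Equiv.Perm (Fin k) :=
  MonoidHom.mk' (fun a => a.2.choose) fun a b => Equiv.ext fun i => hS (by
    rw [← (a * b).2.choose_spec i, Equiv.Perm.mul_apply, ← a.2.choose_spec, ← b.2.choose_spec i,
      Finset.map_map, Subgroup.coe_mul, map_mul]
    rfl)

theorem famAct_spec (hS : Function.Injective S) (a : famStab ρ S) (i : Fin k) :
    (S i).map (ρ a.1).toEmbedding = S (famAct ρ S hS a i) := a.2.choose_spec i

theorem famStab_mem_iff (hS : Function.Injective S) (a : famStab ρ S) (i : Fin k) {p : Fin N} :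
    ρ a.1 p ∈ S (famAct ρ S hS a i) ↔ p ∈ S i := by
  rw [← famAct_spec ρ S hS a i]
  exact Finset.mem_map' _

/-- Membership and image from inclusions between sets of one size. -/
theorem famAct_eq (hS : Function.Injective S) {c : ℕ} (hc : ∀ i, (S i).card = c) {g : M}
    (σ : Equiv.Perm (Fin k)) (h : ∀ i, ∀ p ∈ S i, ρ g p ∈ S (σ i)) :
    ∃ hg : g ∈ famStab ρ S, famAct ρ S hS ⟨g, hg⟩ = σ := by
  have key : ∀ i, (S i).map (ρ g).toEmbedding = S (σ i) := fun i =>
    Finset.eq_of_subset_of_card_le (fun q hq => by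
      obtain ⟨p, hp, rfl⟩ := Finset.mem_map.1 hq
      exact h i p hp) (by rw [Finset.card_map, hc, hc])
  exact ⟨⟨σ, key⟩, Equiv.ext fun i => hS ((famAct_spec ρ S hS _ i).symm.trans (key i))⟩

end CfsgLib.Sporadic.FiTransfer.Outer
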