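import Cfsg.Agent.Lib.Sporadic.FiTransfer.Outer.Orth8
import Cfsg.Agent.Lib.Sporadic.FiTransfer.Outer.Family
import Cfsg.Agent.Lib.Sporadic.FiTransfer.Outer.BoundS

/-!
The group fixed by the symmetry: three classes of 120 transpositions, each generating the orthogonal
group of plus type in dimension eight.
-/

set_option autoImplicit false
set_option maxRecDepth 100000

open Cfsg.Spor Subgroup

namespace CfsgLib.Sporadic.FiTransfer.Outer

open CosetCert CosetCert.FiP CosetCert.FiP.OutFi22 TwoCentral CfsgLib.Orth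
open CfsgLib.Sporadic.LeechE8Data CfsgLib.Sporadic.LeechE8
open CosetCert.FiData (table)

attribute [local irreducible] PTab.img symAt

/-- The group fixed by the symmetry. -/
noncomputable abbrev Cs : Subgroup Fi22 := fixSub (ev BoundS.tau)

theorem ev_tauS : ev BoundS.tau = sym := by
  show sym * MulAut.conj (el []) = sym
  rw [el_nil, map_one, mul_one]

theorem dp_mem_fixSub {t : MulAut Fi22} {p : Fin table.N} (h : pm t p = p) : dp p ∈ fixSub t := by
  rw [mem_fixSub, pm_spec, h]

theorem cl_len (i : Fin 3) : (clPts.getD i []).length = 120 := by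
  revert i; decide +kernel

theorem cl_mem {p : ℕ} (h : p ∈ clPts.flatten) : p < 3510 ∧ symAt p = p := by
  have hk := cl_ok
  simp only [clK, Bool.and_eq_true, List.all_eq_true] at hk
  exact ⟨Nat.le_of_ble_eq_true (hk.2 p h).1, Nat.eq_of_beq_eq_true (hk.2 p h).2⟩

theorem cl_flat {i : Fin 3} {p : ℕ} (h : p ∈ clPts.getD i []) : p ∈ clPts.flatten := by
  refine List.mem_flatten.2 ⟨_, ?_, h⟩
  have hi : (i : ℕ) < clPts.length := i.2
  rw [List.getD_eq_getElem _ _ hi]
  exact List.getElem_mem hi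

theorem cl_sep : (List.range 3).all (fun i => (List.range 3).all fun k =>
    Nat.beq i k || !((clPts.getD k []).contains ((clPts.getD i []).getD 0 3510))) = true := by decide +kernel

/-- A class of fixed points. -/
noncomputable def cls (i : Fin 3) : Finset (Fin table.N) :=
  Finset.univ.filter fun p => (p : ℕ) ∈ clPts.getD i []

theorem mem_cls {i : Fin 3} {p : Fin table.N} : p ∈ cls i ↔ (p : ℕ) ∈ clPts.getD i [] := by simp [cls]

theorem card_cls (i : Fin 3) : (cls i).card = 120 := by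
  have hnd : (clPts.getD i []).Nodup := by
    have hk := cl_ok
    simp only [clK, Bool.and_eq_true, decide_eq_true_eq] at hk
    have hi : (i : ℕ) < clPts.length := i.2
    rw [List.getD_eq_getElem _ _ hi]
    exact (List.nodup_flatten.1 hk.1.2).1 _ (List.getElem_mem hi)
  rw [← cl_len i, ← List.toFinset_card_of_nodup hnd]
  exact Finset.card_bij (fun p _ => (p : ℕ)) (fun p hp => List.mem_toFinset.2 (mem_cls.1 hp))
    (fun a _ b _ e => Fin.ext e) fun p hp => ⟨⟨p, (cl_mem (cl_flat (List.mem_toFinset.1 hp))).1⟩,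
      mem_cls.2 (List.mem_toFinset.1 hp), rfl⟩

/-- The point of a number in the first class. -/
noncomputable def pt8 (v : Fin 120) : Fin table.N :=
  ⟨(clPts.getD 0 []).getD v 3510, (cl_mem (cl_flat (i := 0) (by
    show (clPts.getD 0 []).getD v 3510 ∈ clPts.getD 0 []
    rw [List.getD_eq_getElem _ _ (show (v : ℕ) < (clPts.getD 0 []).length from (cl_len 0).symm ▸ v.2)]
    exact List.getElem_mem _))).1⟩

theorem pt8_val (v : Fin 120) : (pt8 v : ℕ) = (clPts.getD 0 []).getD v 3510 := rfl

theorem pt8_mem (v : Fin 120) : pt8 v ∈ cls 0 := by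
  rw [mem_cls, pt8_val, List.getD_eq_getElem _ _ (show (v : ℕ) < (clPts.getD 0 []).length from (cl_len 0).symm ▸ v.2)]
  exact List.getElem_mem _

theorem pt8_injective : Function.Injective pt8 := by
  intro a b e
  have e' := congrArg Fin.val e
  have hnd : (clPts.getD 0 []).Nodup := by decide +kernel
  rw [pt8_val, pt8_val, List.getD_eq_getElem _ _ (show (a : ℕ) < (clPts.getD 0 []).length from (cl_len 0).symm ▸ a.2),
    List.getD_eq_getElem _ _ (show (b : ℕ) < (clPts.getD 0 []).length from (cl_len 0).symm ▸ b.2)] at e'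
  exact Fin.ext (hnd.getElem_inj_iff.1 e')

theorem pt8_surj {p : Fin table.N} (h : p ∈ cls 0) : ∃ v, pt8 v = p := by
  obtain ⟨i, hi, e⟩ := List.mem_iff_getElem.1 (mem_cls.1 h)
  exact ⟨⟨i, (cl_len 0) ▸ hi⟩, Fin.ext (by rw [pt8_val]; exact (List.getD_eq_getElem _ _ hi).trans e)⟩

theorem cls_injective : Function.Injective cls := by
  intro i k e
  by_contra hne
  have hi : 0 < (clPts.getD i []).length := by rw [cl_len]; norm_num
  have hmem : (clPts.getD i []).getD 0 3510 ∈ clPts.getD i [] := by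
    rw [List.getD_eq_getElem _ _ hi]; exact List.getElem_mem _
  have h := List.all_eq_true.1 (List.all_eq_true.1 cl_sep i.1 (List.mem_range.2 i.2)) k.1
    (List.mem_range.2 k.2)
  rw [Bool.eq_false_iff.mpr (fun e => hne (Fin.ext (Nat.eq_of_beq_eq_true e))), Bool.false_or] at h
  have hm : (⟨_, (cl_mem (cl_flat hmem)).1⟩ : Fin table.N) ∈ cls i := mem_cls.2 hmem
  rw [e, mem_cls] at hm
  rw [List.contains_iff_mem.2 hm] at h
  exact Bool.noConfusion h

theorem sing_injective : Function.Injective fun v => ({pt8 v} : Finset (Fin table.N)) :=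
  fun _ _ e => pt8_injective (Finset.singleton_injective e)

/-- The elements permuting the points of the first class. -/
noncomputable abbrev P1 : Subgroup Fi22 := famStab hom fun v => ({pt8 v} : Finset (Fin table.N))

/-- Their action on the numbers. -/
noncomputable def psi : P1 →* Equiv.Perm (Fin 120) := famAct hom _ sing_injective

theorem psi_spec (g : P1) (v : Fin 120) : hom g.1 (pt8 v) = pt8 (psi g v) :=
  Finset.mem_singleton.1 ((famStab_mem_iff hom _ sing_injective g v).2 (Finset.mem_singleton_self _))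

/-- The number of a generator. -/
noncomputable def gen8 (k : Fin 8) : Fin 120 := ⟨gIx8.getD k 0, by revert k; decide +kernel⟩

theorem gen8_word (k : Fin 8) : dp (pt8 (gen8 k)) = el (wOf (gHalf8.getD k ([], 9))) ∧
    ∀ x ∈ wOf (gHalf8.getD k ([], 9)), x < 9 := by
  have hk := half8_ok
  simp only [half8K, Bool.and_eq_true, List.all_eq_true, List.mem_range] at hk
  have h := hk.1.1.1.2 k.1 k.2
  exact ⟨dp_of_half (p := pt8 (gen8 k)) h, fullWord_lt h⟩

theorem gen8_act (k : Fin 8) : ∃ h : dp (pt8 (gen8 k)) ∈ P1,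
    psi ⟨_, h⟩ = vecData8.act (refl Q8 (vec8 (gen8 k))) := by
  obtain ⟨hw, hl⟩ := gen8_word k
  refine famAct_eq hom _ sing_injective (fun _ => Finset.card_singleton _) _ fun v p hp => ?_
  rw [Finset.mem_singleton] at hp ⊢
  subst hp
  obtain ⟨hlt, e⟩ := transv8_row k (gen8 k) rfl v
  rw [e]
  refine Fin.ext ?_
  rw [hw, el_img hl, pt8_val, pt8_val]
  show _ = (clPts.getD 0 []).getD (pos (clPts.getD 0 []) _) 3510
  have hlen : (clPts.getD 0 []).length = 120 := cl_len 0
  have hlt' : pos (clPts.getD 0 []) (table.imgW (wOf (gHalf8.getD k ([], 9))) ((clPts.getD 0 []).getD v 3510)) <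
      (clPts.getD 0 []).length := hlen.symm ▸ hlt
  rw [List.getD_eq_getElem _ _ hlt']
  exact (Nat.eq_of_beq_eq_true (List.findIdx_getElem (w := hlt'))).symm

/-- The group of the first class. -/
noncomputable def K1 : Subgroup Fi22 := closure (Set.range fun k => dp (pt8 (gen8 k)))

theorem K1_le_P1 : K1 ≤ P1 := (closure_le _).2 (by rintro _ ⟨k, rfl⟩; exact (gen8_act k).1)

/-- The action of the group of the first class. -/
noncomputable def psi1 : K1 →* Equiv.Perm (Fin 120) := psi.comp (inclusion K1_le_P1)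

theorem psi1_dp (v : Fin 120) : ∃ h : dp (pt8 v) ∈ K1, psi1 ⟨_, h⟩ = vecData8.act (refl Q8 (vec8 v)) := by
  refine searchInd (n := 120) (row := row8) (ng := 8)
    (P := fun p => ∀ v : Fin 120, (v : ℕ) = p →
      ∃ h : dp (pt8 v) ∈ K1, psi1 ⟨_, h⟩ = vecData8.act (refl Q8 (vec8 v)))
    ?_ _ _ search8_ok ?_ (by simp) v.1 v.2 v rfl
  · intro p k hp hk hP w hw
    let K : Fin 8 := ⟨k, hk⟩
    let u : Fin 120 := ⟨p, hp⟩
    obtain ⟨hu, eu⟩ := hP u rfl
    obtain ⟨hg1, eg⟩ := gen8_act K
    have hg : dp (pt8 (gen8 K)) ∈ K1 := subset_closure ⟨K, rfl⟩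
    have eg' : psi1 ⟨_, hg⟩ = vecData8.act (refl Q8 (vec8 (gen8 K))) := eg
    obtain ⟨hlt, e⟩ := transv8_row K (gen8 K) rfl u
    have hw' : psi1 ⟨_, hg⟩ u = w := by rw [eg', e]; exact Fin.ext hw.symm
    have hp8 : hom (dp (pt8 (gen8 K))) (pt8 u) = pt8 w := by
      rw [← hw']; exact psi_spec ⟨_, K1_le_P1 hg⟩ u
    have hd : dp (pt8 w) = dp (pt8 (gen8 K)) * dp (pt8 u) * (dp (pt8 (gen8 K)))⁻¹ := by
      rw [conj_dp, hp8]
    refine ⟨hd ▸ mul_mem (mul_mem hg hu) (inv_mem hg), ?_⟩
    have he : (⟨dp (pt8 w), hd ▸ mul_mem (mul_mem hg hu) (inv_mem hg)⟩ : K1) =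
        ⟨_, hg⟩ * ⟨_, hu⟩ * ⟨_, hg⟩⁻¹ := Subtype.ext hd
    rw [he, map_mul, map_mul, map_inv, eg', eu, ← map_inv, ← map_mul, ← map_mul, conj_refl]
    congr 2
    rw [← vecData8.vec_act, ← eg', hw']
  · intro p hp w hw
    rw [List.mem_singleton] at hp
    subst hp
    obtain ⟨h1, e1⟩ := gen8_act 0
    have h0 : gen8 0 = w := Fin.ext (show gIx8.getD 0 0 = (w : ℕ) by rw [hw]; rfl)
    subst h0
    exact ⟨subset_closure ⟨0, rfl⟩, e1⟩

theorem psi1_range : psi1.range = vecData8.act.range := by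
  have hgen : reflGroup Q8 = ⊤ := reflGroup_eq_top (plusForm_nondeg 4) good8
  apply le_antisymm
  · rintro _ ⟨⟨g, hg⟩, rfl⟩
    induction hg using closure_induction with
    | mem x hx =>
      obtain ⟨k, rfl⟩ := hx
      exact ⟨_, (gen8_act k).2.symm⟩
    | one => exact ⟨1, (map_one _).trans (map_one psi1).symm⟩
    | mul a b ha hb iha ihb =>
      rw [show (⟨a * b, _⟩ : K1) = ⟨a, ha⟩ * ⟨b, hb⟩ from rfl, map_mul]
      exact mul_mem iha ihb
    | inv a ha iha =>
      rw [show (⟨a⁻¹, _⟩ : K1) = ⟨a, ha⟩⁻¹ from rfl, map_inv]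
      exact inv_mem iha
  · rw [vecData8.act_range hgen (c := fun v => vecData8.act (refl Q8 (vec8 v))) (fun v i => vecData8.vec_act _ _),
      closure_le]
    rintro _ ⟨v, rfl⟩
    exact ⟨_, (psi1_dp v).2⟩

theorem card_act8 : Nat.card vecData8.act.range = 348364800 := by
  rw [← Nat.card_congr (MonoidHom.ofInjective vecData8.act_injective).toEquiv, card_orth8]

theorem card_K1_ge : 348364800 ≤ Nat.card K1 := by
  have := finite
  rw [← card_act8, ← psi1_range]
  exact Nat.card_le_card_of_surjective psi1.rangeRestrict psi1.rangeRestrict_surjective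

end CfsgLib.Sporadic.FiTransfer.Outer
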