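import Cfsg.Agent.Lib.Sporadic.FiTransfer.Outer.FixS
import Cfsg.Agent.Lib.Sporadic.FiTransfer.TwoCentral.Pair
import Cfsg.Agent.Lib.Sporadic.FiTransfer.TwoCentral.Transfer
import Cfsg.Agent.S0817

/-!
The group fixed by the symmetry is the automorphism group of the simple orthogonal group of plus type in
dimension eight.
-/

set_option autoImplicit false
set_option maxRecDepth 100000

open Cfsg.Spor Subgroup
open scoped commutatorElement

namespace CfsgLib.Sporadic.FiTransfer.Outer

open CosetCert CosetCert.FiP CosetCert.FiP.OutFi22 TwoCentral CfsgLib.Orth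
open CfsgLib.Sporadic.LeechE8Data CfsgLib.Sporadic.LeechE8
open CosetCert.FiData (table)
open CfsgLib.Sporadic.Co1Centralizer (L8 card_L8 isSimple_L8)

attribute [local irreducible] PTab.img symAt

theorem class_move {L : List ℕ} (hL : ∀ x ∈ L, x < 9) {i k : Fin 3} (h : carryK L i k = true) :
    ∀ p ∈ cls i, hom (el L) p ∈ cls k := by
  intro p hp
  rw [mem_cls] at hp ⊢
  have h' := List.all_eq_true.1 h p.1 hp
  rw [testBit_maskOf'] at h'
  rwa [el_img hL]

/-- The point of the third class. -/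
noncomputable def zP : Fin table.N := ⟨zPt, by decide +kernel⟩

theorem zP_mem : zP ∈ cls 2 := by
  have hk := half8_ok
  simp only [half8K, Bool.and_eq_true] at hk
  exact mem_cls.2 (List.contains_iff_mem.1 hk.1.2)

theorem class_perm : (∀ k : Fin 8, ∃ h : dp (pt8 (gen8 k)) ∈ famStab hom cls,
    famAct hom cls cls_injective ⟨_, h⟩ = Equiv.swap 1 2) ∧
    ∃ h : dp zP ∈ famStab hom cls, famAct hom cls cls_injective ⟨_, h⟩ = Equiv.swap 0 1 := by
  have hk := class_ok
  simp only [classK, Bool.and_eq_true, List.all_eq_true, List.mem_range] at hk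
  obtain ⟨⟨⟨hg, z0⟩, z1⟩, z2⟩ := hk
  constructor
  · intro k
    obtain ⟨hw, hl⟩ := gen8_word k
    obtain ⟨⟨h0, h1⟩, h2⟩ := hg k.1 k.2
    refine famAct_eq hom cls cls_injective card_cls (Equiv.swap 1 2) fun i p hp => ?_
    rw [hw]
    fin_cases i
    · exact class_move hl (i := 0) (k := 0) h0 p hp
    · exact class_move hl (i := 1) (k := 2) h1 p hp
    · exact class_move hl (i := 2) (k := 1) h2 p hp
  · have hz := half8_ok
    simp only [half8K, Bool.and_eq_true] at hz
    have hw : dp zP = el (wOf zHalf) := dp_of_half (p := zP) hz.1.1.2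
    have hl : ∀ x ∈ wOf zHalf, x < 9 := fullWord_lt hz.1.1.2
    refine famAct_eq hom cls cls_injective card_cls (Equiv.swap 0 1) fun i p hp => ?_
    rw [hw]
    fin_cases i
    · exact class_move hl (i := 0) (k := 1) z0 p hp
    · exact class_move hl (i := 1) (k := 0) z1 p hp
    · exact class_move hl (i := 2) (k := 2) z2 p hp

theorem cls_fixed {i : Fin 3} {p : Fin table.N} (h : p ∈ cls i) : pm (ev BoundS.tau) p = p := by
  rw [ev_tauS, pm_sym]
  exact Fin.ext (cl_mem (cl_flat (mem_cls.1 h))).2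

/-- The group generated by the generators of the first class and the further point. -/
noncomputable def H8 : Subgroup Fi22 := closure (insert (dp zP) (Set.range fun k => dp (pt8 (gen8 k))))

theorem K1_le_H8 : K1 ≤ H8 := closure_mono (Set.subset_insert _ _)

theorem zP_H8 : dp zP ∈ H8 := subset_closure (Set.mem_insert _ _)

theorem H8_le_stab : H8 ≤ famStab hom cls := (closure_le _).2 (by
  rintro _ (rfl | ⟨k, rfl⟩)
  exacts [class_perm.2.1, (class_perm.1 k).1])

theorem H8_le_Cs : H8 ≤ Cs := (closure_le _).2 (by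
  rintro _ (rfl | ⟨k, rfl⟩)
  exacts [dp_mem_fixSub (cls_fixed zP_mem), dp_mem_fixSub (cls_fixed (pt8_mem _))])

theorem K1_pres {g : Fi22} (hg : g ∈ K1) : ∀ hm : g ∈ famStab hom cls,
    famAct hom cls cls_injective ⟨g, hm⟩ 0 = 0 := by
  induction hg using closure_induction with
  | mem x hx =>
    obtain ⟨k, rfl⟩ := hx
    intro hm
    obtain ⟨h, e⟩ := class_perm.1 k
    rw [show (⟨_, hm⟩ : famStab hom cls) = ⟨_, h⟩ from rfl, e]
    rfl
  | one => intro hm; rw [show (⟨1, hm⟩ : famStab hom cls) = 1 from rfl, map_one]; rfl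
  | mul a b ha hb iha ihb =>
    intro hm
    have hA := H8_le_stab (K1_le_H8 ha)
    have hB := H8_le_stab (K1_le_H8 hb)
    rw [show (⟨a * b, hm⟩ : famStab hom cls) = ⟨a, hA⟩ * ⟨b, hB⟩ from rfl, map_mul, Equiv.Perm.mul_apply,
      ihb hB, iha hA]
  | inv a ha iha =>
    intro hm
    have hA := H8_le_stab (K1_le_H8 ha)
    rw [show (⟨a⁻¹, hm⟩ : famStab hom cls) = ⟨a, hA⟩⁻¹ from rfl, map_inv, Equiv.Perm.inv_def,
      Equiv.symm_apply_eq]
    exact (iha hA).symm

theorem card_Cs_le : Nat.card Cs ≤ 1045094400 := by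
  have := BoundS.card_le
  exact Nat.le_of_mul_le_mul_left this two_pos

theorem card_H8_ge : 3 * Nat.card K1 ≤ Nat.card H8 := by
  classical
  have := finite
  let χ : H8 →* Equiv.Perm (Fin 3) := (famAct hom cls cls_injective).comp (inclusion H8_le_stab)
  have hidx : 3 ≤ (K1.subgroupOf H8).index := by
    have hz : χ ⟨_, zP_H8⟩ = Equiv.swap 0 1 := class_perm.2.2
    have hg : χ ⟨_, K1_le_H8 (subset_closure ⟨0, rfl⟩)⟩ = Equiv.swap 1 2 := (class_perm.1 0).2
    let o : H8 ⧸ K1.subgroupOf H8 → Fin 3 := Quotient.lift (fun g => χ g 0) fun a b e => by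
      have e' := K1_pres (mem_subgroupOf.1 (QuotientGroup.leftRel_apply.1 e)) (H8_le_stab (a⁻¹ * b).2)
      have e2 : χ (a⁻¹ * b) 0 = 0 := e'
      rw [map_mul, map_inv, Equiv.Perm.mul_apply, Equiv.Perm.inv_def, Equiv.symm_apply_eq] at e2
      exact e2.symm
    have ho : Function.Surjective o := by
      intro i
      fin_cases i
      · exact ⟨QuotientGroup.mk 1, show χ 1 0 = 0 by rw [map_one]; rfl⟩
      · exact ⟨QuotientGroup.mk ⟨_, zP_H8⟩, show χ _ 0 = 1 by rw [hz]; rfl⟩
      · refine ⟨QuotientGroup.mk (⟨_, K1_le_H8 (subset_closure ⟨0, rfl⟩)⟩ * ⟨_, zP_H8⟩), ?_⟩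
        show χ _ 0 = 2
        rw [map_mul, hz, hg]
        rfl
    have h3 := Nat.card_le_card_of_surjective o ho
    rwa [Nat.card_fin] at h3
  have h := (K1.subgroupOf H8).card_mul_index
  rw [Nat.card_congr (subgroupOfEquivOfLe K1_le_H8).toEquiv] at h
  rw [← h, mul_comm]
  exact Nat.mul_le_mul_left _ hidx

theorem H8_eq : H8 = Cs := by
  have := finite
  exact eq_of_le_of_card_ge H8_le_Cs
    (card_Cs_le.trans ((Nat.mul_le_mul_left 3 card_K1_ge).trans card_H8_ge))

theorem card_Cs : Nat.card Cs = 1045094400 :=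
  le_antisymm card_Cs_le (by
    rw [← H8_eq]
    exact le_trans (Nat.mul_le_mul_left 3 card_K1_ge) card_H8_ge)

theorem card_K1 : Nat.card K1 = 348364800 := by
  refine le_antisymm ?_ card_K1_ge
  have h := card_H8_ge
  rw [H8_eq, card_Cs] at h
  omega

theorem psi1_injective : Function.Injective psi1 := by
  have := finite
  by_contra hn
  have hlt : Nat.card psi1.range < Nat.card K1 := by
    refine lt_of_le_of_ne (Nat.card_le_card_of_surjective _ psi1.rangeRestrict_surjective) fun e => hn ?_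
    have := (Nat.bijective_iff_surjective_and_card psi1.rangeRestrict).2
      ⟨psi1.rangeRestrict_surjective, e.symm⟩
    intro a b h
    exact this.1 (Subtype.ext h)
  rw [psi1_range, card_act8, card_K1] at hlt
  exact absurd hlt (lt_irrefl _)

theorem Cs_le_stab : Cs ≤ famStab hom cls := H8_eq ▸ H8_le_stab

/-- The action on the three classes. -/
noncomputable def chi : Cs →* Equiv.Perm (Fin 3) :=
  (famAct hom cls cls_injective).comp (inclusion Cs_le_stab)

theorem K1_le_Cs : K1 ≤ Cs := K1_le_H8.trans H8_le_Cs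

theorem chi_z : chi ⟨_, H8_le_Cs zP_H8⟩ = Equiv.swap 0 1 := class_perm.2.2

theorem chi_g : chi ⟨_, K1_le_Cs (subset_closure ⟨0, rfl⟩)⟩ = Equiv.swap 1 2 := (class_perm.1 0).2

theorem chi_surjective : Function.Surjective chi := by
  intro σ
  have hσ : ∀ σ : Equiv.Perm (Fin 3), σ = 1 ∨ σ = Equiv.swap 0 1 ∨ σ = Equiv.swap 1 2 ∨
      σ = Equiv.swap 0 1 * Equiv.swap 1 2 ∨ σ = Equiv.swap 1 2 * Equiv.swap 0 1 ∨
      σ = Equiv.swap 0 1 * Equiv.swap 1 2 * Equiv.swap 0 1 := by decide +kernel
  rcases hσ σ with h | h | h | h | h | h <;> subst h <;> rw [← MonoidHom.mem_range]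
  · exact one_mem _
  · exact ⟨_, chi_z⟩
  · exact ⟨_, chi_g⟩
  · exact mul_mem ⟨_, chi_z⟩ ⟨_, chi_g⟩
  · exact mul_mem ⟨_, chi_g⟩ ⟨_, chi_z⟩
  · exact mul_mem (mul_mem ⟨_, chi_z⟩ ⟨_, chi_g⟩) ⟨_, chi_z⟩

theorem card_ker_chi : Nat.card chi.ker = 174182400 := by
  have := finite
  have h := chi.ker.card_mul_index
  rw [index_ker, MonoidHom.range_eq_top.2 chi_surjective, Nat.card_congr Subgroup.topEquiv.toEquiv,
    Nat.card_perm, Nat.card_fin, card_Cs] at h
  rw [show Nat.factorial 3 = 6 from rfl] at h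
  omega

/-- The orthogonal group as the group of the first class. -/
noncomputable def orthK1 : orthGroup Q8 ≃* K1 :=
  ((MonoidHom.ofInjective vecData8.act_injective).trans (MulEquiv.subgroupCongr psi1_range.symm)).trans
    (MonoidHom.ofInjective psi1_injective).symm

/-- The orthogonal group inside. -/
noncomputable def incl8 : orthGroup Q8 →* Cs := (inclusion K1_le_Cs).comp orthK1.toMonoidHom

theorem incl8_injective : Function.Injective incl8 :=
  (inclusion_injective K1_le_Cs).comp orthK1.injective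

theorem incl8_range : incl8.range = K1.subgroupOf Cs := by
  ext g
  constructor
  · rintro ⟨q, rfl⟩
    exact (orthK1 q).2
  · intro hg
    exact ⟨orthK1.symm ⟨g.1, hg⟩, by
      show inclusion K1_le_Cs (orthK1 (orthK1.symm ⟨g.1, hg⟩)) = g
      rw [orthK1.apply_symm_apply]
      rfl⟩

theorem comm_eq_ker : (commutator (orthGroup Q8)).map incl8 = chi.ker := by
  have := finite
  refine eq_of_le_of_card_ge ?_ ?_
  · rw [_root_.commutator_def, map_commutator, commutator_le]
    intro a ha b hb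
    rw [← MonoidHom.range_eq_map, incl8_range] at ha hb
    have hfix : ∀ g : Cs, g ∈ K1.subgroupOf Cs → chi g = 1 ∨ chi g = Equiv.swap 1 2 := fun g hg => by
      have h0 : chi g 0 = 0 := K1_pres hg _
      have hσ : ∀ σ : Equiv.Perm (Fin 3), σ 0 = 0 → σ = 1 ∨ σ = Equiv.swap 1 2 := by decide +kernel
      exact hσ _ h0
    rw [MonoidHom.mem_ker, map_commutatorElement, commutatorElement_eq_one_iff_mul_comm]
    rcases hfix a ha with e | e <;> rcases hfix b hb with e' | e' <;> rw [e, e'] <;> simp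
  · rw [card_ker_chi, card_map_of_injective incl8_injective]
    exact card_L8.ge

/-- The kernel is the simple group. -/
noncomputable def kerEquiv8 : L8 ≃* chi.ker :=
  ((commutator (orthGroup Q8)).equivMapOfInjective incl8 incl8_injective).trans (MulEquiv.subgroupCongr comm_eq_ker)

theorem L8_noncomm : ∃ a b : L8, a * b ≠ b * a := by
  by_contra h
  push Not at h
  haveI := isSimple_L8
  let : CommGroup L8 := { (inferInstance : Group L8) with mul_comm := h }
  have hp := IsSimpleGroup.prime_card (α := L8)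
  rw [card_L8] at hp
  norm_num at hp

theorem cent_ker : centralizer (chi.ker : Set Cs) = ⊥ := by
  classical
  have := finite
  haveI := isSimple_L8
  haveI : IsSimpleGroup chi.ker := kerEquiv8.symm.isSimpleGroup
  set Nc := centralizer (chi.ker : Set Cs) with hN
  -- fixing the first class
  have hfix : ∀ n ∈ Nc, ∀ p ∈ cls 0, hom (n : Cs).1 p = p := by
    intro n hn p hp
    obtain ⟨v, rfl⟩ := pt8_surj hp
    obtain ⟨u, hu, hvu⟩ := (show ∀ v : Fin 120, ∃ u : Fin 120, u ≠ v ∧ ∃ w : Fin 120, w ≠ v ∧ w ≠ u ∧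
        (∑ j, vec8 v j * vec8 u j.swap) = 0 ∧ (∑ j, vec8 v j * vec8 w j.swap) = 0 from by
      decide +kernel) v
    obtain ⟨w, hwv, hwu, hpu, hpw⟩ := hvu
    have hcomm : ∀ x : Fin 120, (∑ j, vec8 v j * vec8 x j.swap) = 0 → Commute (dp (pt8 v)) (dp (pt8 x)) := by
      intro x hx
      obtain ⟨h1, e1⟩ := psi1_dp v
      refine comm_of_fix ?_
      have hxx : psi1 ⟨_, h1⟩ x = x := by
        rw [e1]
        refine vec8_injective ?_
        rw [vecData8.vec_act, refl8_apply (vecData8.quad v), hx, zero_smul, add_zero]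
      exact (psi_spec ⟨_, K1_le_P1 h1⟩ x).trans (congrArg pt8 hxx)
    have key : ∀ x : Fin 120, (∑ j, vec8 v j * vec8 x j.swap) = 0 → x ≠ v →
        hom (n : Cs).1 (pt8 v) = pt8 v ∨ hom (n : Cs).1 (pt8 v) = pt8 x := by
      intro x hx hxv
      obtain ⟨hv', ev'⟩ := psi1_dp v
      obtain ⟨hx', ex'⟩ := psi1_dp x
      set r : orthGroup Q8 := refl Q8 (vec8 v) * refl Q8 (vec8 x)
      have hr : r ∈ commutator (orthGroup Q8) := by
        obtain ⟨g, hg⟩ := witt_family' (plusForm_nondeg 4) (fun _ : Fin 1 => vec8 v) (fun _ => vec8 x)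
          (LinearIndependent.of_subsingleton 0 fun e => by
            simpa [e, QuadraticMap.map_zero] using vecData8.quad v)
          (LinearIndependent.of_subsingleton 0 fun e => by
            simpa [e, QuadraticMap.map_zero] using vecData8.quad x)
          (fun _ => by rw [vecData8.quad, vecData8.quad]) (fun _ _ => by
            simp [QuadraticMap.polar_self, vecData8.quad])
        have : r = ⁅refl Q8 (vec8 v), g⁆ := by
          rw [commutatorElement_def, refl_inv, mul_assoc (refl Q8 (vec8 v)) g, mul_assoc (refl Q8 (vec8 v)),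
            conj_refl, hg 0]
        rw [this, _root_.commutator_def]
        exact commutator_mem_commutator (mem_top _) (mem_top _)
      have hmem : (⟨dp (pt8 v) * dp (pt8 x), mul_mem (K1_le_Cs hv') (K1_le_Cs hx')⟩ : Cs) ∈ chi.ker := by
        rw [← comm_eq_ker]
        refine ⟨r, hr, ?_⟩
        have e : orthK1 r = ⟨_, hv'⟩ * ⟨_, hx'⟩ := psi1_injective (by
          rw [map_mul psi1, ev', ex', ← map_mul]
          have h2 := congrArg Subtype.val ((MonoidHom.ofInjective psi1_injective).apply_symm_apply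
            (MulEquiv.subgroupCongr psi1_range.symm (MonoidHom.ofInjective vecData8.act_injective r)))
          exact h2)
        exact Subtype.ext (congrArg (fun q : K1 => (q : Fi22)) e)
      have hc' := congrArg Subtype.val (mem_centralizer_iff.1 hn _ hmem)
      simp only [Subgroup.coe_mul] at hc'
      have hconj : (n : Cs).1 * (dp (pt8 v) * dp (pt8 x)) * (n : Cs).1⁻¹ = dp (pt8 v) * dp (pt8 x) := by
        rw [← hc', mul_inv_cancel_right]
      have hprod : dp (hom (n : Cs).1 (pt8 v)) * dp (hom (n : Cs).1 (pt8 x)) = dp (pt8 v) * dp (pt8 x) := by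
        rw [← conj_dp, ← conj_dp]
        refine Eq.trans ?_ hconj
        group
      obtain ⟨g, hgu, hgv⟩ := commuting_trans (p := pt8 x) (q := pt8 v)
        (fun e => hxv (pt8_injective e)) (hcomm x hx).symm
      have hpair : dp (hom g⁻¹ (hom (n : Cs).1 (pt8 v))) * dp (hom g⁻¹ (hom (n : Cs).1 (pt8 x))) = tF := by
        rw [← conj_dp, ← conj_dp g⁻¹, tF]
        calc _ = g⁻¹ * (dp (hom (n : Cs).1 (pt8 v)) * dp (hom (n : Cs).1 (pt8 x))) * g⁻¹⁻¹ := by group
          _ = g⁻¹ * (dp (pt8 v) * dp (pt8 x)) * g⁻¹⁻¹ := by rw [hprod]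
          _ = _ := by
            rw [← hgu, ← hgv, ← conj_dp g vP, ← conj_dp g uP]
            group
      have back : ∀ q, hom g (hom g⁻¹ q) = q := fun q => by
        rw [← Equiv.Perm.mul_apply, ← map_mul, mul_inv_cancel, map_one, Equiv.Perm.one_apply]
      rcases pair_unique hpair with ⟨e, -⟩ | ⟨e, -⟩
      · exact Or.inr (by rw [← back (hom (n : Cs).1 (pt8 v)), e, hgu])
      · exact Or.inl (by rw [← back (hom (n : Cs).1 (pt8 v)), e, hgv])
    rcases key u hpu hu with e | e
    · exact e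
    rcases key w hpw hwv with e' | e'
    · exact e'
    exact absurd (pt8_injective (e.symm.trans e')).symm hwu
  have hcenter : ∀ n ∈ Nc, ∀ g : Cs, g * n = n * g := by
    intro n hn g
    have hp0 : ∀ k, Commute (n : Cs).1 (dp (pt8 (gen8 k))) := fun k => comm_of_fix (hfix n hn _ (pt8_mem _))
    have hzc : Commute (n : Cs).1 (dp zP) := by
      refine comm_of_fix ?_
      obtain ⟨k, hk⟩ := chi_surjective (Equiv.swap 0 2)
      have hmv : ∀ p ∈ cls 2, hom k.1 p ∈ cls 0 := fun p hp => by
        have := (famStab_mem_iff hom cls cls_injective (inclusion Cs_le_stab k) 2).2 hp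
        rwa [show famAct hom cls cls_injective (inclusion Cs_le_stab k) 2 = 0 from by
          show chi k 2 = 0
          rw [hk]; rfl] at this
      have hn' : k * n * k⁻¹ ∈ Nc := (inferInstance : Nc.Normal).conj_mem n hn k
      have h2 := hfix _ hn' _ (hmv zP zP_mem)
      simp only [Subgroup.coe_mul, Subgroup.coe_inv, map_mul, Equiv.Perm.mul_apply, hom_inv_apply] at h2
      exact (hom k.1).injective h2
    have hg8 : g.1 ∈ H8 := by rw [H8_eq]; exact g.2
    refine Subtype.ext ?_
    show g.1 * (n : Cs).1 = (n : Cs).1 * g.1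
    have hle : H8 ≤ centralizer ({(n : Cs).1} : Set Fi22) := (closure_le _).2 (by
      rintro _ (rfl | ⟨k, rfl⟩)
      exacts [mem_centralizer_singleton_iff.2 hzc.eq.symm, mem_centralizer_singleton_iff.2 (hp0 k).eq.symm])
    exact mem_centralizer_singleton_iff.1 (hle hg8)
  rw [eq_bot_iff]
  intro n hn
  have hc : chi n = 1 := by
    have h3 : ∀ σ : Equiv.Perm (Fin 3), (∀ τ, τ * σ = σ * τ) → σ = 1 := by decide +kernel
    refine h3 _ fun τ => ?_
    obtain ⟨g, rfl⟩ := chi_surjective τ
    rw [← map_mul, ← map_mul, hcenter n hn g]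
  rw [mem_bot]
  rcases Normal.eq_bot_or_eq_top (inferInstance : (center chi.ker).Normal) with e | e
  · have h1 : (⟨n, hc⟩ : chi.ker) ∈ center chi.ker :=
      mem_center_iff.2 fun g => Subtype.ext (hcenter n hn g.1)
    rw [e, mem_bot] at h1
    exact congrArg (fun q : chi.ker => (q : Cs)) h1
  · obtain ⟨a, b, hab⟩ := L8_noncomm
    exfalso
    exact hab (kerEquiv8.injective (by
      rw [map_mul, map_mul]
      exact mem_center_iff.1 (e ▸ mem_top (kerEquiv8 b)) (kerEquiv8 a)))

theorem nonempty_mulAut :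
    Nonempty (Cs ≃* MulAut (Cfsg.Omega (ZMod 2) (Cfsg.quadFormPlus 4 (ZMod 2)))) := by
  have := finite
  haveI := isSimple_L8
  haveI : Fact (Nat.Prime 2) := ⟨Nat.prime_two⟩
  let eO : L8 ≃* Cfsg.Omega (ZMod 2) (Cfsg.quadFormPlus 4 (ZMod 2)) :=
    (CfsgLib.Classical.omegaEquiv Q8 (plusForm_apply 4)).symm
  have hcO : Nat.card (Cfsg.Omega (ZMod 2) (Cfsg.quadFormPlus 4 (ZMod 2))) = 174182400 := by
    rw [← Nat.card_congr eO.toEquiv, card_L8]
  haveI : IsSimpleGroup (Cfsg.Omega (ZMod 2) (Cfsg.quadFormPlus 4 (ZMod 2))) := eO.symm.isSimpleGroup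
  have hz : center (Cfsg.Omega (ZMod 2) (Cfsg.quadFormPlus 4 (ZMod 2))) = ⊥ := by
    rcases Normal.eq_bot_or_eq_top (inferInstance :
      (center (Cfsg.Omega (ZMod 2) (Cfsg.quadFormPlus 4 (ZMod 2)))).Normal) with e | e
    · exact e
    · obtain ⟨a, b, hab⟩ := L8_noncomm
      exfalso
      exact hab (eO.injective (by
        rw [map_mul, map_mul]
        exact mem_center_iff.1 (e ▸ mem_top (eO b)) (eO a)))
  let eP : Cfsg.POmega (ZMod 2) (Cfsg.quadFormPlus 4 (ZMod 2)) ≃* Cfsg.Omega (ZMod 2) (Cfsg.quadFormPlus 4 (ZMod 2)) :=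
    (QuotientGroup.quotientMulEquivOfEq hz).trans QuotientGroup.quotientBot
  have hA : Nat.card (MulAut (Cfsg.Omega (ZMod 2) (Cfsg.quadFormPlus 4 (ZMod 2)))) = 1045094400 := by
    rw [← Nat.card_congr (MulAut.congr eP).toEquiv,
      Cfsg.Agent.S0817.result 2 1 le_rfl (by simp) 4 le_rfl, Nat.card_congr eP.toEquiv, hcO]
    norm_num
  let e : chi.ker ≃* Cfsg.Omega (ZMod 2) (Cfsg.quadFormPlus 4 (ZMod 2)) := kerEquiv8.symm.trans eO
  let κ : Cs →* MulAut chi.ker := MulAut.conjNormal
  have hκ : Function.Injective κ := by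
    rw [← MonoidHom.ker_eq_bot_iff, eq_bot_iff, ← cent_ker]
    intro z hz'
    rw [mem_centralizer_iff]
    intro l hl
    have h1 := congrArg Subtype.val (DFunLike.congr_fun (MonoidHom.mem_ker.1 hz') ⟨l, hl⟩)
    simp only [κ, MulAut.conjNormal_apply, MulAut.one_apply] at h1
    exact (mul_inv_eq_iff_eq_mul.1 h1).symm
  haveI : Finite (MulAut (Cfsg.Omega (ZMod 2) (Cfsg.quadFormPlus 4 (ZMod 2)))) :=
    Nat.finite_of_card_ne_zero (by rw [hA]; norm_num)
  exact ⟨MulEquiv.ofBijective ((MulAut.congr e).toMonoidHom.comp κ)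
    ((Nat.bijective_iff_injective_and_card _).2
      ⟨(MulAut.congr e).injective.comp hκ, by rw [hA, card_Cs]⟩)⟩

end CfsgLib.Sporadic.FiTransfer.Outer
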