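import Cfsg.Agent.Lib.Sporadic.FiTransfer.Outer.FixSGroup
import Cfsg.Agent.Lib.Sporadic.FiTransfer.Outer.BoundSa

/-!
The group fixed by the symmetry times a transposition which it fixes.
-/

set_option autoImplicit false
set_option maxRecDepth 100000

open Cfsg.Spor Subgroup

namespace CfsgLib.Sporadic.FiTransfer.Outer

open CosetCert CosetCert.FiP CosetCert.FiP.OutFi22 TwoCentral CfsgLib.Orth
open CfsgLib.Sporadic.LeechE8Data CfsgLib.Sporadic.LeechE8
open CosetCert.FiData (table)

attribute [local irreducible] PTab.img symAt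

/-- The fixed transposition. -/
noncomputable def aT : Fi22 := dp (pt8 ⟨0, by norm_num⟩)

theorem aT_gen : aT = coding.gen 3 := by
  rw [gen_eq_dp 3 (by norm_num), aT]
  refine congrArg dp (Fin.ext ?_)
  rw [gpt_val (by norm_num), pt8_val]
  decide +kernel

theorem ev_tauSa : ev BoundSa.tau = sym * MulAut.conj aT := by
  show sym * MulAut.conj (el [3]) = _
  rw [el_single, aT_gen]

theorem aT_mem : aT ∈ Cs := dp_mem_fixSub (cls_fixed (pt8_mem _))

/-- The part of the group fixed by the symmetry which centralises the transposition. -/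
noncomputable abbrev Ca : Subgroup Fi22 := Cs ⊓ centralizer ({aT} : Set Fi22)

theorem mem_Ca {g : Fi22} : g ∈ Ca ↔ g ∈ Cs ∧ hom g (pt8 ⟨0, by norm_num⟩) = pt8 ⟨0, by norm_num⟩ := by
  rw [mem_inf, mem_centralizer_singleton_iff]
  refine and_congr Iff.rfl ⟨fun h => ?_, fun h => (comm_of_fix h).eq⟩
  refine dp_injective ?_
  rw [← conj_dp]
  exact mul_inv_eq_iff_eq_mul.2 h

theorem Ca_le : Ca ≤ fixSub (ev BoundSa.tau) := by
  intro g hg
  obtain ⟨hs, hc⟩ := hg
  rw [mem_fixSub, ev_tauSa]
  show sym (aT * g * aT⁻¹) = g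
  rw [← mem_centralizer_singleton_iff.1 hc, mul_inv_cancel_right, ← ev_tauS]
  exact hs

theorem card_symFix : (Finset.univ.filter fun p => symPerm p = p).card = 360 :=
  (card_fix symAt symPerm fun _ => rfl).trans sym_fix

theorem card_Ca_ge : 2903040 ≤ Nat.card Ca := by
  classical
  have := finite
  let o : Cs ⧸ (Ca.subgroupOf Cs) → {p : Fin table.N // symPerm p = p} :=
    Quotient.lift (fun g => ⟨hom g.1 (pt8 ⟨0, by norm_num⟩), by
      have hs : sym g.1 = g.1 := by rw [← ev_tauS]; exact g.2
      have h0 : symPerm (pt8 ⟨0, by norm_num⟩) = pt8 ⟨0, by norm_num⟩ :=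
        Fin.ext (cl_mem (cl_flat (i := 0) (mem_cls.1 (pt8_mem _)))).2
      rw [sym_equivariant, hs, h0]⟩) fun g k e => by
      have e' := (mem_Ca.1 (mem_subgroupOf.1 (QuotientGroup.leftRel_apply.1 e))).2
      apply Subtype.ext
      have := congrArg (hom g.1) e'
      rw [← Equiv.Perm.mul_apply, ← map_mul, coe_mul, coe_inv, mul_inv_cancel_left] at this
      exact this.symm
  have ho : Function.Injective o := by
    intro x y
    induction x using QuotientGroup.induction_on with
    | H g =>
      induction y using QuotientGroup.induction_on with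
      | H k =>
        intro e
        refine QuotientGroup.eq.2 (mem_subgroupOf.2 (mem_Ca.2 ⟨(g⁻¹ * k).2, ?_⟩))
        rw [coe_mul, coe_inv, map_mul, map_inv, Equiv.Perm.mul_apply,
          ← show hom g.1 _ = hom k.1 _ from congrArg Subtype.val e, Equiv.Perm.inv_def, Equiv.symm_apply_apply]
  have h1 := Nat.card_le_card_of_injective o ho
  rw [Nat.card_eq_fintype_card (α := {p : Fin table.N // symPerm p = p}), Fintype.card_subtype, card_symFix] at h1
  have h2 := (Ca.subgroupOf Cs).card_mul_index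
  rw [card_Cs, Nat.card_congr (subgroupOfEquivOfLe inf_le_left).toEquiv] at h2
  by_contra hlt
  rw [not_le] at hlt
  rw [← Subgroup.index] at h1
  have h3 : Nat.card Ca * (Ca.subgroupOf Cs).index ≤ 2903039 * 360 := Nat.mul_le_mul (by omega) h1
  change Nat.card Ca * _ = _ at h2
  omega

theorem card_fixSa_le : Nat.card (fixSub (ev BoundSa.tau)) ≤ 2903040 :=
  Nat.le_of_mul_le_mul_left BoundSa.card_le two_pos

theorem fixSa_eq : fixSub (ev BoundSa.tau) = Ca := by
  have := finite
  exact (eq_of_le_of_card_ge Ca_le (card_fixSa_le.trans card_Ca_ge)).symm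

theorem card_Ca : Nat.card Ca = 2903040 := by
  refine le_antisymm ?_ card_Ca_ge
  rw [← fixSa_eq]
  exact card_fixSa_le

theorem stab_class : ((MulAction.stabilizer (Equiv.Perm (Fin 3)) (0 : Fin 3)).comap chi) = K1.subgroupOf Cs := by
  have := finite
  refine (eq_of_le_of_card_ge (fun g hg => (K1_pres hg _ : chi g 0 = 0)) ?_).symm
  have h := ((MulAction.stabilizer (Equiv.Perm (Fin 3)) (0 : Fin 3)).comap chi).card_mul_index
  rw [index_comap_of_surjective _ chi_surjective, MulAction.index_stabilizer_of_transitive, Nat.card_fin,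
    card_Cs] at h
  rw [Nat.card_congr (subgroupOfEquivOfLe K1_le_Cs).toEquiv, card_K1]
  omega

theorem Ca_le_K1 : Ca ≤ K1 := by
  intro g hg
  obtain ⟨hs, hfix⟩ := mem_Ca.1 hg
  have h0 : chi ⟨g, hs⟩ 0 = 0 := by
    have h1 := (famStab_mem_iff hom cls cls_injective (inclusion Cs_le_stab ⟨g, hs⟩) 0).2 (pt8_mem ⟨0, by norm_num⟩)
    change hom g _ ∈ cls (chi ⟨g, hs⟩ 0) at h1
    rw [hfix, mem_cls] at h1
    have key : ∀ i : Fin 3, (clPts.getD 0 []).getD 0 3510 ∈ clPts.getD i [] → i = 0 := by decide +kernel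
    exact key _ h1
  have : (⟨g, hs⟩ : Cs) ∈ K1.subgroupOf Cs := by
    rw [← stab_class]
    exact h0
  exact this

/-- The orthogonal transformation of an element centralising the transposition. -/
noncomputable def toU : Ca →* Co2Centralizer.stU :=
  (orthK1.symm.toMonoidHom.comp (inclusion Ca_le_K1)).codRestrict Co2Centralizer.stU fun g => by
    show ((orthK1.symm (inclusion Ca_le_K1 g))).1 Co2Centralizer.u8 = Co2Centralizer.u8
    rw [← vec8_zero, ← vecData8.vec_act]
    congr 1
    have e : vecData8.act (orthK1.symm (inclusion Ca_le_K1 g)) = psi1 (inclusion Ca_le_K1 g) :=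
      congrArg Subtype.val ((MonoidHom.ofInjective vecData8.act_injective).apply_symm_apply
        (MulEquiv.subgroupCongr psi1_range (MonoidHom.ofInjective psi1_injective (inclusion Ca_le_K1 g))))
    rw [e]
    exact pt8_injective ((psi_spec ⟨g.1, K1_le_P1 (Ca_le_K1 g.2)⟩ _).symm.trans (mem_Ca.1 g.2).2)

theorem nonempty_Ca : Nonempty (Ca ≃* Multiplicative (ZMod 2) × Cfsg.PSp 3 (ZMod 2)) := by
  classical
  have := finite
  have hQ := plusForm_nondeg (F := ZMod 2) 4
  have hi : (commutator (orthGroup Q8)).index = 2 :=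
    CfsgLib.Classical.index_commutator_two (Q := Q8) hQ good8 (by simp [Module.finrank_fintype_fun_eq_card])
  haveI : Fact (Nat.Prime 2) := ⟨Nat.prime_two⟩
  haveI : IsCyclic (orthGroup Q8 ⧸ commutator (orthGroup Q8)) := isCyclic_of_prime_card hi
  let E : (orthGroup Q8 ⧸ commutator (orthGroup Q8)) ≃* Multiplicative (ZMod 2) :=
    mulEquivOfCyclicCardEq (by
      rw [Nat.card_congr Multiplicative.toAdd, Nat.card_zmod]
      exact hi)
  let sgn8 : Ca →* Multiplicative (ZMod 2) :=
    E.toMonoidHom.comp ((QuotientGroup.mk' _).comp ((Co2Centralizer.stU).subtype.comp toU))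
  have hc1 : center (Matrix.symplecticGroup (Fin 3) (ZMod 2)) = ⊥ := by
    rw [eq_bot_iff]
    intro A hA
    rw [mem_bot]
    rcases CfsgLib.Classical.sp_center_eq 3 hA with e | e <;> refine Subtype.ext (e.trans ?_)
    · rfl
    · rw [CharTwo.neg_eq]; rfl
  let eS : Matrix.symplecticGroup (Fin 3) (ZMod 2) ≃* Cfsg.PSp 3 (ZMod 2) :=
    QuotientGroup.quotientBot.symm.trans (QuotientGroup.quotientMulEquivOfEq hc1.symm)
  let f : Ca →* Multiplicative (ZMod 2) × Cfsg.PSp 3 (ZMod 2) :=
    sgn8.prod (eS.toMonoidHom.comp (Co2Centralizer.toSp.comp toU))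
  have htoU : Function.Injective toU := fun a b h => by
    have h' : orthK1.symm (inclusion Ca_le_K1 a) = orthK1.symm (inclusion Ca_le_K1 b) := congrArg Subtype.val h
    exact Subtype.ext (congrArg (fun q : K1 => (q : Fi22)) (orthK1.symm.injective h'))
  have hf : Function.Injective f := by
    rw [injective_iff_map_eq_one]
    intro g hg
    have h1 : Co2Centralizer.toSp (toU g) = 1 := eS.map_eq_one_iff.1 (congrArg Prod.snd hg)
    have h2 : (toU g).1 ∈ commutator (orthGroup Q8) :=
      (QuotientGroup.eq_one_iff _).1 (E.map_eq_one_iff.1 (congrArg Prod.fst hg))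
    refine htoU ?_
    rw [map_one]
    refine Subtype.ext ?_
    rcases Co2Centralizer.ker_toSp h1 with e | e
    · exact e
    · exact absurd (e ▸ h2) Co2Centralizer.refl_not_mem
  have hc : Nat.card (Multiplicative (ZMod 2) × Cfsg.PSp 3 (ZMod 2)) = 2903040 := by
    rw [Nat.card_prod, Nat.card_congr Multiplicative.toAdd, Nat.card_zmod, ← Nat.card_congr eS.toEquiv,
      CfsgLib.Classical.card_symplecticGroup, ZMod.card]
    norm_num [Finset.prod_range_succ]
  haveI : Finite (Multiplicative (ZMod 2) × Cfsg.PSp 3 (ZMod 2)) :=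
    Nat.finite_of_card_ne_zero (by rw [hc]; norm_num)
  exact ⟨MulEquiv.ofBijective f ((Nat.bijective_iff_injective_and_card f).2 ⟨hf, by rw [hc, card_Ca]⟩)⟩

end CfsgLib.Sporadic.FiTransfer.Outer
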