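import Cfsg.Agent.Lib.Sporadic.FiTransfer.Outer.Orth6
import Cfsg.Agent.Lib.Sporadic.FiTransfer.Outer.Family
import Cfsg.Agent.Lib.Sporadic.FiTransfer.Outer.FixSa
import Cfsg.Agent.Lib.Sporadic.FiTransfer.Outer.BoundSab
import Cfsg.Prelude.Def_Transfer
import Cfsg.Prelude.Def_Solvable

/-!
The group fixed by the symmetry times two commuting transpositions: an elementary abelian group of order
64 by the orthogonal group of minus type in dimension six.
-/

set_option autoImplicit false
set_option maxRecDepth 100000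

open Cfsg.Spor Subgroup

namespace CfsgLib.Sporadic.FiTransfer.Outer

open CosetCert CosetCert.FiP CosetCert.FiP.OutFi22 TwoCentral CfsgLib.Orth
open CosetCert.FiData (table)

attribute [local irreducible] PTab.img symAt

/-- The second fixed transposition. -/
noncomputable def bT : Fi22 := coding.gen 8

theorem el38 : el [3, 8] = bT * aT := by
  rw [aT_gen]
  show 1 * coding.gen 8 * coding.gen 3 = _
  rw [one_mul]
  rfl

theorem gen38_comm : Commute aT bT := by
  show aT * bT = bT * aT
  rw [← el38, aT_gen, show coding.gen 3 * bT = el [8, 3] from by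
    show _ = 1 * coding.gen 3 * coding.gen 8
    rw [one_mul]
    rfl]
  exact eq_of_sameK (by simp) (by simp) (by decide +kernel)

theorem ev_tauSab : ev BoundSab.tau = sym * MulAut.conj (aT * bT) := by
  show sym * MulAut.conj (el [3, 8]) = _
  rw [el38, gen38_comm.eq]

/-- The group fixed by the symmetry times two transpositions. -/
noncomputable abbrev Cab : Subgroup Fi22 := fixSub (ev BoundSab.tau)

theorem blk_len (v : Fin 36) : (blkPts.getD v []).length = 2 := by revert v; decide +kernel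

theorem blk_nodup (v : Fin 36) : (blkPts.getD v []).Nodup := by revert v; decide +kernel

theorem blk_mem {p : ℕ} (h : p ∈ blkPts.flatten) : p < 3510 ∧ app (true, [3, 8]) p = p := by
  have hk := blk_ok
  simp only [blkK, Bool.and_eq_true, List.all_eq_true] at hk
  exact ⟨Nat.le_of_ble_eq_true (hk.2 p h).1, Nat.eq_of_beq_eq_true (hk.2 p h).2⟩

theorem blk_flat {v : Fin 36} {p : ℕ} (h : p ∈ blkPts.getD v []) : p ∈ blkPts.flatten := by
  have hk := blk_ok
  simp only [blkK, Bool.and_eq_true] at hk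
  have hv : (v : ℕ) < blkPts.length := by rw [Nat.eq_of_beq_eq_true hk.1.1.1]; exact v.2
  rw [List.getD_eq_getElem _ _ hv] at h
  exact List.mem_flatten.2 ⟨_, List.getElem_mem hv, h⟩

theorem blk_sep : ∀ v w : Fin 36, (blkPts.getD v []).getD 0 3510 ∈ blkPts.getD w [] → v = w := by decide +kernel

/-- A pair of fixed points. -/
noncomputable def blk (v : Fin 36) : Finset (Fin table.N) :=
  Finset.univ.filter fun p => (p : ℕ) ∈ blkPts.getD v []

theorem mem_blk {v : Fin 36} {p : Fin table.N} : p ∈ blk v ↔ (p : ℕ) ∈ blkPts.getD v [] := by simp [blk]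

theorem blk_getD_mem (v : Fin 36) (i : Fin 2) : (blkPts.getD v []).getD i 3510 ∈ blkPts.getD v [] := by
  rw [List.getD_eq_getElem _ _ (show (i : ℕ) < (blkPts.getD v []).length by rw [blk_len]; exact i.2)]
  exact List.getElem_mem _

/-- A point of a pair. -/
noncomputable def bp (v : Fin 36) (i : Fin 2) : Fin table.N :=
  ⟨(blkPts.getD v []).getD i 3510, (blk_mem (blk_flat (blk_getD_mem v i))).1⟩

theorem bp_mem (v : Fin 36) (i : Fin 2) : bp v i ∈ blk v := mem_blk.2 (blk_getD_mem v i)

theorem card_blk (v : Fin 36) : (blk v).card = 2 := by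
  rw [← blk_len v, ← List.toFinset_card_of_nodup (blk_nodup v)]
  exact Finset.card_bij (fun p _ => (p : ℕ)) (fun p hp => List.mem_toFinset.2 (mem_blk.1 hp))
    (fun a _ b _ e => Fin.ext e) fun p hp => ⟨⟨p, (blk_mem (blk_flat (List.mem_toFinset.1 hp))).1⟩,
      mem_blk.2 (List.mem_toFinset.1 hp), rfl⟩

theorem blk_injective : Function.Injective blk := fun v w e =>
  blk_sep v w (mem_blk.1 (e ▸ bp_mem v 0 : bp v 0 ∈ blk w))

theorem bp_fixed (v : Fin 36) (i : Fin 2) : dp (bp v i) ∈ Cab := by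
  refine dp_mem_fixSub (Fin.ext ?_)
  rw [pm_ev (by unfold Ok BoundSab.tau; decide)]
  exact (blk_mem (blk_flat (blk_getD_mem v i))).2

/-- The number of a generating pair. -/
noncomputable def gen6 (k : Fin 6) : Fin 36 := ⟨gIx6.getD k 0, by revert k; decide +kernel⟩

theorem gen6_word (k : Fin 6) : dp (bp (gen6 k) 0) = el (wOf (gHalf6.getD k ([], 9))) ∧
    ∀ x ∈ wOf (gHalf6.getD k ([], 9)), x < 9 := by
  have hk := half6_ok
  simp only [half6K, Bool.and_eq_true, List.all_eq_true, List.mem_range] at hk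
  have h := hk.2 k.1 (show k.1 < gIx6.length from k.2)
  exact ⟨dp_of_half (p := bp (gen6 k) 0) h, fullWord_lt h⟩

theorem gen6_act (k : Fin 6) : ∃ h : dp (bp (gen6 k) 0) ∈ famStab hom blk,
    famAct hom blk blk_injective ⟨_, h⟩ = vecData6.act (refl Qm (vec6 (gen6 k))) := by
  obtain ⟨hw, hl⟩ := gen6_word k
  refine famAct_eq hom blk blk_injective card_blk _ fun v p hp => ?_
  obtain ⟨hlt, e⟩ := transv6_row k (gen6 k) rfl v
  rw [e, mem_blk, hw, el_img hl]
  have hK := List.all_eq_true.1 (List.all_eq_true.1 transv6_ok k.1 (List.mem_range.2 k.2)) v.1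
    (List.mem_range.2 v.2)
  simp only [Bool.and_eq_true] at hK
  have h2 := List.all_eq_true.1 hK.1.2 p.1 (mem_blk.1 hp)
  rwa [testBit_maskOf'] at h2

theorem o_spec (k : Fin 6) : ∃ (h : oIx.getD k 36 < 36),
    dp (bp ⟨_, h⟩ 1) * dp (bp ⟨_, h⟩ 0) = el (oWord (oHalf.getD k (([], 9), ([], 9)))) ∧
    (∀ x ∈ oWord (oHalf.getD k (([], 9), ([], 9))), x < 9) ∧
    ∃ hm : el (oWord (oHalf.getD k (([], 9), ([], 9)))) ∈ famStab hom blk,
      famAct hom blk blk_injective ⟨_, hm⟩ = 1 := by
  have hk := o_ok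
  simp only [oK, Bool.and_eq_true] at hk
  have h := List.all_eq_true.1 hk.1.2 k.1 (List.mem_range.2 k.2)
  simp only [Bool.and_eq_true] at h
  obtain ⟨⟨⟨h0, h1⟩, h2⟩, h3⟩ := h
  have hlt : oIx.getD k 36 < 36 := Nat.le_of_ble_eq_true h2
  have hl : ∀ x ∈ oWord (oHalf.getD k (([], 9), ([], 9))), x < 9 := fun x hx => by
    rcases List.mem_append.1 hx with hx | hx
    exacts [fullWord_lt h0 x hx, fullWord_lt h1 x hx]
  refine ⟨hlt, ?_, hl, famAct_eq hom blk blk_injective card_blk 1 fun v p hp => ?_⟩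
  · show _ = el (fullWord _ ++ fullWord _)
    rw [el_append, dp_of_half (p := bp ⟨_, hlt⟩ 0) h0, dp_of_half (p := bp ⟨_, hlt⟩ 1) h1]
  · rw [Equiv.Perm.one_apply, mem_blk, el_img hl]
    have h4 := List.all_eq_true.1 (List.all_eq_true.1 h3 v.1 (List.mem_range.2 v.2)) p.1 (mem_blk.1 hp)
    rwa [testBit_maskOf'] at h4

/-- The generators of the normal 2-subgroup. -/
noncomputable def oGen (k : Fin 6) : Fi22 := el (oWord (oHalf.getD k (([], 9), ([], 9))))

/-- The normal 2-subgroup. -/
noncomputable def O6 : Subgroup Fi22 := closure (Set.range oGen)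

/-- The group generated by the pairs. -/
noncomputable def H6 : Subgroup Fi22 := closure (Set.range (fun k => dp (bp (gen6 k) 0)) ∪ Set.range oGen)

theorem O6_le_H6 : O6 ≤ H6 := closure_mono Set.subset_union_right

theorem H6_le_stab : H6 ≤ famStab hom blk := (closure_le _).2 (by
  rintro _ (⟨k, rfl⟩ | ⟨k, rfl⟩)
  exacts [(gen6_act k).1, (o_spec k).2.2.2.1])

theorem H6_le_Cab : H6 ≤ Cab := (closure_le _).2 (by
  rintro _ (⟨k, rfl⟩ | ⟨k, rfl⟩)
  · exact bp_fixed _ _
  · obtain ⟨h, e, -⟩ := o_spec k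
    rw [oGen, ← e]
    exact mul_mem (bp_fixed _ _) (bp_fixed _ _))

/-- The action on the pairs. -/
noncomputable def th6 : H6 →* Equiv.Perm (Fin 36) := (famAct hom blk blk_injective).comp (inclusion H6_le_stab)

theorem gen6_th (k : Fin 6) (h : dp (bp (gen6 k) 0) ∈ H6) :
    th6 ⟨_, h⟩ = vecData6.act (refl Qm (vec6 (gen6 k))) := (gen6_act k).2

theorem refl6_mem (v : Fin 36) : vecData6.act (refl Qm (vec6 v)) ∈ th6.range := by
  have hgen : ∀ k : Fin 6, dp (bp (gen6 k) 0) ∈ H6 := fun k => subset_closure (Or.inl ⟨k, rfl⟩)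
  refine searchInd (n := 36) (row := row6) (ng := gIx6.length)
    (P := fun p => ∀ v : Fin 36, (v : ℕ) = p → vecData6.act (refl Qm (vec6 v)) ∈ th6.range)
    ?_ _ _ search6_ok ?_ (by decide +kernel) v.1 v.2 v rfl
  · intro p k hp hk hP w hw
    let K : Fin 6 := ⟨k, hk⟩
    let u : Fin 36 := ⟨p, hp⟩
    obtain ⟨hlt, e⟩ := transv6_row K (gen6 K) rfl u
    have hw' : vecData6.act (refl Qm (vec6 (gen6 K))) u = w := by rw [e]; exact Fin.ext hw.symm
    rw [← hw', vecData6.vec_act, ← conj_refl, map_mul, map_mul, map_inv]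
    exact mul_mem (mul_mem ⟨_, gen6_th K (hgen K)⟩ (hP u rfl)) (inv_mem ⟨_, gen6_th K (hgen K)⟩)
  · intro p hp w hw
    rw [List.mem_singleton] at hp
    subst hp
    have h0 : gen6 0 = w := Fin.ext (show gIx6.getD 0 0 = (w : ℕ) by rw [hw]; decide)
    subst h0
    exact ⟨_, gen6_th 0 (hgen 0)⟩

theorem act6_le : vecData6.act.range ≤ th6.range := by
  rw [vecData6.act_range (reflGroup_eq_top nondeg6 good6) (c := fun v => vecData6.act (refl Qm (vec6 v)))
    (fun v i => vecData6.vec_act _ _), closure_le]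
  rintro _ ⟨v, rfl⟩
  exact refl6_mem v

theorem oGen_th (k : Fin 6) (h : oGen k ∈ H6) : th6 ⟨_, h⟩ = 1 := (o_spec k).2.2.2.2

theorem O6_ker : O6.subgroupOf H6 ≤ th6.ker := by
  intro q hq
  have key : O6 ≤ th6.ker.map H6.subtype := (closure_le _).2 (by
    rintro _ ⟨k, rfl⟩
    exact ⟨⟨_, subset_closure (Or.inr ⟨k, rfl⟩)⟩, oGen_th k _, rfl⟩)
  obtain ⟨z, hz, e⟩ := key (mem_subgroupOf.1 hq)
  rwa [show q = z from Subtype.ext e.symm]

theorem oGen_rel : (∀ k, oGen k * oGen k = 1) ∧ ∀ k l, Commute (oGen k) (oGen l) := by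
  have hk := o_ok
  simp only [oK, Bool.and_eq_true, List.all_eq_true] at hk
  have hm : ∀ k : Fin 6, oHalf.getD k (([], 9), ([], 9)) ∈ oHalf := fun k => by
    rw [List.getD_eq_getElem _ _ (show (k : ℕ) < oHalf.length from k.2)]
    exact List.getElem_mem _
  have hl : ∀ k : Fin 6, ∀ x ∈ oWord (oHalf.getD k (([], 9), ([], 9))), x < 9 := fun k => (o_spec k).2.2.1
  constructor
  · intro k
    have := eq_of_sameK (by intro x hx; rcases List.mem_append.1 hx with hx | hx <;> exact hl k x hx)
      (by simp) (hk.2 _ (hm k)).1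
    rwa [el_append, el_nil] at this
  · intro k l
    have := eq_of_sameK (by intro x hx; rcases List.mem_append.1 hx with hx | hx; exacts [hl k x hx, hl l x hx])
      (by intro x hx; rcases List.mem_append.1 hx with hx | hx; exacts [hl l x hx, hl k x hx])
      ((hk.2 _ (hm k)).2 _ (hm l))
    rw [el_append, el_append] at this
    exact this.symm

theorem O6_comm : IsMulCommutative O6 := ⟨⟨fun a b => by
  have hle : O6 ≤ centralizer (O6 : Set Fi22) := by
    rw [O6, centralizer_closure, closure_le]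
    rintro _ ⟨k, rfl⟩
    exact mem_centralizer_iff.2 fun x ⟨l, e⟩ => e ▸ (oGen_rel.2 l k).eq
  exact Subtype.ext (mem_centralizer_iff.1 (hle b.2) a.1 a.2)⟩⟩

theorem O6_sq : ∀ a ∈ O6, a ^ 2 = 1 := by
  intro a ha
  induction ha using closure_induction with
  | mem x hx =>
    obtain ⟨k, rfl⟩ := hx
    rw [pow_two]
    exact oGen_rel.1 k
  | one => exact one_pow 2
  | mul x y hx hy ihx ihy =>
    have hc : Commute x y := congrArg Subtype.val (O6_comm.is_comm.comm ⟨x, hx⟩ ⟨y, hy⟩)
    rw [hc.mul_pow, ihx, ihy, one_mul]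
  | inv x _ ih => rw [inv_pow, ih, inv_one]

theorem sub_mem (s : ℕ) : el (oSub s) ∈ O6 ∧ ∀ x ∈ oSub s, x < 9 := by
  have key : ∀ (L : List ℕ), (∀ k ∈ L, k < 6) → ∀ acc : List ℕ, el acc ∈ O6 → (∀ x ∈ acc, x < 9) →
      el (L.foldl (fun acc k =>
        bif Nat.testBit s k then acc ++ oWord (oHalf.getD k (([], 9), ([], 9))) else acc) acc) ∈ O6 ∧
      ∀ x ∈ L.foldl (fun acc k =>
        bif Nat.testBit s k then acc ++ oWord (oHalf.getD k (([], 9), ([], 9))) else acc) acc, x < 9 := by
    intro L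
    induction L with
    | nil => intro _ acc h1 h2; exact ⟨h1, h2⟩
    | cons k t ih =>
      intro hL acc h1 h2
      rw [List.foldl_cons]
      refine ih (fun j hj => hL j (List.mem_cons_of_mem _ hj)) _ ?_ ?_ <;> cases Nat.testBit s k
      · exact h1
      · rw [cond_true, el_append]
        exact mul_mem (subset_closure ⟨⟨k, hL k List.mem_cons_self⟩, rfl⟩) h1
      · exact h2
      · intro x hx
        rcases List.mem_append.1 hx with hx | hx
        · exact h2 x hx
        · exact (o_spec ⟨k, hL k List.mem_cons_self⟩).2.2.1 x hx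
  exact key _ (fun k hk => List.mem_range.1 hk) [] (el_nil ▸ one_mem _) (by simp)

theorem card_O6_ge : 64 ≤ Nat.card O6 := by
  have := finite
  have hk := oFree_ok
  simp only [oFreeK, Bool.and_eq_true, decide_eq_true_eq, List.all_eq_true, List.mem_range] at hk
  obtain ⟨⟨hlen, hnd⟩, hsig⟩ := hk
  have hlen' : oSigs.length = 64 := Nat.eq_of_beq_eq_true hlen
  let f : Fin 64 → O6 := fun s => ⟨el (oSub s), (sub_mem s).1⟩
  have hf : Function.Injective f := by
    intro s t e
    have e' : el (oSub s) = el (oSub t) := congrArg Subtype.val e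
    have hs : sigOf (oSub s) = sigOf (oSub t) := by
      have hj : ∀ j, table.imgW (oSub s) (genPts.getD j 3510) = table.imgW (oSub t) (genPts.getD j 3510) ∨ ¬ j < 9 := by
        intro j
        by_cases hj : j < 9
        · left
          rw [← gpt_val hj, ← el_img (sub_mem s).2, ← el_img (sub_mem t).2, e']
        · exact Or.inr hj
      have hfold : ∀ (L : List ℕ), (∀ j ∈ L, j < 9) → ∀ acc,
          L.foldl (fun acc j => acc + table.imgW (oSub s) (genPts.getD j 3510) * 2 ^ (12 * j)) acc =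
            L.foldl (fun acc j => acc + table.imgW (oSub t) (genPts.getD j 3510) * 2 ^ (12 * j)) acc := by
        intro L
        induction L with
        | nil => intro _ _; rfl
        | cons j r ih =>
          intro hL acc
          rw [List.foldl_cons, List.foldl_cons, (hj j).resolve_right (not_not_intro (hL j List.mem_cons_self))]
          exact ih (fun i hi => hL i (List.mem_cons_of_mem _ hi)) _
      exact hfold _ (fun j hj => List.mem_range.1 hj) 0
    rw [Nat.eq_of_beq_eq_true (hsig s s.2), Nat.eq_of_beq_eq_true (hsig t t.2),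
      List.getD_eq_getElem _ _ (show (s : ℕ) < oSigs.length by rw [hlen']; exact s.2),
      List.getD_eq_getElem _ _ (show (t : ℕ) < oSigs.length by rw [hlen']; exact t.2), hnd.getElem_inj_iff] at hs
    exact Fin.ext hs
  have := Nat.card_le_card_of_injective f hf
  rwa [Nat.card_fin] at this

theorem card_Cab_le : Nat.card Cab ≤ 3317760 := Nat.le_of_mul_le_mul_left BoundSab.card_le two_pos

theorem card_th6_ge : 51840 ≤ Nat.card th6.range := by
  have := finite
  refine le_trans (le_of_eq ?_) (card_le_of_le act6_le)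
  rw [← Nat.card_congr (MonoidHom.ofInjective vecData6.act_injective).toEquiv, card_orth6]

theorem structure6 : H6 = Cab ∧ O6.subgroupOf H6 = th6.ker ∧ Nat.card O6 = 64 ∧
    th6.range = vecData6.act.range := by
  have := finite
  have hker : 64 ≤ Nat.card th6.ker :=
    card_O6_ge.trans ((Nat.card_congr (subgroupOfEquivOfLe O6_le_H6).toEquiv).symm.le.trans (card_le_of_le O6_ker))
  have hmul : Nat.card th6.ker * Nat.card th6.range = Nat.card H6 := by rw [← index_ker, card_mul_index]
  have hr := card_th6_ge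
  have hle : Nat.card H6 ≤ Nat.card Cab := card_le_of_le H6_le_Cab
  have hC := card_Cab_le
  have hge : 64 * 51840 ≤ Nat.card H6 := hmul ▸ Nat.mul_le_mul hker hr
  have h1 : H6 = Cab := eq_of_le_of_card_ge H6_le_Cab (by omega)
  have hr' : Nat.card th6.range = 51840 := by
    refine le_antisymm ?_ hr
    by_contra hlt
    rw [not_le] at hlt
    have : 64 * 51841 ≤ Nat.card H6 := hmul ▸ Nat.mul_le_mul hker hlt
    omega
  have hk' : Nat.card th6.ker = 64 := by
    have h6 : Nat.card H6 ≤ 3317760 := hle.trans hC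
    refine le_antisymm ?_ hker
    rw [← hmul, hr'] at h6
    exact Nat.le_of_mul_le_mul_right (h6.trans (le_of_eq (show 3317760 = 64 * 51840 from rfl))) (show 0 < 51840 by decide)
  have hO : Nat.card O6 = 64 := by
    refine le_antisymm ?_ card_O6_ge
    rw [← hk', ← Nat.card_congr (subgroupOfEquivOfLe O6_le_H6).toEquiv]
    exact card_le_of_le O6_ker
  refine ⟨h1, eq_of_le_of_card_ge O6_ker ?_, hO, (eq_of_le_of_card_ge act6_le ?_).symm⟩
  · rw [hk', Nat.card_congr (subgroupOfEquivOfLe O6_le_H6).toEquiv, hO]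
  · rw [hr', ← Nat.card_congr (MonoidHom.ofInjective vecData6.act_injective).toEquiv, card_orth6]

theorem O6_le_Cab : O6 ≤ Cab := O6_le_H6.trans H6_le_Cab

theorem pCore_Cab : ∃ _ : (O6.subgroupOf Cab).Normal, O6 = (Cfsg.pCore 2 ↥Cab).map Cab.subtype ∧
    Nonempty (↥Cab ⧸ O6.subgroupOf Cab ≃* Cfsg.isometryGroup (ZMod 2) (Cfsg.quadFormMinus 2 (ZMod 2) 1 1)) := by
  classical
  have := finite
  haveI : Fact (Nat.Prime 2) := ⟨Nat.prime_two⟩
  obtain ⟨hH, hker, hO, hrange⟩ := structure6
  let π : Cab →* orthGroup Qm := ((MonoidHom.ofInjective vecData6.act_injective).symm.toMonoidHom.comp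
    ((MulEquiv.subgroupCongr hrange).toMonoidHom.comp th6.rangeRestrict)).comp (inclusion hH.ge)
  have hπs : Function.Surjective π :=
    ((MonoidHom.ofInjective vecData6.act_injective).symm.surjective.comp
      ((MulEquiv.subgroupCongr hrange).surjective.comp th6.rangeRestrict_surjective)).comp
        fun q => ⟨⟨q.1, H6_le_Cab q.2⟩, rfl⟩
  have hπk : O6.subgroupOf Cab = π.ker := by
    ext g
    rw [MonoidHom.mem_ker]
    show g.1 ∈ O6 ↔ (MonoidHom.ofInjective vecData6.act_injective).symm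
      ((MulEquiv.subgroupCongr hrange) (th6.rangeRestrict ⟨g.1, hH.ge g.2⟩)) = 1
    rw [MulEquiv.map_eq_one_iff, MulEquiv.map_eq_one_iff, ← MonoidHom.mem_ker, MonoidHom.ker_rangeRestrict, ← hker,
      mem_subgroupOf]
  haveI hn : (O6.subgroupOf Cab).Normal := hπk ▸ inferInstance
  have hp : IsPGroup 2 ↥(O6.subgroupOf Cab) := IsPGroup.of_card (n := 6) (by
    rw [Nat.card_congr (subgroupOfEquivOfLe O6_le_Cab).toEquiv, hO]; norm_num)
  have hcore : Cfsg.pCore 2 ↥Cab = O6.subgroupOf Cab := by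
    refine le_antisymm (sSup_le ?_) (le_sSup ⟨hn, hp⟩)
    rintro N ⟨hN, hNp⟩
    haveI : (N.map π).Normal := hN.map π hπs
    have h0 := eq_bot_of_two_group (N.map π) (hNp.map π)
    rw [Subgroup.map_eq_bot_iff, ← hπk] at h0
    exact h0
  refine ⟨hn, ?_, ⟨(QuotientGroup.quotientMulEquivOfEq hπk).trans
    ((QuotientGroup.quotientKerEquivOfSurjective π hπs).trans
      (toOrth Qm (minusForm_apply 2 1 1)).symm)⟩⟩
  rw [hcore, subgroupOf_map_subtype, inf_eq_left.2 O6_le_Cab]

theorem O6_elementary : Cfsg.IsElementaryAbelian 2 O6 := ⟨O6_comm, O6_sq⟩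

theorem card_Cab : Nat.card Cab = 3317760 := by
  have := finite
  obtain ⟨hn, -, ⟨e⟩⟩ := pCore_Cab
  have h := (O6.subgroupOf Cab).card_mul_index
  rw [Nat.card_congr (subgroupOfEquivOfLe O6_le_Cab).toEquiv, structure6.2.2.1, index, Nat.card_congr e.toEquiv,
    Nat.card_congr (toOrth Qm (minusForm_apply 2 1 1)).toEquiv, card_orth6] at h
  exact h.symm

end CfsgLib.Sporadic.FiTransfer.Outer
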