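import Cfsg.Agent.Lib.Sporadic.FiTransfer.Outer.Classes
import Cfsg.Agent.Lib.Sporadic.FiTransfer.Outer.FixSab
import Cfsg.Agent.Lib.Sporadic.FiTransfer.Model

/-!
The outer involutions of a group of type M(22) given by its model, with their centralisers.
-/

set_option autoImplicit false
set_option maxRecDepth 100000

open Cfsg.Spor Subgroup

namespace CfsgLib.Sporadic.FiTransfer.Outer

open CosetCert CosetCert.FiP CosetCert.FiP.OutFi22 TwoCentral
open CosetCert.FiData (table)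

attribute [local irreducible] PTab.img symAt

theorem dp_mem_classTr (p : Fin table.N) : dp p ∈ classTr := by
  obtain ⟨g, hg⟩ := transitive p
  refine isConj_iff.2 ⟨g, ?_⟩
  rw [← hg, ← conj_dp, dp_pt]
  exact congrArg (fun z => g * z * g⁻¹) (coding.gen_code Fi22.Gen.a).symm

theorem sym_bT : sym bT = bT := by
  rw [bT, gen_eq_dp 8 (by norm_num), sym_dp]
  refine congrArg dp (Fin.ext ?_)
  show symAt ((gpt 8 : Fin table.N) : ℕ) = (gpt 8 : Fin table.N)
  rw [gpt_val (by norm_num)]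
  decide +kernel

theorem aT_ne_bT : aT ≠ bT := by
  rw [aT_gen, bT, gen_eq_dp 3 (by norm_num), gen_eq_dp 8 (by norm_num)]
  intro e
  have h := congrArg Fin.val (dp_injective e)
  rw [gpt_val (by norm_num), gpt_val (by norm_num)] at h
  revert h
  decide +kernel

theorem card_fix_of_conj {x y : MulAut Fi22} (h : IsConj x y) :
    Nat.card (fixSub x) = Nat.card (fixSub y) := by
  obtain ⟨g, hg⟩ := isConj_iff.1 h
  refine Nat.card_congr (Equiv.subtypeEquiv g.toEquiv fun a => ?_)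
  show a ∈ fixSub x ↔ g a ∈ fixSub y
  rw [mem_fixSub, mem_fixSub, ← hg]
  simp

/-- A subgroup of Fi22 seen in an isomorphic group. -/
def comapIso {G : Type*} [Group G] (e : G ≃* Fi22) (H : Subgroup Fi22) : ↥(H.comap e.toMonoidHom) ≃* ↥H where
  toFun q := ⟨e q.1, q.2⟩
  invFun q := ⟨e.symm q.1, by
    show e (e.symm q.1) ∈ H
    rw [e.apply_symm_apply]; exact q.2⟩
  left_inv q := Subtype.ext (e.symm_apply_apply _)
  right_inv q := Subtype.ext (e.apply_symm_apply _)
  map_mul' x y := Subtype.ext (map_mul e x.1 y.1)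

theorem map_pCore_le {A B : Type*} [Group A] [Group B] (f : A ≃* B) (p : ℕ) :
    (Cfsg.pCore p A).map f.toMonoidHom ≤ Cfsg.pCore p B := by
  rw [Subgroup.map_le_iff_le_comap]
  refine sSup_le fun N hN => Subgroup.map_le_iff_le_comap.1 (le_sSup ?_)
  exact ⟨hN.1.map _ f.surjective, hN.2.map _⟩

theorem map_pCore {A B : Type*} [Group A] [Group B] (f : A ≃* B) (p : ℕ) :
    (Cfsg.pCore p A).map f.toMonoidHom = Cfsg.pCore p B := by
  refine le_antisymm (map_pCore_le f p) fun b hb => ⟨f.symm b, ?_, f.apply_symm_apply b⟩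
  exact map_pCore_le f.symm p ⟨b, hb, rfl⟩

/-- The statement for a group with a model isomorphism. -/
theorem outer_representatives {G : Type*} [Group G] {D : Set G} (hiso : ModelIso G D) :
    ∃ (s : MulAut G) (a b : G) (Cs : Subgroup G), orderOf s = 2 ∧ s ∉ (MulAut.conj : G →* MulAut G).range ∧ (∀ g : G, g ∈ Cs ↔ s g = g) ∧ Nonempty (↥Cs ≃* MulAut (Cfsg.Omega (ZMod 2) (Cfsg.quadFormPlus 4 (ZMod 2)))) ∧ a ∈ D ∧ b ∈ D ∧ a ≠ b ∧ Commute a b ∧ s a = a ∧ s b = b ∧ (∀ t : MulAut G, orderOf t = 2 → t ∉ (MulAut.conj : G →* MulAut G).range → (IsConj t s ∨ IsConj t (s * MulAut.conj a) ∨ IsConj t (s * MulAut.conj (a * b)))) ∧ ¬ IsConj s (s * MulAut.conj a) ∧ ¬ IsConj s (s * MulAut.conj (a * b)) ∧ ¬ IsConj (s * MulAut.conj a) (s * MulAut.conj (a * b)) ∧ (∀ g : G, (s * MulAut.conj a) g = g ↔ g ∈ Cs ⊓ Subgroup.centralizer ({a} : Set G)) ∧ Nonempty (↥(Cs ⊓ Subgroup.centralizer ({a} : Set G)) ≃* Multiplicative (ZMod 2) × Cfsg.PSp 3 (ZMod 2)) ∧ ∃ Csab O :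 Subgroup G, (∀ g : G, g ∈ Csab ↔ (s * MulAut.conj (a * b)) g = g) ∧ O = (Cfsg.pCore 2 ↥Csab).map Csab.subtype ∧ Cfsg.IsElementaryAbelian 2 O ∧ Nat.card O = 64 ∧ ∃ _ : (O.subgroupOf Csab).Normal, Nonempty (↥Csab ⧸ O.subgroupOf Csab ≃* Cfsg.isometryGroup (ZMod 2) (Cfsg.quadFormMinus 2 (ZMod 2) 1 1)) := by
  obtain ⟨e, he⟩ := hiso
  set E : MulAut G ≃* MulAut Fi22 := MulAut.congr e with hE
  have hEap : ∀ (t : MulAut G) (g : G), E t (e g) = e (t g) := fun t g => by simp [E]
  have hEconj : ∀ x : G, E (MulAut.conj x) = MulAut.conj (e x) := fun x =>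
    MulEquiv.ext fun z => by simp [E]
  have hout : ∀ t : MulAut G, t ∈ (MulAut.conj : G →* MulAut G).range ↔
      E t ∈ (MulAut.conj : Fi22 →* MulAut Fi22).range := fun t => by
    constructor
    · rintro ⟨x, rfl⟩
      exact ⟨e x, (hEconj x).symm⟩
    · rintro ⟨y, hy⟩
      exact ⟨e.symm y, E.injective (by rw [hEconj, e.apply_symm_apply, hy])⟩
  have hfix : ∀ (t : MulAut G) (T : MulAut Fi22), E t = T → ∀ g, t g = g ↔ T (e g) = e g := fun t T h g => by
    rw [← h, hEap, e.injective.eq_iff]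
  have hconj : ∀ t u : MulAut G, IsConj t u ↔ IsConj (E t) (E u) := fun t u =>
    ⟨fun h => E.toMonoidHom.map_isConj h, fun h => by simpa using E.symm.toMonoidHom.map_isConj h⟩
  set s : MulAut G := E.symm sym with hs
  set a : G := e.symm aT with ha
  set b : G := e.symm bT with hb
  have hs' : E s = sym := E.apply_symm_apply _
  have ha' : e a = aT := e.apply_symm_apply _
  have hb' : e b = bT := e.apply_symm_apply _
  have hsa : E (s * MulAut.conj a) = ev BoundSa.tau := by rw [map_mul, hs', hEconj, ha', ev_tauSa]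
  have hsab : E (s * MulAut.conj (a * b)) = ev BoundSab.tau := by
    rw [map_mul, hs', hEconj, map_mul, ha', hb', ev_tauSab]
  have hsS : E s = ev BoundS.tau := by rw [hs', ev_tauS]
  let Cs' : Subgroup G := Cs.comap e.toMonoidHom
  let Cab' : Subgroup G := Cab.comap e.toMonoidHom
  let O' : Subgroup G := O6.comap e.toMonoidHom
  have hCs : ∀ g : G, g ∈ Cs' ↔ s g = g := fun g => (hfix s _ hsS g).symm
  have haD : a ∈ D := by rw [mem_iff_of_image e he, ha', aT]; exact dp_mem_classTr _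
  have hbD : b ∈ D := by rw [mem_iff_of_image e he, hb', bT, gen_eq_dp 8 (by norm_num)]; exact dp_mem_classTr _
  have hCa : Cs' ⊓ centralizer ({a} : Set G) = Ca.comap e.toMonoidHom := by
    ext g
    simp only [mem_inf, mem_comap, Cs', MulEquiv.coe_toMonoidHom, mem_centralizer_singleton_iff, ← ha', ← map_mul,
      e.injective.eq_iff]
  have comapEq : ∀ H : Subgroup Fi22, Nonempty (↥(H.comap e.toMonoidHom) ≃* ↥H) := fun H =>
    ⟨comapIso e H⟩
  have hne : ∀ {t u : MulAut G} {T U : MulAut Fi22} {m n : ℕ}, E t = T → E u = U → Nat.card (fixSub T) = m →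
      Nat.card (fixSub U) = n → m ≠ n → ¬ IsConj t u := by
    intro t u T U m n h1 h2 h3 h4 h5 h
    exact h5 (h3.symm.trans ((card_fix_of_conj (h1 ▸ h2 ▸ (hconj t u).1 h)).trans h4))
  refine ⟨s, a, b, Cs', ?_, ?_, hCs, ?_, haD, hbD, ?_, ?_, ?_, ?_, ?_, ?_, ?_, ?_, ?_, ?_, Cab', O', ?_, ?_⟩
  · refine orderOf_eq_prime (p := 2) (E.injective ?_) fun h => ?_
    · rw [map_pow, hs', map_one, pow_two, TwoCentral.sym_mul_self]
    · exact sym_not_inner ⟨1, by rw [map_one, ← hs', h, map_one]⟩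
  · rw [hout, hs']
    exact sym_not_inner
  · obtain ⟨i1⟩ := comapEq Cs
    obtain ⟨i2⟩ := nonempty_mulAut
    exact ⟨i1.trans i2⟩
  · exact fun h => aT_ne_bT (by rw [← ha', ← hb', h])
  · rw [← commute_iff e, ha', hb']
    exact gen38_comm
  · rw [hfix s _ hsS, ha', ← mem_fixSub]
    exact aT_mem
  · rw [hfix s _ hs', hb']
    exact sym_bT
  · intro t ht2 hto
    obtain ⟨i, hi, hc⟩ := classes (E t) (by rw [MulEquiv.orderOf_eq]; exact ht2) (fun h => hto ((hout t).2 h))
    rw [hconj, hconj, hconj, hsS, hsa, hsab]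
    rcases i with - | - | - | i
    exacts [Or.inl hc, Or.inr (Or.inl hc), Or.inr (Or.inr hc), absurd hi (by omega)]
  · exact hne hsS hsa card_Cs (fixSa_eq ▸ card_Ca) (by norm_num)
  · exact hne hsS hsab card_Cs card_Cab (by norm_num)
  · exact hne hsa hsab (fixSa_eq ▸ card_Ca) card_Cab (by norm_num)
  · intro g
    rw [hCa, hfix _ _ hsa, ← mem_fixSub, fixSa_eq]
    rfl
  · rw [hCa]
    obtain ⟨i1⟩ := comapEq Ca
    obtain ⟨i2⟩ := nonempty_Ca
    exact ⟨i1.trans i2⟩
  · exact fun g => (hfix _ _ hsab g).symm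
  · obtain ⟨hn, hcore, ⟨q⟩⟩ := pCore_Cab
    set i1 : ↥Cab' ≃* ↥Cab := comapIso e Cab with hi1
    have hOle : O' ≤ Cab' := comap_mono O6_le_Cab
    have hcomap : O'.subgroupOf Cab' = (O6.subgroupOf Cab).comap i1.toMonoidHom := rfl
    have hpc : Cfsg.pCore 2 ↥Cab = O6.subgroupOf Cab := by
      rw [hcore, subgroupOf, comap_map_eq_self_of_injective Cab.subtype_injective]
    have himg : (O'.subgroupOf Cab').map i1.toMonoidHom = O6.subgroupOf Cab := by
      rw [hcomap, map_comap_eq_self_of_surjective (f := i1.toMonoidHom) i1.surjective]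
    have hpc' : Cfsg.pCore 2 ↥Cab' = O'.subgroupOf Cab' :=
      map_injective (f := i1.toMonoidHom) i1.injective (by rw [map_pCore, himg, hpc])
    haveI hn' : (O'.subgroupOf Cab').Normal := hcomap ▸ hn.comap _
    refine ⟨?_, ⟨⟨⟨fun x y => ?_⟩⟩, fun x hx => ?_⟩, ?_, hn', ⟨(QuotientGroup.congr _ _ i1 himg).trans q⟩⟩
    · rw [hpc', subgroupOf_map_subtype, inf_eq_left.2 hOle]
    · have h := O6_elementary.1.is_comm.comm ⟨e x.1, x.2⟩ ⟨e y.1, y.2⟩
      exact Subtype.ext (e.injective (by simpa using congrArg Subtype.val h))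
    · exact e.injective (by rw [map_pow, map_one]; exact O6_elementary.2 _ hx)
    · rw [Nat.card_congr (comapIso e O6).toEquiv, structure6.2.2.1]

end CfsgLib.Sporadic.FiTransfer.Outer
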