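import Cfsg.Agent.Lib.Sporadic.FiTransfer.Outer.Checks
import Cfsg.Agent.Lib.Orth.Witt
import Cfsg.Agent.Lib.Classical.OrthApps

/-!
The orthogonal group over two elements on the non-singular vectors, which are centres of transvections.
-/

set_option autoImplicit false

open QuadraticMap

namespace CfsgLib.Sporadic.FiTransfer.Outer

open CfsgLib.Orth

variable {ι : Type} [Fintype ι] [DecidableEq ι] (Q : QuadraticForm (ZMod 2) (ι → ZMod 2)) {n : ℕ}
  (vec : Fin n → ι → ZMod 2)

/-- The non-singular vectors are numbered and span. -/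
structure VecData : Prop where
  quad : ∀ i, Q (vec i) = 1
  inj : Function.Injective vec
  cover : ∀ v, Q v = 1 → ∃ i, vec i = v
  spans : ∀ e : ι, ∃ i j, vec i + vec j = Pi.single e 1

variable {Q vec} (h : VecData Q vec)

include h

/-- The number of the image of a numbered vector. -/
noncomputable def VecData.mv (g : orthGroup Q) (i : Fin n) : Fin n :=
  (h.cover (g.1 (vec i)) (by rw [apply_quad, h.quad])).choose

theorem VecData.vec_mv (g : orthGroup Q) (i : Fin n) : vec (h.mv g i) = g.1 (vec i) :=
  (h.cover (g.1 (vec i)) (by rw [apply_quad, h.quad])).choose_spec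

theorem VecData.mv_mul (g k : orthGroup Q) (i : Fin n) : h.mv (g * k) i = h.mv g (h.mv k i) :=
  h.inj (by rw [h.vec_mv, h.vec_mv, h.vec_mv]; rfl)

theorem VecData.mv_one (i : Fin n) : h.mv 1 i = i := h.inj (by rw [h.vec_mv]; rfl)

/-- The action on the non-singular vectors. -/
noncomputable def VecData.act : orthGroup Q →* Equiv.Perm (Fin n) where
  toFun g :=
    { toFun := h.mv g
      invFun := h.mv g⁻¹
      left_inv := fun i => by rw [← h.mv_mul, inv_mul_cancel, h.mv_one]
      right_inv := fun i => by rw [← h.mv_mul, mul_inv_cancel, h.mv_one] }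
  map_one' := Equiv.ext h.mv_one
  map_mul' g k := Equiv.ext (h.mv_mul g k)

theorem VecData.vec_act (g : orthGroup Q) (i : Fin n) : vec (h.act g i) = g.1 (vec i) := h.vec_mv g i

theorem VecData.act_injective : Function.Injective h.act := by
  rw [injective_iff_map_eq_one]
  intro g hg
  have hfix : ∀ i, g.1 (vec i) = vec i := fun i => by rw [← h.vec_act, hg, Equiv.Perm.one_apply]
  refine Subtype.ext (LinearEquiv.ext fun v => ?_)
  show g.1 v = v
  rw [pi_eq_sum_univ' v, map_sum]
  refine Finset.sum_congr rfl fun e _ => ?_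
  obtain ⟨i, j, hij⟩ := h.spans e
  rw [map_smul, ← hij, map_add, hfix, hfix]

theorem VecData.act_range (hgen : reflGroup Q = ⊤) {c : Fin n → Equiv.Perm (Fin n)}
    (hc : ∀ v i, vec (c v i) = (refl Q (vec v)).1 (vec i)) : h.act.range = Subgroup.closure (Set.range c) := by
  have hcv : ∀ v, h.act (refl Q (vec v)) = c v := fun v => Equiv.ext fun i => h.inj (by rw [h.vec_act, hc])
  rw [MonoidHom.range_eq_map, ← hgen, reflGroup, MonoidHom.map_closure]
  apply le_antisymm <;> rw [Subgroup.closure_le]
  · rintro _ ⟨_, ⟨a, rfl⟩, rfl⟩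
    by_cases ha : Q a = 1
    · obtain ⟨v, rfl⟩ := h.cover a ha
      exact Subgroup.subset_closure ⟨v, (hcv v).symm⟩
    · have h0 : Q a = 0 := by
        have key : ∀ t : ZMod 2, t ≠ 1 → t = 0 := by decide
        exact key _ ha
      rw [show refl Q a = 1 from Subtype.ext (LinearEquiv.ext fun v => by
        rw [refl_apply, h0, inv_zero, zero_mul, zero_smul, sub_zero]; rfl), map_one]
      exact one_mem _
  · rintro _ ⟨v, rfl⟩
    exact Subgroup.subset_closure ⟨_, ⟨vec v, rfl⟩, hcv v⟩

/-- An element commuting with all transvections is trivial. -/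
theorem VecData.eq_one_of_commute (hQ : (polarBilin Q).Nondegenerate) {z : orthGroup Q}
    (hz : ∀ v, z * refl Q (vec v) = refl Q (vec v) * z) : z = 1 := by
  refine h.act_injective (Equiv.ext fun i => ?_)
  rw [map_one, Equiv.Perm.one_apply]
  have h1 : refl Q (vec (h.act z i)) = refl Q (vec i) := by
    rw [h.vec_act, ← conj_refl, hz, mul_inv_cancel_right]
  refine h.inj ?_
  by_contra hne
  have hbin : ∀ t : ZMod 2, t = 0 ∨ t = 1 := by decide
  have hne0 : vec i ≠ 0 := fun e => by
    have := h.quad i
    rw [e, QuadraticMap.map_zero] at this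
    exact zero_ne_one this
  have hne1 : vec (h.act z i) ≠ 0 := fun e => by
    have := h.quad (h.act z i)
    rw [e, QuadraticMap.map_zero] at this
    exact zero_ne_one this
  have hall : ∀ v, polar Q (vec i) v = 0 := by
    intro v
    have e := congrArg (fun r : orthGroup Q => r.1 v) h1
    simp only [refl_apply, h.quad, inv_one, one_mul, sub_right_inj] at e
    rcases hbin (polar Q (vec i) v) with p | p
    · exact p
    · exfalso
      rw [p, one_smul] at e
      rcases hbin (polar Q (vec (h.act z i)) v) with q | q <;> rw [q] at e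
      · rw [zero_smul] at e
        exact hne0 e.symm
      · rw [one_smul] at e
        exact hne e
  exact hne0 (hQ.1 (vec i) fun v => hall v)

end CfsgLib.Sporadic.FiTransfer.Outer

namespace CfsgLib.Sporadic.FiTransfer.Outer

/-- Induction along a checked search. -/
theorem searchInd {n ng : ℕ} {row : ℕ → ℕ → ℕ} {P : ℕ → Prop}
    (hstep : ∀ p k, p < n → k < ng → P p → P (row k p)) :
    ∀ (steps : List (ℕ × ℕ × ℕ)) (seen : List ℕ), searchK n row ng steps seen = true →
      (∀ p ∈ seen, P p) → (∀ p ∈ seen, p < n) → ∀ p < n, P p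
  | [], seen, h, hs, _, p, hp => hs p (List.contains_iff_mem.1 (List.all_eq_true.1 h p (List.mem_range.2 hp)))
  | s :: r, seen, h, hs, ht, p, hp => by
    simp only [searchK, Bool.and_eq_true] at h
    obtain ⟨⟨⟨⟨h1, h2⟩, h3⟩, hlt⟩, h4⟩ := h
    have h1' : s.2.1 < seen.length := Nat.le_of_ble_eq_true h1
    rw [List.getD_eq_getElem _ _ h1'] at h3
    refine searchInd hstep r _ h4 (fun q hq => ?_) (fun q hq => ?_) p hp
    · rcases List.mem_append.1 hq with hq | hq
      · exact hs q hq
      · rw [List.mem_singleton] at hq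
        subst hq
        rw [← Nat.eq_of_beq_eq_true h3]
        exact hstep _ _ (ht _ (List.getElem_mem h1')) (Nat.le_of_ble_eq_true h2) (hs _ (List.getElem_mem h1'))
    · rcases List.mem_append.1 hq with hq | hq
      · exact ht q hq
      · rw [List.mem_singleton] at hq
        subst hq
        exact Nat.le_of_ble_eq_true hlt

end CfsgLib.Sporadic.FiTransfer.Outer
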