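import Cfsg.Agent.Lib.Sporadic.FiTransfer.Outer.Checks
import Cfsg.Agent.Lib.Sporadic.FiTransfer.Outer.Transv
import Cfsg.Agent.Lib.Sporadic.Co2Centralizer

/-!
The 120 non-singular vectors in dimension eight and the 36 in dimension six, numbered by the data.
-/

set_option autoImplicit false
set_option maxRecDepth 100000

open QuadraticMap

namespace CfsgLib.Sporadic.FiTransfer.Outer

open CfsgLib.Orth
open CfsgLib.Sporadic.LeechE8Data CfsgLib.Sporadic.LeechE8

/-- A bit in the field of two elements. -/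
def bit2 (c i : ℕ) : ZMod 2 := if Nat.testBit c i then 1 else 0

theorem bit2_xor (a b i : ℕ) : bit2 (Nat.xor a b) i = bit2 a i + bit2 b i := by
  show bit2 (a ^^^ b) i = _
  simp only [bit2, Nat.testBit_xor]
  cases Nat.testBit a i <;> cases Nat.testBit b i <;> decide

/-- The vector of a code in dimension eight. -/
def ofCode8 (c : ℕ) : J8 → ZMod 2 := Sum.elim (fun i => bit2 c i.1) fun i => bit2 c (i.1 + 4)

theorem ofCode8_xor (a b : ℕ) : ofCode8 (Nat.xor a b) = ofCode8 a + ofCode8 b := by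
  funext j
  rcases j with i | i <;> exact bit2_xor a b _

/-- The numbered vectors in dimension eight. -/
def vec8 (v : Fin 120) : J8 → ZMod 2 := ofCode8 (vCodes.getD v 0)

theorem vec8_quad' : ∀ v : Fin 120, Cfsg.quadFormPlus 4 (ZMod 2) (vec8 v) = 1 := by decide +kernel

theorem vec8_codes : vCodes.Nodup ∧ vCodes.length = 120 ∧ ∀ c ∈ vCodes, c < 256 := by decide +kernel

theorem cover8 : ∀ n : Fin 256, Cfsg.quadFormPlus 4 (ZMod 2) (ofCode8 n) = 1 → (n : ℕ) ∈ vCodes := by
  decide +kernel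

theorem code8_inj : ∀ n : Fin 256, ((List.range 8).foldl (fun acc i => acc + 2 ^ i *
    (Sum.elim (fun k : Fin 4 => ofCode8 n (.inl k)) (fun k : Fin 4 => ofCode8 n (.inr k))
      (if h : i < 4 then .inl ⟨i, h⟩ else .inr ⟨i % 4, Nat.mod_lt _ (by norm_num)⟩)).val) 0) = (n : ℕ) := by
  decide +kernel

theorem ofCode8_injective : Function.Injective fun n : Fin 256 => ofCode8 n := by
  intro a b e
  refine Fin.ext ?_
  rw [← code8_inj a, ← code8_inj b]
  simp only at e
  simp only [e]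

theorem ofCode8_surjective (v : J8 → ZMod 2) : ∃ n : Fin 256, ofCode8 n = v := by
  have h : Function.Bijective fun n : Fin 256 => ofCode8 n :=
    (Fintype.bijective_iff_injective_and_card _).2 ⟨ofCode8_injective, by simp⟩
  exact h.2 v

theorem vec8_injective : Function.Injective vec8 := by
  intro a b e
  obtain ⟨hnd, hlen, hlt⟩ := vec8_codes
  have ha : (a : ℕ) < vCodes.length := hlen.symm ▸ a.2
  have hb : (b : ℕ) < vCodes.length := hlen.symm ▸ b.2
  simp only [vec8, List.getD_eq_getElem _ _ ha, List.getD_eq_getElem _ _ hb] at e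
  have := @ofCode8_injective ⟨_, hlt _ (List.getElem_mem ha)⟩ ⟨_, hlt _ (List.getElem_mem hb)⟩ e
  exact Fin.ext ((hnd.getElem_inj_iff).1 (congrArg Fin.val this))

theorem spans8 : ∀ e : Fin 8, ∃ i j : Fin 120, Nat.xor (vCodes.getD i 0) (vCodes.getD j 0) = 2 ^ (e : ℕ) := by
  decide +kernel

theorem single8 : ∀ e : J8, ofCode8 (2 ^ (Sum.elim (fun i : Fin 4 => (i : ℕ)) (fun i : Fin 4 => (i : ℕ) + 4) e)) = Pi.single e 1 := by
  decide +kernel

theorem vecData8 : VecData Q8 vec8 where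
  quad v := by rw [← plusForm_apply]; exact vec8_quad' v
  inj := vec8_injective
  cover v hv := by
    obtain ⟨n, rfl⟩ := ofCode8_surjective v
    rw [← plusForm_apply] at hv
    obtain ⟨i, hi, e⟩ := List.mem_iff_getElem.1 (cover8 n hv)
    exact ⟨⟨i, vec8_codes.2.1 ▸ hi⟩, by rw [vec8, List.getD_eq_getElem _ _ hi, e]⟩
  spans e := by
    have hlt : (Sum.elim (fun i : Fin 4 => (i : ℕ)) (fun i : Fin 4 => (i : ℕ) + 4) e) < 8 := by
      rcases e with i | i <;> simp <;> omega
    obtain ⟨i, j, h⟩ := spans8 ⟨_, hlt⟩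
    exact ⟨i, j, by rw [vec8, vec8, ← ofCode8_xor, h, single8]⟩

theorem vec8_zero : vec8 ⟨0, by norm_num⟩ = Co2Centralizer.u8 := by decide +kernel

theorem pol8_eq : ∀ k : Fin 8, ∀ v : Fin 120,
    (pol8 (vCodes.getD (gIx8.getD k 0) 0) (vCodes.getD v 0) : ZMod 2) =
      ∑ j : J8, ofCode8 (vCodes.getD (gIx8.getD k 0) 0) j * vec8 v j.swap := by
  decide +kernel

theorem refl8_apply {a x : J8 → ZMod 2} (ha : Q8 a = 1) :
    (refl Q8 a).1 x = x + (∑ j, a j * x j.swap) • a := by
  rw [refl_apply, ha, inv_one, one_mul, polar, plus_polar, CharTwo.sub_eq_add]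
  congr 2
  abel

theorem pol8_lt (a b : ℕ) : pol8 a b = 0 ∨ pol8 a b = 1 := by
  have : pol8 a b < 2 := Nat.mod_lt _ (by norm_num)
  omega

theorem transv8_row (k : Fin 8) (g : Fin 120) (hg : gIx8.getD k 0 = (g : ℕ)) (v : Fin 120) :
    ∃ h : row8 k v < 120, vecData8.act (refl Q8 (vec8 g)) v = ⟨row8 k v, h⟩ := by
  have hK := List.all_eq_true.1 (List.all_eq_true.1 transv8_ok k.1 (List.mem_range.2 k.2)) v.1
    (List.mem_range.2 v.2)
  simp only [Bool.and_eq_true] at hK
  obtain ⟨h1, h2⟩ := hK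
  refine ⟨Nat.le_of_ble_eq_true h1, vec8_injective ?_⟩
  rw [vecData8.vec_act, refl8_apply (vecData8.quad g)]
  have hp := pol8_eq k v
  have h2' := Nat.eq_of_beq_eq_true h2
  simp only [vec8, hg] at hp h2' ⊢
  rw [← hp, h2']
  rcases pol8_lt (vCodes.getD g 0) (vCodes.getD v 0) with e | e <;> rw [e]
  · rw [Nat.cast_zero, zero_smul, add_zero]
    rfl
  · rw [Nat.cast_one, one_smul, show Nat.beq 1 1 = true from rfl, cond_true, ofCode8_xor]

end CfsgLib.Sporadic.FiTransfer.Outer
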