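import Cfsg.Agent.Lib.Sporadic.FiTransfer.Outer.Checks
import Cfsg.Agent.Lib.Sporadic.FiTransfer.Outer.Transv
import Cfsg.Agent.Lib.Sporadic.FiTransfer.Outer.Orth8
import Cfsg.Agent.Lib.Classical.OrthPOmega
import Cfsg.Agent.Lib.Classical.OrthSimple
import Cfsg.Agent.Lib.Classical.OrthCount

/-!
The 36 non-singular vectors of the orthogonal space of minus type in dimension six.
-/

set_option autoImplicit false
set_option maxRecDepth 100000

open QuadraticMap

namespace CfsgLib.Sporadic.FiTransfer.Outer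

open CfsgLib.Orth

/-- The index set in dimension six. -/
abbrev I6 : Type := (Fin 2 ⊕ Fin 2) ⊕ Fin 2

/-- The quadratic form of minus type. -/
noncomputable abbrev Qm : QuadraticForm (ZMod 2) (I6 → ZMod 2) := minusForm (ZMod 2) 2 1 1

/-- The bit of a coordinate. -/
def num6 : I6 → ℕ :=
  Sum.elim (Sum.elim (fun i : Fin 2 => (i : ℕ)) fun i : Fin 2 => (i : ℕ) + 2) fun i : Fin 2 => (i : ℕ) + 4

/-- The vector of a code in dimension six. -/
def ofCode6 (c : ℕ) : I6 → ZMod 2 := fun j => bit2 c (num6 j)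

theorem ofCode6_xor (a b : ℕ) : ofCode6 (Nat.xor a b) = ofCode6 a + ofCode6 b := funext fun _ => bit2_xor a b _

/-- The numbered vectors in dimension six. -/
def vec6 (v : Fin 36) : I6 → ZMod 2 := ofCode6 (bCodes.getD v 0)

theorem vec6_quad' : ∀ v : Fin 36, Cfsg.quadFormMinus 2 (ZMod 2) 1 1 (vec6 v) = 1 := by decide +kernel

theorem vec6_inj' : ∀ a b : Fin 36, (∀ j, vec6 a j = vec6 b j) → a = b := by decide +kernel

theorem ofCode6_inj' : ∀ a b : Fin 64, (∀ j, ofCode6 a j = ofCode6 b j) → a = b := by decide +kernel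

theorem cover6 : ∀ n : Fin 64, Cfsg.quadFormMinus 2 (ZMod 2) 1 1 (ofCode6 n) = 1 → (n : ℕ) ∈ bCodes := by
  decide +kernel

theorem bCodes_len : bCodes.length = 36 := by decide +kernel

theorem spans6 : ∀ e : I6, ∃ i j : Fin 36, ∀ k, vec6 i k + vec6 j k = if k = e then 1 else 0 := by decide +kernel

theorem vecData6 : VecData Qm vec6 where
  quad v := by rw [← minusForm_apply]; exact vec6_quad' v
  inj a b e := vec6_inj' a b fun j => congrFun e j
  cover v hv := by
    have h : Function.Bijective fun n : Fin 64 => ofCode6 n :=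
      (Fintype.bijective_iff_injective_and_card _).2 ⟨fun a b e => ofCode6_inj' a b fun j => congrFun e j, by simp⟩
    obtain ⟨n, rfl⟩ := h.2 v
    rw [← minusForm_apply] at hv
    obtain ⟨i, hi, e⟩ := List.mem_iff_getElem.1 (cover6 n hv)
    exact ⟨⟨i, bCodes_len ▸ hi⟩, by rw [vec6, List.getD_eq_getElem _ _ hi, e]⟩
  spans e := by
    obtain ⟨i, j, h⟩ := spans6 e
    exact ⟨i, j, funext fun k => by rw [Pi.add_apply, h, Pi.single_apply]⟩

/-- The polar form in dimension six by hand. -/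
def dot6m (x y : I6 → ZMod 2) : ZMod 2 :=
  (∑ i : Fin 2, (x (.inl (.inl i)) * y (.inl (.inr i)) + x (.inl (.inr i)) * y (.inl (.inl i)))) +
    (x (.inr 0) * y (.inr 1) + x (.inr 1) * y (.inr 0))

theorem polar6 (x y : I6 → ZMod 2) : polar Qm x y = dot6m x y := by
  have h2 : (2 : ZMod 2) = 0 := rfl
  simp only [polar, ← minusForm_apply, Cfsg.quadFormMinus, dot6m, Pi.add_apply, Fin.sum_univ_two]
  linear_combination (x (.inr 0) * y (.inr 0) + x (.inr 1) * y (.inr 1)) * h2

theorem refl6_apply {a x : I6 → ZMod 2} (ha : Qm a = 1) : (refl Qm a).1 x = x + dot6m a x • a := by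
  rw [refl_apply, ha, inv_one, one_mul, polar6, CharTwo.sub_eq_add]

theorem pol6_eq : ∀ k : Fin 6, ∀ v : Fin 36, (pol6 (bCodes.getD (gIx6.getD k 0) 0) (bCodes.getD v 0) : ZMod 2) =
    dot6m (ofCode6 (bCodes.getD (gIx6.getD k 0) 0)) (vec6 v) := by
  decide +kernel

theorem transv6_row (k : Fin 6) (g : Fin 36) (hg : gIx6.getD k 0 = (g : ℕ)) (v : Fin 36) :
    ∃ h : row6 k v < 36, vecData6.act (refl Qm (vec6 g)) v = ⟨row6 k v, h⟩ := by
  have hK := List.all_eq_true.1 (List.all_eq_true.1 transv6_ok k.1 (List.mem_range.2 k.2)) v.1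
    (List.mem_range.2 v.2)
  simp only [Bool.and_eq_true] at hK
  obtain ⟨⟨h1, -⟩, h2⟩ := hK
  refine ⟨Nat.le_of_ble_eq_true h1, vecData6.inj ?_⟩
  rw [vecData6.vec_act, refl6_apply (vecData6.quad g)]
  have hp := pol6_eq k v
  have h2' := Nat.eq_of_beq_eq_true h2
  simp only [vec6, hg] at hp h2' ⊢
  rw [← hp, h2']
  have hlt : pol6 (bCodes.getD g 0) (bCodes.getD v 0) < 2 := Nat.mod_lt _ (by norm_num)
  rcases (show pol6 (bCodes.getD g 0) (bCodes.getD v 0) = 0 ∨ pol6 (bCodes.getD g 0) (bCodes.getD v 0) = 1 by omega)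
    with e | e <;> rw [e]
  · rw [Nat.cast_zero, zero_smul, add_zero]
    rfl
  · rw [Nat.cast_one, one_smul, show Nat.beq 1 1 = true from rfl, cond_true, ofCode6_xor]

theorem anisotropic11 : ∀ a b : ZMod 2, a ^ 2 + 1 * a * b + 1 * b ^ 2 = 0 → a = 0 ∧ b = 0 := by decide

theorem nondeg6 : (polarBilin Qm).Nondegenerate := minusForm_nondeg 2 1 1 anisotropic11

theorem good6 : Good (ZMod 2) (I6 → ZMod 2) := Or.inr (by rw [Module.finrank_fintype_fun_eq_card]; decide)

theorem card_orth6 : Nat.card (orthGroup Qm) = 51840 := by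
  rw [CfsgLib.Classical.card_orth_minus (q := 2) (ZMod.card 2) 1 1 anisotropic11 2]
  norm_num [Finset.prod_range_succ]

theorem card_comm6 : Nat.card ↥(commutator (orthGroup Qm)) = 25920 := by
  have hi := CfsgLib.Classical.index_commutator_two nondeg6 good6
    (by rw [Module.finrank_fintype_fun_eq_card]; decide)
  have h := (commutator (orthGroup Qm)).card_mul_index
  rw [hi, card_orth6] at h
  omega

theorem simple_comm6 : IsSimpleGroup ↥(commutator (orthGroup Qm)) := by
  have hp : CfsgLib.Classical.HypPairs Qm := CfsgLib.Classical.hypPairs_minus 2 le_rfl 1 1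
  have hn : 5 ≤ Module.finrank (ZMod 2) (I6 → ZMod 2) := by rw [Module.finrank_fintype_fun_eq_card]; decide
  have hs := CfsgLib.Classical.commutator_quotient_simple nondeg6 good6 hp hn
  have hb : Subgroup.center ↥(commutator (orthGroup Qm)) = ⊥ :=
    Subgroup.eq_bot_of_card_eq _ (CfsgLib.Classical.card_center_two (Q := Qm) nondeg6 good6 (by omega) hp)
  exact ((QuotientGroup.quotientMulEquivOfEq hb).trans QuotientGroup.quotientBot).symm.isSimpleGroup

theorem eq_bot_of_two_group (N : Subgroup (orthGroup Qm)) [N.Normal] (h : IsPGroup 2 N) : N = ⊥ := by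
  classical
  haveI : Finite (orthGroup Qm) := Nat.finite_of_card_ne_zero (by rw [card_orth6]; norm_num)
  haveI : Fact (Nat.Prime 2) := ⟨Nat.prime_two⟩
  haveI := simple_comm6
  set C6 := commutator (orthGroup Qm) with hC6
  rcases Subgroup.Normal.eq_bot_or_eq_top (inferInstance : (N.subgroupOf C6).Normal) with e | e
  · have hdis : Disjoint N C6 := Subgroup.subgroupOf_eq_bot.1 e
    rw [Subgroup.eq_bot_iff_forall]
    intro n hn
    refine vecData6.eq_one_of_commute nondeg6 fun v => ?_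
    have hcomm : n * refl Qm (vec6 v) * n⁻¹ * (refl Qm (vec6 v))⁻¹ = 1 := by
      refine Subgroup.mem_bot.1 (hdis.le_bot ⟨?_, ?_⟩)
      · rw [mul_assoc, mul_assoc, ← mul_assoc (refl Qm (vec6 v))]
        exact mul_mem hn ((inferInstance : N.Normal).conj_mem _ (inv_mem hn) _)
      · rw [hC6, _root_.commutator_def, ← commutatorElement_def]
        exact Subgroup.commutator_mem_commutator (Subgroup.mem_top _) (Subgroup.mem_top _)
    exact mul_inv_eq_iff_eq_mul.1 (mul_inv_eq_one.1 hcomm)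
  · exfalso
    have hle : C6 ≤ N := Subgroup.subgroupOf_eq_top.1 e
    obtain ⟨k, hk⟩ := (h.to_le hle).exists_card_eq
    rw [card_comm6] at hk
    have h5 : 5 ∣ 2 ^ k := hk ▸ (by norm_num : (5 : ℕ) ∣ 25920)
    exact absurd (Nat.Prime.dvd_of_dvd_pow Nat.prime_five h5) (by norm_num)

end CfsgLib.Sporadic.FiTransfer.Outer
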