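import Cfsg.Agent.Lib.Sporadic.FiTransfer.TwoCentral.Perm

/-!
Certificates bounding the centraliser of an element of the automorphism group of Fi22.

A program builds sets of points which are invariant under the automorphisms commuting with the given
element and fixing the points recorded so far, and uses them to bound orbits along a chain of stabilisers.
-/

set_option autoImplicit false
set_option maxRecDepth 100000

open Cfsg.Spor

namespace CfsgLib.Sporadic.FiTransfer.Outer

open CosetCert CosetCert.FiP CosetCert.FiP.OutFi22 TwoCentral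
open CosetCert.FiData (table)

attribute [local irreducible] PTab.img symAt

/-- The entry of a packed permutation of the points. -/
noncomputable def lk (P : List ℕ) (v : ℕ) : ℕ :=
  Nat.mod (Nat.shiftRight (P.getD (Nat.div v 64) 0) (Nat.mul 12 (Nat.mod v 64))) 4096

/-- A tabulated permutation: point, half of its word, table. -/
abbrev Phi : Type := ℕ × (List ℕ × ℕ) × List ℕ

/-- The table of a flagged word is right. -/
noncomputable def tabK (e : Bool × List ℕ) (P : List ℕ) : Bool :=
  (List.range 3510).all fun v => Nat.beq (lk P v) (app e v)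

/-- The tables of transpositions are right. -/
noncomputable def phiK (f : Phi) : Bool :=
  Nat.blt f.1 3510 && halfK f.1 f.2.1 && tabK (false, fullWord f.2.1) f.2.2

/-- Commands of a certificate. -/
inductive Cmd where
  /-- The fixed points of a map. -/
  | fixm (f m : ℕ)
  /-- A recorded point alone. -/
  | single (b : ℕ)
  /-- The complement. -/
  | compl (i m : ℕ)
  /-- An intersection. -/
  | inter (i j m : ℕ)
  /-- A difference. -/
  | sdiff (i j m : ℕ)
  /-- Intersection with an inverse image. -/
  | pull (f i j m : ℕ) (l : List ℕ)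
  /-- The members of a set fixed by the transpositions of another one, with half words of those. -/
  | common (i j m : ℕ) (hs : List (ℕ × List ℕ × ℕ))
  /-- A point alone in its set is recorded. -/
  | pin (b i : ℕ)
  /-- A new base point, with the size of its set. -/
  | level (b i c : ℕ)

variable (τT : List ℕ) (phis : List Phi)

/-- A map may be used. -/
def useK (pts : List ℕ) (f : ℕ) : Bool :=
  Nat.beq f 0 || (Nat.blt (f - 1) phis.length && pts.contains (phis.getD (f - 1) (3510, ([], 0), [])).1)

/-- The table of a map. -/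
def tabOf (f : ℕ) : List ℕ := bif Nat.beq f 0 then τT else (phis.getD (f - 1) (3510, ([], 0), [])).2.2

/-- Two sets agree on the points. -/
noncomputable def sameBits (m : ℕ) (g : ℕ → Bool) : Bool :=
  (List.range 3510).all fun v => (Nat.testBit m v).xor (!(g v))

/-- The number of points in a set. -/
noncomputable def countB (m : ℕ) : ℕ :=
  Nat.rec 0 (fun v ih => bif Nat.testBit m v then Nat.succ ih else ih) 3510

/-- The members of a set fixed by the listed words. -/
noncomputable def commonK (mi mj m : ℕ) (hs : List (ℕ × List ℕ × ℕ)) : Bool :=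
  (hs.all fun h => Nat.blt h.1 3510 && halfK h.1 h.2 && Nat.testBit mi h.1) &&
    ((List.range 3510).all fun y => !(Nat.testBit mi y) || hs.any fun h => Nat.beq h.1 y) &&
      sameBits m fun v => Nat.testBit mj v && hs.all fun h => Nat.beq (table.imgW (fullWord h.2) v) v

/-- The members of a listed set which a map carries into another set. -/
noncomputable def pullK (P : List ℕ) (p q m : ℕ) (l : List ℕ) : Bool :=
  Nat.beq (maskOf l) p && Nat.beq (maskOf (l.filter fun v => Nat.testBit q (lk P v))) m

/-- A run of a program with the sets and the recorded points so far. -/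
noncomputable def runK : List Cmd → List ℕ → List ℕ → Bool
  | [], _, pts => genPts.all fun g => pts.contains g
  | .fixm f m :: r, ms, pts =>
      useK phis pts f && sameBits m (fun v => Nat.beq (lk (tabOf τT phis f) v) v) && runK r (ms ++ [m]) pts
  | .single b :: r, ms, pts => pts.contains b && runK r (ms ++ [2 ^ b]) pts
  | .compl i m :: r, ms, pts =>
      Nat.blt i ms.length && sameBits m (fun v => !(Nat.testBit (ms.getD i 0) v)) && runK r (ms ++ [m]) pts
  | .inter i j m :: r, ms, pts =>
      Nat.blt i ms.length && Nat.blt j ms.length && Nat.beq m (Nat.land (ms.getD i 0) (ms.getD j 0)) &&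
        runK r (ms ++ [m]) pts
  | .sdiff i j m :: r, ms, pts =>
      Nat.blt i ms.length && Nat.blt j ms.length &&
        Nat.beq m (Nat.xor (ms.getD i 0) (Nat.land (ms.getD i 0) (ms.getD j 0))) && runK r (ms ++ [m]) pts
  | .pull f i j m l :: r, ms, pts =>
      useK phis pts f && Nat.blt i ms.length && Nat.blt j ms.length &&
        pullK (tabOf τT phis f) (ms.getD i 0) (ms.getD j 0) m l && runK r (ms ++ [m]) pts
  | .common i j m hs :: r, ms, pts =>
      Nat.blt i ms.length && Nat.blt j ms.length && commonK (ms.getD i 0) (ms.getD j 0) m hs &&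
        runK r (ms ++ [m]) pts
  | .pin b i :: r, ms, pts =>
      Nat.blt b 3510 && Nat.blt i ms.length && Nat.testBit (ms.getD i 0) b &&
        Nat.beq (countB (ms.getD i 0)) 1 && runK r ms (b :: pts)
  | .level b i c :: r, ms, pts =>
      Nat.blt b 3510 && Nat.blt i ms.length && Nat.testBit (ms.getD i 0) b &&
        Nat.beq (countB (ms.getD i 0)) c && runK r ms (b :: pts)

/-- The bound given by a program. -/
def prodK : List Cmd → ℕ
  | [] => 1
  | .level _ _ c :: r => c * prodK r
  | _ :: r => prodK r

theorem testBit_maskOf' (l : List ℕ) (p : ℕ) : Nat.testBit (maskOf l) p = true ↔ p ∈ l := by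
  induction l with
  | nil => simp [maskOf]
  | cons a l ih =>
    change Nat.testBit (1 <<< a ||| maskOf l) p = true ↔ _
    rw [Nat.testBit_or, Bool.or_eq_true, ih, Nat.one_shiftLeft, Nat.testBit_two_pow, decide_eq_true_eq,
      List.mem_cons]
    exact or_congr eq_comm Iff.rfl

theorem pm_hom (α : MulAut Fi22) (g : Fi22) (p : Fin table.N) : pm α (hom g p) = hom (α g) (pm α p) :=
  dp_injective (by rw [← pm_spec, ← conj_dp, ← conj_dp, map_mul, map_mul, map_inv, pm_spec])

/-- A set of points is invariant under a subgroup. -/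
def Invar (H : Subgroup (MulAut Fi22)) (m : ℕ) : Prop :=
  ∀ α ∈ H, ∀ v : Fin table.N, Nat.testBit m (pm α v) = Nat.testBit m v

/-- The points with a bit. -/
noncomputable def bitSet (m : ℕ) : Finset (Fin table.N) := Finset.univ.filter fun v => Nat.testBit m (v : ℕ) = true

theorem card_bitSet (m : ℕ) : (bitSet m).card = countB m := by
  have key : ∀ n, ((Finset.range n).filter fun v => Nat.testBit m v = true).card =
      (Nat.rec 0 (fun v ih => bif Nat.testBit m v then Nat.succ ih else ih) n : ℕ) := by
    intro n
    induction n with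
    | zero => rfl
    | succ n ih =>
      show _ = (bif Nat.testBit m n then Nat.succ _ else _)
      rw [Finset.range_add_one, Finset.filter_insert, ← ih]
      by_cases h : Nat.testBit m n = true
      · rw [h, if_pos rfl, Finset.card_insert_of_notMem (by simp)]
        rfl
      · rw [if_neg h, Bool.eq_false_iff.mpr h]
        rfl
  refine Eq.trans ?_ (key 3510)
  refine Finset.card_bij (fun u _ => (u : ℕ)) (fun u hu => ?_) (fun a _ b _ e => Fin.ext e) (fun v hv => ?_)
  · simp only [bitSet, Finset.mem_filter, Finset.mem_univ, true_and] at hu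
    exact Finset.mem_filter.2 ⟨Finset.mem_range.2 u.2, hu⟩
  · obtain ⟨hv1, hv2⟩ := Finset.mem_filter.1 hv
    exact ⟨⟨v, Finset.mem_range.1 hv1⟩, by simp [bitSet, hv2], rfl⟩

theorem sameBits_spec {m : ℕ} {g : ℕ → Bool} (h : sameBits m g = true) (v : Fin table.N) :
    Nat.testBit m v = g v := by
  have h' := List.all_eq_true.1 h v.1 (List.mem_range.2 v.2)
  revert h'
  cases Nat.testBit m v <;> cases g v <;> simp

theorem invar_le {H K : Subgroup (MulAut Fi22)} (hle : K ≤ H) {m : ℕ} (h : Invar H m) : Invar K m :=
  fun α hα => h α (hle hα)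

theorem run_spec {τ : Bool × List ℕ} (hok : Ok τ) (hτ : tabK τ τT = true) (hphi : phis.all phiK = true) :
    ∀ (prog : List Cmd) (ms pts : List ℕ) (H : Subgroup (MulAut Fi22)), runK τT phis prog ms pts = true →
      (∀ α ∈ H, Commute α (ev τ)) → (∀ m ∈ ms, Invar H m) → (∀ p ∈ pts, p < table.N) →
      (∀ p ∈ pts, ∀ α ∈ H, ∀ v : Fin table.N, (v : ℕ) = p → pm α v = v) → Nat.card H ≤ prodK prog := by
  classical
  have := finite_aut
  intro prog
  induction prog with
  | nil =>
    intro ms pts H h _ _ _ hp
    simp only [runK, List.all_eq_true, List.contains_iff_mem] at h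
    have hb : H = ⊥ := (Subgroup.eq_bot_iff_forall _).2 fun α hα => eq_of_gpt fun x hx => by
      rw [map_one, Equiv.Perm.one_apply]
      refine hp _ (h _ ?_) α hα _ (gpt_val hx)
      rw [List.getD_eq_getElem _ _ (show x < genPts.length from hx)]
      exact List.getElem_mem _
    rw [hb, Subgroup.card_bot]
    rfl
  | cons cmd r ih =>
    intro ms pts H h hc hm hlt hp
    have hmap : ∀ f, useK phis pts f = true → ∀ v : Fin table.N, lk (tabOf τT phis f) v < table.N ∧
        ∀ α ∈ H, ∀ w : Fin table.N, (w : ℕ) = lk (tabOf τT phis f) v →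
          ((pm α w : Fin table.N) : ℕ) = lk (tabOf τT phis f) (pm α v) := by
      intro f hf v
      rcases Nat.eq_zero_or_pos f with rfl | hpos
      · have hl : ∀ u : Fin table.N, lk τT u = ((pm (ev τ) u : Fin table.N) : ℕ) := fun u => by
          rw [pm_ev hok]
          exact Nat.eq_of_beq_eq_true (List.all_eq_true.1 hτ u.1 (List.mem_range.2 u.2))
        refine ⟨(hl v).symm ▸ Fin.is_lt _, fun α hα w hw => ?_⟩
        change (w : ℕ) = lk τT v at hw
        rw [show w = pm (ev τ) v from Fin.ext (hw.trans (hl v))]
        show _ = lk τT (pm α v)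
        rw [hl, ← Equiv.Perm.mul_apply, ← map_mul, (hc α hα).eq, map_mul, Equiv.Perm.mul_apply]
      · obtain ⟨k, rfl⟩ : ∃ k, f = k + 1 := ⟨f - 1, by omega⟩
        simp only [useK, Nat.add_sub_cancel, Bool.or_eq_true, Bool.and_eq_true, List.contains_iff_mem] at hf
        rcases hf with hf | ⟨hk, hb⟩
        · exact absurd (Nat.eq_of_beq_eq_true hf) (Nat.succ_ne_zero k)
        have hk' : k < phis.length := Nat.le_of_ble_eq_true hk
        rw [List.getD_eq_getElem _ _ hk'] at hb
        have hK := List.all_eq_true.1 hphi _ (List.getElem_mem hk')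
        simp only [phiK, Bool.and_eq_true] at hK
        obtain ⟨⟨-, hh⟩, ht⟩ := hK
        have hbl := hlt _ hb
        have hT : tabOf τT phis (k + 1) = (phis[k]).2.2 := by
          rw [tabOf, show Nat.beq (k + 1) 0 = false from rfl, cond_false, Nat.add_sub_cancel,
            List.getD_eq_getElem _ _ hk']
        have hl : ∀ u : Fin table.N, lk (phis[k]).2.2 u = ((hom (dp ⟨_, hbl⟩) u : Fin table.N) : ℕ) := fun u => by
          rw [dp_of_half (p := ⟨_, hbl⟩) hh, el_img (fullWord_lt hh)]
          exact Nat.eq_of_beq_eq_true (List.all_eq_true.1 ht u.1 (List.mem_range.2 u.2))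
        rw [hT]
        refine ⟨(hl v).symm ▸ Fin.is_lt _, fun α hα w hw => ?_⟩
        rw [show w = hom (dp ⟨_, hbl⟩) v from Fin.ext (hw.trans (hl v)), hl, pm_hom, pm_spec,
          hp _ hb α hα ⟨_, hbl⟩ rfl]
    have hnew : ∀ m, Invar H m → runK τT phis r (ms ++ [m]) pts = true → Nat.card H ≤ prodK r :=
      fun m hi hr => ih _ _ H hr hc (fun x hx => by
        rcases List.mem_append.1 hx with hx | hx
        exacts [hm x hx, (List.mem_singleton.1 hx) ▸ hi]) hlt hp
    have hget : ∀ i, Nat.blt i ms.length = true → Invar H (ms.getD i 0) := fun i hi => by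
      rw [List.getD_eq_getElem _ _ (Nat.le_of_ble_eq_true hi)]
      exact hm _ (List.getElem_mem _)
    cases cmd with
    | fixm f m =>
      simp only [runK, Bool.and_eq_true] at h
      obtain ⟨⟨hf, hs⟩, hr⟩ := h
      refine hnew m (fun α hα v => ?_) hr
      rw [sameBits_spec hs, sameBits_spec hs]
      obtain ⟨hlt', hmv⟩ := hmap f hf v
      have e := hmv α hα ⟨_, hlt'⟩ rfl
      rw [Bool.eq_iff_iff]
      constructor <;> intro hb <;> refine Nat.beq_eq.mpr ?_ <;> replace hb := Nat.eq_of_beq_eq_true hb
      · exact congrArg Fin.val ((pm α).injective (Fin.ext (e.trans hb) :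
          pm α ⟨_, hlt'⟩ = pm α v))
      · rw [← e, show (⟨_, hlt'⟩ : Fin table.N) = v from Fin.ext hb]
    | single b =>
      simp only [runK, Bool.and_eq_true, List.contains_iff_mem] at h
      refine hnew _ (fun α hα v => ?_) h.2
      rw [Nat.testBit_two_pow, Nat.testBit_two_pow, decide_eq_decide]
      constructor <;> intro e
      · rw [e, ← congrArg Fin.val ((pm α).injective (hp b h.1 α hα (pm α v) e.symm))]
      · rw [hp b h.1 α hα v e.symm]
        exact e
    | compl i m =>
      simp only [runK, Bool.and_eq_true] at h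
      refine hnew m (fun α hα v => ?_) h.2
      rw [sameBits_spec h.1.2, sameBits_spec h.1.2, hget i h.1.1 α hα v]
    | inter i j m =>
      simp only [runK, Bool.and_eq_true] at h
      refine hnew m (fun α hα v => ?_) h.2
      rw [show m = _ from Nat.eq_of_beq_eq_true h.1.2]
      show Nat.testBit (_ &&& _) _ = Nat.testBit (_ &&& _) _
      rw [Nat.testBit_and, Nat.testBit_and, hget i h.1.1.1 α hα v, hget j h.1.1.2 α hα v]
    | sdiff i j m =>
      simp only [runK, Bool.and_eq_true] at h
      refine hnew m (fun α hα v => ?_) h.2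
      rw [show m = _ from Nat.eq_of_beq_eq_true h.1.2]
      show Nat.testBit (_ ^^^ (_ &&& _)) _ = Nat.testBit (_ ^^^ (_ &&& _)) _
      rw [Nat.testBit_xor, Nat.testBit_xor, Nat.testBit_and, Nat.testBit_and, hget i h.1.1.1 α hα v,
        hget j h.1.1.2 α hα v]
    | pull f i j m l =>
      simp only [runK, pullK, Bool.and_eq_true] at h
      obtain ⟨⟨⟨⟨hf, hi⟩, hj⟩, hs1, hs2⟩, hr⟩ := h
      refine hnew m (fun α hα v => ?_) hr
      have hspec : ∀ u : ℕ, Nat.testBit m u =
          (Nat.testBit (ms.getD i 0) u && Nat.testBit (ms.getD j 0) (lk (tabOf τT phis f) u)) := fun u => by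
        rw [Bool.eq_iff_iff, Bool.and_eq_true, ← Nat.eq_of_beq_eq_true hs2, ← Nat.eq_of_beq_eq_true hs1,
          testBit_maskOf', testBit_maskOf', List.mem_filter]
      rw [hspec, hspec, hget i hi α hα v]
      obtain ⟨hlt', hmv⟩ := hmap f hf v
      rw [← hmv α hα ⟨_, hlt'⟩ rfl, hget j hj α hα]
    | common i j m hs =>
      simp only [runK, Bool.and_eq_true] at h
      obtain ⟨⟨⟨hi, hj⟩, hk⟩, hr⟩ := h
      simp only [commonK, Bool.and_eq_true, List.all_eq_true, Bool.or_eq_true, List.mem_range,
        List.any_eq_true] at hk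
      obtain ⟨⟨hh, hcov⟩, hm'⟩ := hk
      have hspec : ∀ v : Fin table.N, Nat.testBit m v = true ↔ Nat.testBit (ms.getD j 0) v = true ∧
          ∀ y : Fin table.N, Nat.testBit (ms.getD i 0) y = true → hom (dp y) v = v := by
        intro v
        rw [sameBits_spec hm' v, Bool.and_eq_true, List.all_eq_true]
        refine and_congr Iff.rfl ⟨fun hall y hy => ?_, fun hall x hx => ?_⟩
        · obtain hn | ⟨x, hx, hxy⟩ := hcov y.1 y.2
          · rw [hy] at hn; exact Bool.noConfusion hn
          · have he := Nat.eq_of_beq_eq_true hxy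
            have hhx := (hh x hx).1.2
            rw [he] at hhx
            rw [dp_of_half (p := y) hhx, Fin.ext_iff, el_img (fullWord_lt hhx)]
            exact Nat.eq_of_beq_eq_true (hall x hx)
        · obtain ⟨⟨hxb, hhx⟩, hxi⟩ := hh x hx
          have hxl : x.1 < table.N := by
            by_contra hge
            exact hge (Nat.le_of_ble_eq_true hxb)
          have := congrArg Fin.val (hall ⟨x.1, hxl⟩ hxi)
          rw [dp_of_half (p := ⟨x.1, hxl⟩) hhx, el_img (fullWord_lt hhx)] at this
          exact Nat.beq_eq.mpr this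
      refine hnew m (fun α hα v => ?_) hr
      rw [Bool.eq_iff_iff, hspec, hspec, hget j hj α hα v]
      refine and_congr Iff.rfl ⟨fun hall y hy => ?_, fun hall y hy => ?_⟩
      · refine (pm α).injective ?_
        rw [pm_hom, pm_spec]
        exact hall _ (by rw [hget i hi α hα y]; exact hy)
      · obtain ⟨z, rfl⟩ := (pm α).surjective y
        rw [hget i hi α hα z] at hy
        have := congrArg (pm α) (hall z hy)
        rwa [pm_hom, pm_spec] at this
    | pin b i =>
      simp only [runK, Bool.and_eq_true] at h
      obtain ⟨⟨⟨⟨hb, hi⟩, hbit⟩, hcount⟩, hr⟩ := h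
      have hb' : b < table.N := Nat.le_of_ble_eq_true hb
      refine ih _ _ H hr hc hm (fun p hp' => ?_) (fun p hp' α hα v hv => ?_)
      · rcases List.mem_cons.1 hp' with rfl | hp'
        exacts [hb', hlt p hp']
      · rcases List.mem_cons.1 hp' with rfl | hp'
        · have hv' : v ∈ bitSet (ms.getD i 0) := by
            simp only [bitSet, Finset.mem_filter, Finset.mem_univ, true_and]
            rw [hv]; exact hbit
          have hav : pm α v ∈ bitSet (ms.getD i 0) := by
            simp only [bitSet, Finset.mem_filter, Finset.mem_univ, true_and]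
            rw [hget i hi α hα v, hv]; exact hbit
          have h1 : (bitSet (ms.getD i 0)).card ≤ 1 := by
            rw [card_bitSet]; exact (Nat.eq_of_beq_eq_true hcount).le
          exact Finset.card_le_one.1 h1 _ hav _ hv'
        · exact hp p hp' α hα v hv
    | level b i c =>
      simp only [runK, Bool.and_eq_true] at h
      obtain ⟨⟨⟨⟨hb, hi⟩, hbit⟩, hcount⟩, hr⟩ := h
      have hb' : b < table.N := Nat.le_of_ble_eq_true hb
      let K : Subgroup (MulAut Fi22) :=
        H ⊓ (MulAction.stabilizer (Equiv.Perm (Fin table.N)) (⟨b, hb'⟩ : Fin table.N)).comap pm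
      have hK : Nat.card K ≤ prodK r := by
        refine ih _ _ K hr (fun α hα => hc α hα.1) (fun x hx => invar_le inf_le_left (hm x hx))
          (fun p hp' => ?_) (fun p hp' α hα v hv => ?_)
        · rcases List.mem_cons.1 hp' with rfl | hp'
          exacts [hb', hlt p hp']
        · rcases List.mem_cons.1 hp' with rfl | hp'
          · rw [show v = ⟨p, hb'⟩ from Fin.ext hv]
            exact hα.2
          · exact hp p hp' α hα.1 v hv
      have hidx : K.relIndex H ≤ c := by
        rw [← Nat.eq_of_beq_eq_true hcount, ← card_bitSet, Subgroup.relIndex, Subgroup.index,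
          ← Nat.card_eq_finsetCard]
        · refine Nat.card_le_card_of_injective (Quotient.lift
            (fun α : H => (⟨pm α.1 ⟨b, hb'⟩, by
              simp only [bitSet, Finset.mem_filter, Finset.mem_univ, true_and]
              rw [hget i hi α.1 α.2]; exact hbit⟩ : bitSet (ms.getD i 0)))
            fun α β e => ?_) ?_
          · have e' := (Subgroup.mem_subgroupOf.1 (QuotientGroup.leftRel_apply.1 e)).2
            apply Subtype.ext
            have e2 : pm (α⁻¹ * β : H).1 ⟨b, hb'⟩ = ⟨b, hb'⟩ := e'
            have := congrArg (pm α.1) e2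
            rw [← Equiv.Perm.mul_apply, ← map_mul, Subgroup.coe_mul, Subgroup.coe_inv, mul_inv_cancel_left] at this
            exact this.symm
          · intro x y
            induction x using QuotientGroup.induction_on with
            | H α =>
              induction y using QuotientGroup.induction_on with
              | H β =>
                intro e
                refine QuotientGroup.eq.2 (Subgroup.mem_subgroupOf.2 ⟨(α⁻¹ * β).2, ?_⟩)
                show pm (α⁻¹ * β : H).1 ⟨b, hb'⟩ = _
                rw [Subgroup.coe_mul, Subgroup.coe_inv, map_mul, map_inv, Equiv.Perm.mul_apply,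
                  ← show pm α.1 ⟨b, hb'⟩ = pm β.1 ⟨b, hb'⟩ from congrArg Subtype.val e, Equiv.Perm.inv_def,
                  Equiv.symm_apply_apply]
      have hh := (K.subgroupOf H).card_mul_index
      have h2 : Nat.card (K.subgroupOf H) = Nat.card K :=
        Nat.card_congr (Subgroup.subgroupOfEquivOfLe inf_le_left).toEquiv
      rw [← hh, h2, mul_comm]
      exact Nat.mul_le_mul hidx hK

/-- The fixed points in Fi22 of an automorphism. -/
noncomputable def fixSub (t : MulAut Fi22) : Subgroup Fi22 where
  carrier := {g | t g = g}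
  one_mem' := map_one t
  mul_mem' {a b} ha hb := by show t (a * b) = a * b; rw [map_mul, ha, hb]
  inv_mem' {a} ha := by show t a⁻¹ = a⁻¹; rw [map_inv, ha]

theorem mem_fixSub {t : MulAut Fi22} {g : Fi22} : g ∈ fixSub t ↔ t g = g := Iff.rfl

theorem card_fix_le {τ : Bool × List ℕ} (hok : Ok τ) (hflag : τ.1 = true) {τT : List ℕ} {phis : List Phi}
    (hτ : tabK τ τT = true) (hphi : phis.all phiK = true) (prog : List Cmd)
    (hrun : runK τT phis prog [] [] = true) : 2 * Nat.card (fixSub (ev τ)) ≤ prodK prog := by
  classical
  have := finite_aut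
  have := finite
  let H : Subgroup (MulAut Fi22) := Subgroup.centralizer ({ev τ} : Set (MulAut Fi22))
  refine le_trans ?_ (run_spec τT phis hok hτ hphi prog [] [] H hrun
    (fun α hα => Subgroup.mem_centralizer_singleton_iff.1 hα) (by simp) (by simp) (by simp))
  have hτH : ev τ ∈ H := Subgroup.mem_centralizer_singleton_iff.2 rfl
  have hgH : ∀ g : fixSub (ev τ), MulAut.conj g.1 ∈ H := fun g => by
    refine Subgroup.mem_centralizer_singleton_iff.2 (MulEquiv.ext fun z => ?_)
    simp only [MulAut.mul_apply, MulAut.conj_apply, map_mul, map_inv, mem_fixSub.1 g.2]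
  have hout : ∀ g : Fi22, ev τ ≠ MulAut.conj g := by
    intro g e
    have : ev τ = sym * MulAut.conj (el τ.2) := by rw [ev, hflag]; rfl
    rw [this] at e
    exact sym_not_inner ⟨g * (el τ.2)⁻¹, by rw [map_mul, ← e, map_inv, mul_inv_cancel_right]⟩
  let f : Bool × fixSub (ev τ) → H := fun x =>
    ⟨(bif x.1 then ev τ else 1) * MulAut.conj x.2.1, mul_mem (by cases x.1; exacts [one_mem _, hτH]) (hgH x.2)⟩
  have hf : Function.Injective f := by
    rintro ⟨a, g⟩ ⟨b, g'⟩ e
    have e' := congrArg Subtype.val e
    have hinj : Function.Injective (MulAut.conj : Fi22 → MulAut Fi22) := fun x y h => by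
      refine (inv_mul_eq_one.1 (conj_eq_one (g := y⁻¹ * x) fun z => ?_)).symm
      have hz : x * z * x⁻¹ = y * z * y⁻¹ := DFunLike.congr_fun h z
      calc y⁻¹ * x * z * (y⁻¹ * x)⁻¹ = y⁻¹ * (x * z * x⁻¹) * y := by group
        _ = z := by rw [hz]; group
    cases a <;> cases b <;> simp only [f, cond_false, cond_true, one_mul] at e'
    · exact Prod.ext rfl (Subtype.ext (hinj e'))
    · exact absurd (eq_mul_inv_of_mul_eq e'.symm |>.trans (by rw [← map_inv, ← map_mul])) (hout _)
    · exact absurd (eq_mul_inv_of_mul_eq e' |>.trans (by rw [← map_inv, ← map_mul])) (hout _)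
    · exact Prod.ext rfl (Subtype.ext (hinj (mul_left_cancel e')))
  have := Nat.card_le_card_of_injective f hf
  simpa [Nat.card_prod] using this

end CfsgLib.Sporadic.FiTransfer.Outer
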